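import Mathlib
import Cfsg.Agent.H675.Nd.HB2
import Cfsg.Agent.H566.Glaub
import Cfsg.Agent.H594.GlauUp

/-!
# A minimal counterexample to the commutativity of `J`: structure of `J`
-/

set_option autoImplicit false
set_option linter.style.haveILetI false
set_option linter.unusedSectionVars false
open Cfsg

namespace Cfsg.Agent.H675.Nd

open Cfsg.Agent.Characters.Core Cfsg.Agent.Characters.Clifford Cfsg.Agent.H672 Cfsg.Agent.H672.RM
open Cfsg.Agent.H597.FrobA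
open scoped commutatorElement

universe u v w

structure MB {G : Type u} [Group G] [Finite G] (N J : Subgroup G) [N.Normal] [J.Normal] (x : G)
    (p : ℕ) : Prop where
  hyp : HB N J x p
  hne : ⁅J, J⁆ ≠ ⊥
  hmin : ∀ M : Subgroup G, M.Normal → M ≠ ⊥ → M ≤ J → ⁅J, J⁆ ≤ M
  hcen : ∀ u ∈ N, u ∈ Subgroup.center G → ∀ r : ℕ, r.Prime → r ≠ p → u ^ r = 1 → u = 1

section c2

variable {G : Type u} [Group G] [Finite G] {J : Subgroup G} [hJn : J.Normal]

theorem c2_J_le_stab (hC : ∀ z ∈ ⁅J, J⁆, ∀ j ∈ J, z * j = j * z)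
    (γ : (⁅J, J⁆ : Subgroup G) →* ℂˣ) : J ≤ stab (lf γ : (⁅J, J⁆ : Subgroup G) → ℂ) := by
  intro j hj
  rw [mem_stab_iff]
  exact cl_of_comm (fun z hz => (hC z hz j hj).symm) γ

theorem c2_res (hC : ∀ z ∈ ⁅J, J⁆, ∀ j ∈ J, z * j = j * z) (γ : (⁅J, J⁆ : Subgroup G) →* ℂˣ)
    {μ : J → ℂ} (hμ : IsIrrCharacter J μ)
    (ho : Over (Subgroup.inclusion (comm_le J)) μ (lf γ)) :
    ∀ z : (⁅J, J⁆ : Subgroup G), μ ⟨z, comm_le J z.2⟩ = μ 1 * γ z := by
  obtain ⟨c, hc, hc'⟩ := res_of_inv (comm_le J) (isIrr_lf γ) (c2_J_le_stab hC γ) hμ ho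
  have h1 := hc' 1
  rw [map_one, lf_apply, map_one, Units.val_one, mul_one] at h1
  intro z
  have h2 := hc' z
  rw [← h1] at h2
  exact h2

theorem c2_over (γ : (⁅J, J⁆ : Subgroup G) →* ℂˣ) {μ : J → ℂ} (hμ : IsIrrCharacter J μ)
    (hres : ∀ z : (⁅J, J⁆ : Subgroup G), μ ⟨z, comm_le J z.2⟩ = μ 1 * γ z) :
    Over (Subgroup.inclusion (comm_le J)) μ (lf γ) := by
  classical
  letI := Fintype.ofFinite (⁅J, J⁆ : Subgroup G)
  rw [over_iff]
  have e : μ ∘ Subgroup.inclusion (comm_le J) = μ 1 • lf γ := funext fun z => hres z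
  rw [e, classInner_smul_left, classInner_irr_self (isIrr_lf γ), mul_one]
  exact isIrr_apply_one_ne_zero hμ

theorem c2_ne_one {γ : (⁅J, J⁆ : Subgroup G) →* ℂˣ} (hγ : γ ≠ 1) {μ : J → ℂ}
    (hμ : IsIrrCharacter J μ) (ho : Over (Subgroup.inclusion (comm_le J)) μ (lf γ)) :
    charDegree μ ≠ 1 := nonlin_of_over (comm_le J) le_rfl hμ (isIrr_lf γ) (lf_ne_one hγ) ho

/-- The stabilizer of `μ` fixes `γ`. -/
theorem c2_stab_le (hC : ∀ z ∈ ⁅J, J⁆, ∀ j ∈ J, z * j = j * z) (γ : (⁅J, J⁆ : Subgroup G) →* ℂˣ)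
    {μ : J → ℂ} (hμ : IsIrrCharacter J μ)
    (ho : Over (Subgroup.inclusion (comm_le J)) μ (lf γ)) :
    stab μ ≤ stab (lf γ : (⁅J, J⁆ : Subgroup G) → ℂ) := by
  intro g hg
  rw [mem_stab_iff]
  apply MonoidHom.ext
  intro z
  rw [cl_apply]
  have hres := c2_res hC γ hμ ho
  have h1 := congrFun hg.2 ⟨z, comm_le J z.2⟩
  rw [tw_apply (mem_nrm J g)] at h1
  have hz : g * (z : G) * g⁻¹ ∈ ⁅J, J⁆ := Subgroup.Normal.conj_mem inferInstance _ z.2 g
  have h2 := hres ⟨g * (z : G) * g⁻¹, hz⟩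
  have h3 := hres z
  have h4 : μ 1 * (γ ⟨g * (z : G) * g⁻¹, hz⟩ : ℂ) = μ 1 * (γ z : ℂ) := by
    rw [← h2, ← h3]
    exact h1
  exact Units.ext (mul_left_cancel₀ (isIrr_apply_one_ne_zero hμ) h4)

/-- Transitivity of the linear characters of `J` on the characters over `γ`. -/
theorem c2_trans (γ : (⁅J, J⁆ : Subgroup G) →* ℂˣ) {μ μ' : J → ℂ}
    (hμ : IsIrrCharacter J μ) (ho : Over (Subgroup.inclusion (comm_le J)) μ (lf γ))
    (hμ' : IsIrrCharacter J μ') (ho' : Over (Subgroup.inclusion (comm_le J)) μ' (lf γ)) :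
    ∃ l : J →* ℂˣ, μ' = lf l * μ := by
  classical
  letI := Fintype.ofFinite J
  letI := Fintype.ofFinite ((⁅J, J⁆ : Subgroup G).subgroupOf J)
  obtain ⟨l, -, hl⟩ := Cfsg.Agent.H594.Glau.exists_linear_mul ((⁅J, J⁆ : Subgroup G).subgroupOf J)
    (fun a b => by
      rw [Subgroup.mem_subgroupOf]
      have := Subgroup.commutator_mem_commutator a.2 b.2
      rwa [commutatorElement_def] at this) hμ hμ' (isIrr_sub (comm_le J) (isIrr_lf γ))
    ((over_subtype_iff _ _ _).1 ((over_iff_sub (comm_le J) μ (lf γ)).1 ho))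
    ((over_subtype_iff _ _ _).1 ((over_iff_sub (comm_le J) μ' (lf γ)).1 ho'))
  exact ⟨l, hl⟩

theorem c2_over_mul (hC : ∀ z ∈ ⁅J, J⁆, ∀ j ∈ J, z * j = j * z)
    (γ : (⁅J, J⁆ : Subgroup G) →* ℂˣ) {μ : J → ℂ}
    (hμ : IsIrrCharacter J μ) (ho : Over (Subgroup.inclusion (comm_le J)) μ (lf γ))
    (l : J →* ℂˣ) : Over (Subgroup.inclusion (comm_le J)) (lf l * μ) (lf γ) := by
  have hi : IsIrrCharacter J (lf l * μ) := isIrr_mul_lf l hμ
  refine c2_over γ hi fun z => ?_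
  have h1 := c2_res hC γ hμ ho z
  have h2 : l ⟨z, comm_le J z.2⟩ = 1 := hom_commutator l z.2 _
  simp only [Pi.mul_apply, lf_apply, map_one, Units.val_one, one_mul]
  rw [h2, h1, Units.val_one, one_mul]

/-- Elements acting trivially on `Lin J` centralize `J'`. -/
theorem c2_comm (hC : ∀ z ∈ ⁅J, J⁆, ∀ j ∈ J, z * j = j * z) {n : G}
    (hn : ∀ l : J →* ℂˣ, cl n l = l) : ∀ z ∈ ⁅J, J⁆, n * z = z * n := by
  have h1 : ⁅J, J⁆ ≤ Subgroup.centralizer ({n} : Set G) := by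
    rw [Subgroup.commutator_le]
    intro a ha b hb
    rw [Subgroup.mem_centralizer_singleton_iff]
    have ha' := diff_mem hn ha
    have hb' := diff_mem hn hb
    set z := n * a * n⁻¹ * a⁻¹ with hz
    set w := n * b * n⁻¹ * b⁻¹ with hw
    have e1 : n * a * n⁻¹ = z * a := by rw [hz]; group
    have e2 : n * b * n⁻¹ = w * b := by rw [hw]; group
    have hzC : ∀ j ∈ J, z * j = j * z := hC z ha'
    have hwC : ∀ j ∈ J, w * j = j * w := hC w hb'
    have hwJ : w ∈ J := comm_le J hb'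
    have e3 : n * ⁅a, b⁆ * n⁻¹ = ⁅a, b⁆ := by
      have e4 : n * ⁅a, b⁆ * n⁻¹ = ⁅n * a * n⁻¹, n * b * n⁻¹⁆ := by
        rw [commutatorElement_def, commutatorElement_def]; group
      rw [e4, e1, e2, commutatorElement_def, commutatorElement_def]
      have c1 : Commute z a := hzC a ha
      have c2 : Commute z b := hzC b hb
      have c3 : Commute z w := hzC w hwJ
      have c4 : Commute w a := hwC a ha
      have c5 : Commute w b := hwC b hb
      calc z * a * (w * b) * (z * a)⁻¹ * (w * b)⁻¹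
          = z * (a * w) * b * a⁻¹ * z⁻¹ * b⁻¹ * w⁻¹ := by group
        _ = z * (w * a) * b * a⁻¹ * z⁻¹ * b⁻¹ * w⁻¹ := by rw [c4.eq]
        _ = z * w * (a * b * a⁻¹) * (z⁻¹ * b⁻¹) * w⁻¹ := by group
        _ = z * w * (a * b * a⁻¹) * (b⁻¹ * z⁻¹) * w⁻¹ := by rw [c2.inv_left.inv_right.eq]
        _ = z * w * ((a * b * a⁻¹ * b⁻¹) * (z⁻¹ * w⁻¹)) := by group
        _ = z * w * ((z⁻¹ * w⁻¹) * (a * b * a⁻¹ * b⁻¹)) := by
            have c6 : Commute (a * b * a⁻¹ * b⁻¹) (z⁻¹ * w⁻¹) := by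
              refine Commute.mul_right ?_ ?_
              · exact (((c1.symm.mul_left c2.symm).mul_left c1.symm.inv_left).mul_left
                  c2.symm.inv_left).inv_right
              · exact (((c4.symm.mul_left c5.symm).mul_left c4.symm.inv_left).mul_left
                  c5.symm.inv_left).inv_right
            rw [c6.eq]
        _ = z * (w * z⁻¹) * w⁻¹ * (a * b * a⁻¹ * b⁻¹) := by group
        _ = z * (z⁻¹ * w) * w⁻¹ * (a * b * a⁻¹ * b⁻¹) := by rw [c3.symm.inv_right.eq]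
        _ = a * b * a⁻¹ * b⁻¹ := by group
    exact (mul_inv_eq_iff_eq_mul.1 e3).symm
  intro z hz
  exact (Subgroup.mem_centralizer_singleton_iff.1 (h1 hz)).symm

end c2

variable {G : Type u} [Group G] [Finite G] {N J : Subgroup G} {x : G} {p : ℕ} [hN : N.Normal]
  [hJn : J.Normal]

theorem HB.nil (h : HB N J x p) : Group.IsNilpotent J := by
  classical
  by_cases hJ : J = ⊥
  · subst hJ
    haveI : Subsingleton (⊥ : Subgroup G) := inferInstance
    exact Group.isNilpotent_of_subsingleton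
  let φ : J ≃* J := cj (mem_nrm J x)
  have hφ : ∀ j : J, ((φ j : J) : G) = x * j * x⁻¹ := fun _ => rfl
  have hfix : ∀ j : J, φ j = j → j = 1 := by
    intro j hj
    have h1 := congrArg Subtype.val hj
    rw [hφ] at h1
    exact Subtype.ext (h.fix j.2 (mul_inv_eq_iff_eq_mul.1 h1))
  have hpow : ∀ (k : ℕ) (j : J), (((φ ^ k : MulAut J) j : J) : G) = x ^ k * j * (x ^ k)⁻¹ := by
    intro k
    induction k with
    | zero => intro j; simp
    | succ k ih =>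
      intro j
      rw [pow_succ, MulAut.mul_apply, ih]
      change x ^ k * (x * j * x⁻¹) * (x ^ k)⁻¹ = _
      rw [pow_succ]
      group
  refine S0033.result φ (fun j hj => hfix j hj) p h.pr ?_
  haveI := Fact.mk h.pr
  refine orderOf_eq_prime ?_ ?_
  · apply MulEquiv.ext
    intro j
    apply Subtype.ext
    refine (hpow p j).trans ?_
    rw [h.xp]
    simp
  · intro e
    apply hJ
    rw [eq_bot_iff]
    intro j hj
    have h1 : φ ⟨j, hj⟩ = ⟨j, hj⟩ := by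
      rw [show (φ : MulAut J) = 1 from e]
      rfl
    exact Subgroup.mem_bot.2 (congrArg Subtype.val (hfix _ h1))

theorem MB.isPGroup (h : MB N J x p) : ∃ r : ℕ, r.Prime ∧ IsPGroup r J := by
  classical
  have hcard : Nat.card (⁅J, J⁆ : Subgroup G) ≠ 1 := fun e => h.hne (Subgroup.card_eq_one.1 e)
  obtain ⟨r, hr, hrd⟩ := Nat.exists_prime_and_dvd hcard
  refine ⟨r, hr, ?_⟩
  haveI := Fact.mk hr
  have hnil := h.hyp.nil
  rw [IsPGroup.iff_card]
  refine ⟨_, Nat.eq_prime_pow_of_unique_prime_dvd Nat.card_pos.ne' ?_⟩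
  intro q hq hqd
  by_contra hqr
  haveI := Fact.mk hq
  let Q : Sylow q J := default
  have htf := (Group.isNilpotent_of_finite_tfae (G := J)).out 0 3
  have hQn : (Q : Subgroup J).Normal := htf.1 hnil q inferInstance Q
  have hQc : (Q : Subgroup J).Characteristic := Q.characteristic_of_normal hQn
  have hM : ((Q : Subgroup J).map J.subtype).Normal := inferInstance
  have hM1 : (Q : Subgroup J).map J.subtype ≠ ⊥ := by
    intro e
    rw [Subgroup.map_eq_bot_iff_of_injective _ J.subtype_injective] at e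
    have h1 := Q.dvd_card_of_dvd_card hqd
    rw [e, Subgroup.card_bot] at h1
    exact hq.one_lt.ne' (Nat.dvd_one.1 h1)
  have h1 := h.hmin _ hM hM1 (Subgroup.map_subtype_le _)
  have h2 : Nat.card (⁅J, J⁆ : Subgroup G) ∣ Nat.card ((Q : Subgroup J).map J.subtype) :=
    Subgroup.card_dvd_of_le h1
  rw [Subgroup.card_map_of_injective J.subtype_injective] at h2
  obtain ⟨k, hk⟩ := IsPGroup.iff_card.1 Q.isPGroup'
  have h3 : r ∣ q ^ k := by rw [← hk]; exact hrd.trans h2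
  exact hqr ((Nat.prime_dvd_prime_iff_eq hr hq).1 (hr.dvd_of_dvd_pow h3)).symm

/-- The derived subgroup of `J` is central in `J`. -/
theorem MB.central' (h : MB N J x p) : ∀ z ∈ ⁅J, J⁆, ∀ j ∈ J, z * j = j * z := by
  obtain ⟨r, hr, hJr⟩ := h.isPGroup
  haveI := Fact.mk hr
  have hJ : Nontrivial J := by
    rw [Subgroup.nontrivial_iff_ne_bot]
    intro e
    apply h.hne
    rw [e, Subgroup.commutator_bot_left]
  have hc := hJr.center_nontrivial
  have hM1 : (Subgroup.center J).map J.subtype ≠ ⊥ := by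
    intro e
    rw [Subgroup.map_eq_bot_iff_of_injective _ J.subtype_injective] at e
    rw [Subgroup.nontrivial_iff_ne_bot] at hc
    exact hc e
  have h1 := h.hmin ((Subgroup.center J).map J.subtype) inferInstance hM1
    (Subgroup.map_subtype_le _)
  intro z hz j hj
  obtain ⟨w, hw, rfl⟩ := h1 hz
  have h2 := Subgroup.mem_center_iff.1 hw ⟨j, hj⟩
  exact (congrArg Subtype.val h2).symm

theorem MB.exists_not_mem (h : MB N J x p) : ∃ j ∈ J, j ∉ ⁅J, J⁆ := by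
  by_contra hcon
  push Not at hcon
  apply h.hne
  rw [eq_bot_iff, Subgroup.commutator_le]
  intro a ha b hb
  rw [Subgroup.mem_bot, commutatorElement_eq_one_iff_mul_comm]
  exact h.central' a (hcon a ha) b hb

theorem MB.exists_lin (h : MB N J x p) : ∃ l : J →* ℂˣ, l ≠ 1 := by
  obtain ⟨j, hj, hj'⟩ := h.exists_not_mem
  obtain ⟨β, -, hβ⟩ := exists_lin_ne (x := (⟨j, hj⟩ : J)) (comm_le J) le_rfl hj'
  exact ⟨β, fun e => hβ (by rw [e]; rfl)⟩

theorem MB.GG (h : MB N J x p) : ⁅(⁅J, J⁆ : Subgroup G), ⁅J, J⁆⁆ ≤ ⊥ := by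
  rw [Subgroup.commutator_le]
  intro a ha b hb
  rw [Subgroup.mem_bot, commutatorElement_eq_one_iff_mul_comm]
  exact h.central' a ha b (comm_le J hb)

/-- `Y = N_G(⟨x⟩)` centralizes the elements of `C_N(x)` lying in `N₁`. -/
theorem HB.Y_comm (h : HB N J x p) {l : J →* ℂˣ} (hl : l ≠ 1) {u : G}
    (hu : u ∈ N ⊓ stab (lf l : J → ℂ)) (hxu : x * u = u * x) {y : G} (hy : y ∈ YY x) :
    y * u = u * y := by
  have h1 : u * y * u⁻¹ * y⁻¹ ∈ J := h.centralL hl u hu y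
  -- `y u y⁻¹` centralizes `x`
  have h2 : Commute (y * u * y⁻¹) x := by
    obtain ⟨k, hk⟩ := Subgroup.mem_zpowers_iff.1
      ((Subgroup.mem_normalizer_iff.1 ((YY x).inv_mem hy) x).1 (Subgroup.mem_zpowers x))
    rw [inv_inv] at hk
    have h3 : Commute u (y⁻¹ * x * y) := by
      rw [← hk]
      exact (show Commute u x from hxu.symm).zpow_right k
    have h4 := h3.map (MulAut.conj y).toMonoidHom
    have e3 : (MulAut.conj y).toMonoidHom (y⁻¹ * x * y) = x := by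
      change y * (y⁻¹ * x * y) * y⁻¹ = x
      group
    rw [e3] at h4
    exact h4
  have h3 : x * (u * y * u⁻¹ * y⁻¹) = (u * y * u⁻¹ * y⁻¹) * x := by
    have e4 : u * y * u⁻¹ * y⁻¹ = u * (y * u * y⁻¹)⁻¹ := by group
    rw [e4]
    exact (show Commute x u from hxu).mul_right h2.symm.inv_right
  have h4 := h.fix h1 h3
  have h5 := mul_inv_eq_one.1 h4
  exact (mul_inv_eq_iff_eq_mul.1 h5).symm

theorem HB.mem_of_pow (h : HB N J x p) {r : ℕ} (hr : r.Prime) (hJr : IsPGroup r J) {u : G}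
    (hu : u ∈ N) {k : ℕ} (huk : u ^ r ^ k = 1) {l : J →* ℂˣ} (hl : l ≠ 1) :
    u ∈ N ⊓ stab (lf l : J → ℂ) := by
  obtain ⟨m, hm, hm'⟩ := exists_fixed_lin hr hJr huk hl
  exact h.TL_le hm hl ⟨hu, mem_stab_iff.2 hm'⟩

/-- The index of the stabilizer of a nonlinear `μ` is not divisible by the linear degree. -/
theorem HB.no_dvd (h : HB N J x p) {μ : J → ℂ} (hμ : IsIrrCharacter J μ)
    (hμ1 : charDegree μ ≠ 1) {l : J →* ℂˣ} (hl : l ≠ 1)
    (hd : (stab (lf l : J → ℂ)).index ∣ (stab μ).index) : False := by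
  obtain ⟨ψ, hψ, hψo⟩ := exists_over_subtype J hμ
  obtain ⟨η, hη, ho, -, hdψ⟩ := eta_top hμ hψ hψo
  obtain ⟨⟨ψ', hψ', -, hd'⟩, -, -⟩ := h.GTL hl
  have h1 := h.anti ψ' ψ hψ' hψ (by rw [hd']; exact h.index_ne hl)
    (by rw [hd', hdψ]; exact hd.mul_right _)
  rw [hd', hdψ] at h1
  have h2 : charDegree η = 1 := by
    have h3 : (stab (lf l : J → ℂ)).index ≤ (stab μ).index := Nat.le_of_dvd (index_pos _) hd
    have h4 := charDegree_pos hη
    have h5 := index_pos (stab μ)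
    by_contra hne
    have h6 : 2 ≤ charDegree η := by omega
    nlinarith
  apply hμ1
  have h3 := (div_dvd_of_over (le_stab' hμ) (le_nrm J _) hη hμ ho).1
  rw [h2] at h3
  exact Nat.dvd_one.1 h3

/-- `r`-elements of `N` centralizing `x` centralize `J`. -/
theorem MB.comm_of_pow (h : MB N J x p) {r : ℕ} (hr : r.Prime) (hJr : IsPGroup r J) {u : G}
    (hu : u ∈ N) (hxu : x * u = u * x) {k : ℕ} (huk : u ^ r ^ k = 1) : ∀ j ∈ J, u * j = j * u := by
  classical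
  have hC := h.central'
  have hyp := h.hyp
  have hut : ∀ l : J →* ℂˣ, cl u l = l := by
    intro l
    by_cases hl : l = 1
    · rw [hl, cl_hone]
    · exact mem_stab_iff.1 (hyp.mem_of_pow hr hJr hu huk hl).2
  let δ : J →* (⁅J, J⁆ : Subgroup G) := MonoidHom.mk'
    (fun j => ⟨u * j * u⁻¹ * (j : G)⁻¹, diff_mem hut j.2⟩) (by
      intro a b
      apply Subtype.ext
      change u * (a * b) * u⁻¹ * ((a : G) * b)⁻¹ = u * a * u⁻¹ * (a : G)⁻¹ * (u * b * u⁻¹ * (b : G)⁻¹)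
      have h1 := hC _ (diff_mem hut b.2) (a : G)⁻¹ (J.inv_mem a.2)
      calc u * (a * b) * u⁻¹ * ((a : G) * b)⁻¹
          = u * a * u⁻¹ * ((u * b * u⁻¹ * (b : G)⁻¹) * (a : G)⁻¹) := by group
        _ = u * a * u⁻¹ * ((a : G)⁻¹ * (u * b * u⁻¹ * (b : G)⁻¹)) := by rw [h1]
        _ = _ := by group)
  have hδ : ∀ j : J, ((δ j : (⁅J, J⁆ : Subgroup G)) : G) = u * j * u⁻¹ * (j : G)⁻¹ := fun _ => rfl
  intro j₀ hj₀
  by_contra hcon
  have hδ0 : ((δ ⟨j₀, hj₀⟩ : (⁅J, J⁆ : Subgroup G)) : G) ∉ (⊥ : Subgroup G) := by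
    rw [hδ, Subgroup.mem_bot]
    intro e
    apply hcon
    have := mul_inv_eq_one.1 e
    exact mul_inv_eq_iff_eq_mul.1 this
  obtain ⟨γ, -, hγ⟩ := exists_lin_ne (x := δ ⟨j₀, hj₀⟩) bot_le h.GG hδ0
  have hγ1 : γ ≠ 1 := fun e => hγ (by rw [e]; rfl)
  have hl1 : γ.comp δ ≠ 1 := fun e => hγ (DFunLike.congr_fun e ⟨j₀, hj₀⟩)
  have hst : stab (lf γ : (⁅J, J⁆ : Subgroup G) → ℂ) ≤ stab (lf (γ.comp δ) : J → ℂ) := by
    intro n hn'
    rw [mem_stab_iff] at hn'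
    obtain ⟨j, hj, c, hc, rfl⟩ := hyp.frat n
    have h1 : ∀ ξ : (⁅J, J⁆ : Subgroup G) →* ℂˣ, cl j ξ = ξ := fun ξ =>
      cl_of_comm (fun z hz => (hC z hz j hj).symm) ξ
    rw [cl_mul, h1] at hn'
    rw [mem_stab_iff, cl_mul, cl_of_mem hj]
    apply MonoidHom.ext
    intro k
    rw [cl_apply]
    have huc := hyp.Y_comm hl1 (hyp.mem_of_pow hr hJr hu huk hl1) hxu hc
    have e : (δ ⟨c * k * c⁻¹, hJn.conj_mem k k.2 c⟩ : (⁅J, J⁆ : Subgroup G)) =
        ⟨c * (δ k : G) * c⁻¹, Subgroup.Normal.conj_mem inferInstance _ (δ k).2 c⟩ := by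
      apply Subtype.ext
      rw [hδ]
      change u * (c * k * c⁻¹) * u⁻¹ * (c * k * c⁻¹)⁻¹ = c * (u * k * u⁻¹ * (k : G)⁻¹) * c⁻¹
      have huc' : c⁻¹ * u⁻¹ = u⁻¹ * c⁻¹ := by
        rw [← mul_inv_rev, ← mul_inv_rev, huc]
      calc u * (c * k * c⁻¹) * u⁻¹ * (c * k * c⁻¹)⁻¹
          = (u * c) * k * (c⁻¹ * u⁻¹) * c * (k : G)⁻¹ * c⁻¹ := by group
        _ = (c * u) * k * (u⁻¹ * c⁻¹) * c * (k : G)⁻¹ * c⁻¹ := by rw [huc', ← huc]
        _ = _ := by group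
    rw [MonoidHom.comp_apply, e]
    exact DFunLike.congr_fun hn' (δ k)
  -- characters over `γ`
  obtain ⟨μ, hμ, hμo⟩ := exists_over_incl (comm_le J) (isIrr_lf γ)
  exact hyp.no_dvd hμ (c2_ne_one hγ1 hμ hμo) hl1
    (Subgroup.index_dvd_of_le ((c2_stab_le hC γ hμ hμo).trans hst))

theorem MB.ne_p (h : MB N J x p) {r : ℕ} (hr : r.Prime) (hJr : IsPGroup r J) : r ≠ p := by
  rintro rfl
  haveI := Fact.mk hr
  obtain ⟨a, ha⟩ := IsPGroup.iff_card.1 hJr
  apply h.hyp.pJ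
  rw [ha]
  refine dvd_pow_self r ?_
  rintro rfl
  rw [pow_zero] at ha
  apply h.hne
  rw [Subgroup.card_eq_one.1 ha, Subgroup.commutator_bot_left]

theorem MB.eq_one_of_pow (h : MB N J x p) {r : ℕ} (hr : r.Prime) (hJr : IsPGroup r J) {u : G}
    (hu : u ∈ N) (hxu : x * u = u * x) (hur : u ^ r = 1) : u = 1 := by
  have hcJ := h.comm_of_pow hr hJr hu hxu (k := 1) (by rwa [pow_one])
  obtain ⟨l, hl⟩ := h.exists_lin
  have huT := h.hyp.mem_of_pow hr hJr hu (k := 1) (by rwa [pow_one]) hl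
  have hcen : u ∈ Subgroup.center G := by
    rw [Subgroup.mem_center_iff]
    intro g
    obtain ⟨j, hj, y, hy, rfl⟩ := h.hyp.frat g
    have h1 := h.hyp.Y_comm hl huT hxu hy
    rw [mul_assoc, ← hcJ j hj, ← mul_assoc, h1, mul_assoc]
  exact h.hcen u hu hcen r hr (h.ne_p hr hJr) hur

theorem MB.not_dvd (h : MB N J x p) {r : ℕ} (hr : r.Prime) (hJr : IsPGroup r J) :
    ¬ r ∣ J.relIndex N := by
  haveI := Fact.mk hr
  intro hd
  have hd' : r ∣ Nat.card (N ⧸ J.subgroupOf N) := hd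
  obtain ⟨q, hq⟩ := exists_prime_orderOf_dvd_card' r hd'
  obtain ⟨n, rfl⟩ := QuotientGroup.mk_surjective q
  obtain ⟨j, hj, c, hc, hxc, e⟩ := h.hyp.exists_mul n.2
  have h1 : (n : G) ^ r ∈ J := by
    have h2 := pow_orderOf_eq_one (n : N ⧸ J.subgroupOf N)
    rw [hq, ← QuotientGroup.mk_pow, QuotientGroup.eq_one_iff, Subgroup.mem_subgroupOf] at h2
    exact h2
  have h2 : c ^ r ∈ J := by
    rw [← QuotientGroup.eq_one_iff] at h1 ⊢
    have h3 : ((n : G) : G ⧸ J) = (c : G ⧸ J) := by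
      rw [e, QuotientGroup.mk_mul, (QuotientGroup.eq_one_iff j).2 hj, mul_one]
    rw [QuotientGroup.mk_pow] at h1 ⊢
    rw [← h3, h1]
  have h3 : c ^ r = 1 := h.hyp.fix h2 ((show Commute x c from hxc).pow_right r)
  have h4 := h.eq_one_of_pow hr hJr hc hxc h3
  rw [h4, one_mul] at e
  have h5 : (n : N ⧸ J.subgroupOf N) = 1 := by
    rw [QuotientGroup.eq_one_iff, Subgroup.mem_subgroupOf, e]
    exact hj
  rw [h5, orderOf_one] at hq
  exact hr.one_lt.ne hq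

/-- Every irreducible character of `J` extends to its stabilizer. -/
theorem MB.exists_extn (h : MB N J x p) (μ : J → ℂ) (hμ : IsIrrCharacter J μ) :
    ∃ χ : stab μ → ℂ, IsIrrCharacter (stab μ) χ ∧
      ∀ j : J, χ (Subgroup.inclusion (le_stab' hμ) j) = μ j := by
  obtain ⟨r, hr, hJr⟩ := h.isPGroup
  haveI := Fact.mk hr
  obtain ⟨a, ha⟩ := IsPGroup.iff_card.1 hJr
  refine exists_ext_cyc h.hyp.cyc h.hyp.JN (le_stab' hμ) hμ le_rfl ?_
  rw [ha]
  refine Nat.Coprime.pow_left a ((Nat.Prime.coprime_iff_not_dvd hr).2 fun hd => ?_)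
  exact h.not_dvd hr hJr (hd.trans (Dvd.intro _ (Subgroup.relIndex_mul_relIndex J _ N
    (le_inf h.hyp.JN (le_stab' hμ)) inf_le_left)))

theorem MB.central (h : MB N J x p) {μ : J → ℂ} (hμ : IsIrrCharacter J μ) (hμ1 : μ ≠ 1) :
    ∀ t ∈ N ⊓ stab μ, ∀ g : G, t * g * t⁻¹ * g⁻¹ ∈ J := by
  obtain ⟨χ, hχ, hext⟩ := h.exists_extn μ hμ
  exact h.hyp.central hμ hμ1 hχ hext

/-- The stabilizer in `N` of a nonlinear `μ` is not contained in `N₁`. -/
theorem MB.exists_outside (h : MB N J x p) {μ : J → ℂ} (hμ : IsIrrCharacter J μ)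
    (hμ1 : charDegree μ ≠ 1) {l : J →* ℂˣ} (hl : l ≠ 1) :
    ∃ t ∈ N ⊓ stab μ, t ∉ N ⊓ stab (lf l : J → ℂ) := by
  by_contra hcon
  push Not at hcon
  have hle : N ⊓ stab μ ≤ N ⊓ stab (lf l : J → ℂ) := hcon
  obtain ⟨y, hy, hgen⟩ := exists_gen' h.hyp.cyc
  obtain ⟨hmf, g, hg, n, hn, e⟩ := hgen (stab μ)
  have hfpos := index_pos N
  set m := N.relIndex (stab μ) with hm
  have hmpos : 0 < m := Nat.pos_of_dvd_of_pos hmf hfpos
  have hq : 0 < N.index / m := Nat.div_pos (Nat.le_of_dvd hfpos hmf) hmpos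
  have hord : orderOf ((g : G) : G ⧸ N) = m := by
    rw [e, QuotientGroup.mk_mul, (QuotientGroup.eq_one_iff n).2 hn, mul_one,
      QuotientGroup.mk_pow, orderOf_pow_of_dvd hq.ne' (by rw [hy]; exact Nat.div_dvd_of_dvd hmf), hy]
    exact Nat.div_div_self hmf hfpos.ne'
  have hgm : g ^ m ∈ N := by
    rw [← QuotientGroup.eq_one_iff, QuotientGroup.mk_pow, ← hord]
    exact pow_orderOf_eq_one _
  obtain ⟨κ, hκ, hκ'⟩ := h.hyp.fixed hl hord (hle ⟨hgm, (stab μ).pow_mem hg m⟩)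
  have h1 := dvd_relIndex (N := N) (mem_stab_iff.2 hκ')
  rw [hord] at h1
  refine h.hyp.no_dvd hμ hμ1 hκ ?_
  have e1 := index_mul (N := N) (stab μ)
  have e2 := index_mul (N := N) (stab (lf κ : J → ℂ))
  have e3 : (stab (lf κ : J → ℂ)).relIndex N ∣ (stab μ).relIndex N := by
    rw [← rel_inf, ← rel_inf (stab μ), h.hyp.TL_eq hκ hl]
    exact Subgroup.relIndex_dvd_of_le_left N hle
  obtain ⟨c, hc⟩ := e3
  obtain ⟨d, hd⟩ := h1
  rw [hc, ← mul_assoc, ← e2, hd, ← hm] at e1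
  refine ⟨d * c, Nat.eq_of_mul_eq_mul_right hmpos ?_⟩
  rw [e1]
  ring

/-- **An invariant character over `γ`** (Glauberman's lemma). -/
theorem MB.exists_inv (h : MB N J x p) (γ : (⁅J, J⁆ : Subgroup G) →* ℂˣ) :
    ∃ μ : J → ℂ, IsIrrCharacter J μ ∧ Over (Subgroup.inclusion (comm_le J)) μ (lf γ) ∧
      N ⊓ stab (lf γ : (⁅J, J⁆ : Subgroup G) → ℂ) ≤ stab μ := by
  classical
  obtain ⟨r, hr, hJr⟩ := h.isPGroup
  haveI := Fact.mk hr
  haveI := finite_lin J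
  have hC := h.central'
  let T : Subgroup G := N ⊓ stab (lf γ : (⁅J, J⁆ : Subgroup G) → ℂ)
  let A : Subgroup G := T ⊓ Subgroup.centralizer ({x} : Set G)
  have hAx : ∀ a ∈ A, x * a = a * x := fun a ha =>
    (Subgroup.mem_centralizer_singleton_iff.1 ha.2).symm
  let φ : A →* MulAut (J →* ℂˣ) :=
    { toFun := fun a =>
        { toFun := fun l => cl (a : G)⁻¹ l
          invFun := fun l => cl (a : G) l
          left_inv := fun l => by
            change cl (a : G) (cl (a : G)⁻¹ l) = l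
            rw [← cl_mul, inv_mul_cancel, cl_one]
          right_inv := fun l => by
            change cl (a : G)⁻¹ (cl (a : G) l) = l
            rw [← cl_mul, mul_inv_cancel, cl_one]
          map_mul' := fun l m => rfl }
      map_one' := by
        apply MulEquiv.ext
        intro l
        change cl ((1 : A) : G)⁻¹ l = l
        rw [Subgroup.coe_one, inv_one, cl_one]
      map_mul' := by
        intro a b
        apply MulEquiv.ext
        intro l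
        change cl ((a * b : A) : G)⁻¹ l = cl (a : G)⁻¹ (cl (b : G)⁻¹ l)
        rw [Subgroup.coe_mul, mul_inv_rev, cl_mul] }
  let ρ : A →* Equiv.Perm (IrrCharacter J) :=
    { toFun := fun a =>
        { toFun := fun μ => ⟨tw J (a : G)⁻¹ (μ : J → ℂ), isIrr_tw (mem_nrm J _) μ.2⟩
          invFun := fun μ => ⟨tw J (a : G) (μ : J → ℂ), isIrr_tw (mem_nrm J _) μ.2⟩
          left_inv := fun μ => Subtype.ext (by
            change tw J (a : G) (tw J (a : G)⁻¹ (μ : J → ℂ)) = μ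
            rw [← tw_mul (mem_nrm J _) (mem_nrm J _), inv_mul_cancel, tw_one])
          right_inv := fun μ => Subtype.ext (by
            change tw J (a : G)⁻¹ (tw J (a : G) (μ : J → ℂ)) = μ
            rw [← tw_mul (mem_nrm J _) (mem_nrm J _), mul_inv_cancel, tw_one]) }
      map_one' := by
        apply Equiv.ext
        intro μ
        apply Subtype.ext
        change tw J ((1 : A) : G)⁻¹ (μ : J → ℂ) = μ
        rw [Subgroup.coe_one, inv_one, tw_one]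
      map_mul' := by
        intro a b
        apply Equiv.ext
        intro μ
        apply Subtype.ext
        change tw J ((a * b : A) : G)⁻¹ (μ : J → ℂ) = tw J (a : G)⁻¹ (tw J (b : G)⁻¹ (μ : J → ℂ))
        rw [Subgroup.coe_mul, mul_inv_rev, tw_mul (mem_nrm J _) (mem_nrm J _)] }
  let σ : (J →* ℂˣ) →* Equiv.Perm (IrrCharacter J) :=
    { toFun := fun l =>
        { toFun := fun μ => ⟨lf l * (μ : J → ℂ), isIrr_mul_lf l μ.2⟩
          invFun := fun μ => ⟨lf l⁻¹ * (μ : J → ℂ), isIrr_mul_lf l⁻¹ μ.2⟩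
          left_inv := fun μ => Subtype.ext (by
            funext j
            change ((l⁻¹ j : ℂˣ) : ℂ) * ((l j : ℂ) * (μ : J → ℂ) j) = (μ : J → ℂ) j
            rw [← mul_assoc, ← Units.val_mul, MonoidHom.inv_apply, inv_mul_cancel, Units.val_one,
              one_mul])
          right_inv := fun μ => Subtype.ext (by
            funext j
            change ((l j : ℂˣ) : ℂ) * ((l⁻¹ j : ℂˣ) * (μ : J → ℂ) j) = (μ : J → ℂ) j
            rw [← mul_assoc, ← Units.val_mul, MonoidHom.inv_apply, mul_inv_cancel, Units.val_one,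
              one_mul]) }
      map_one' := by
        apply Equiv.ext
        intro μ
        apply Subtype.ext
        funext j
        change (((1 : J →* ℂˣ) j : ℂˣ) : ℂ) * (μ : J → ℂ) j = (μ : J → ℂ) j
        rw [MonoidHom.one_apply, Units.val_one, one_mul]
      map_mul' := by
        intro l m
        apply Equiv.ext
        intro μ
        apply Subtype.ext
        funext j
        change (((l * m) j : ℂˣ) : ℂ) * (μ : J → ℂ) j = (l j : ℂ) * ((m j : ℂ) * (μ : J → ℂ) j)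
        rw [MonoidHom.mul_apply, Units.val_mul, mul_assoc] }
  have hφ : ∀ (a : A) (l : J →* ℂˣ), φ a l = cl (a : G)⁻¹ l := fun _ _ => rfl
  have hρ : ∀ (a : A) (μ : IrrCharacter J), ((ρ a μ : IrrCharacter J) : J → ℂ) =
      tw J (a : G)⁻¹ (μ : J → ℂ) := fun _ _ => rfl
  have hσ : ∀ (l : J →* ℂˣ) (μ : IrrCharacter J), ((σ l μ : IrrCharacter J) : J → ℂ) =
      lf l * (μ : J → ℂ) := fun _ _ => rfl
  have hcop : (Nat.card A).Coprime (Nat.card (J →* ℂˣ)) := by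
    obtain ⟨a, ha⟩ := IsPGroup.iff_card.1 hJr
    have hΛ : IsPGroup r (J →* ℂˣ) := by
      intro m
      refine ⟨a, MonoidHom.ext fun j => ?_⟩
      rw [MonoidHom.pow_apply, ← map_pow, ← ha, pow_card_eq_one', map_one]
      rfl
    obtain ⟨b, hb⟩ := IsPGroup.iff_card.1 hΛ
    rw [hb]
    refine Nat.Coprime.pow_right b ((Nat.Prime.coprime_iff_not_dvd hr).2 fun hd => ?_).symm
    obtain ⟨a, ha⟩ := exists_prime_orderOf_dvd_card' r hd
    have h1 : (a : G) ^ r = 1 := by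
      have h2 := pow_orderOf_eq_one a
      rw [ha] at h2
      have := congrArg Subtype.val h2
      simpa using this
    have h2 := h.eq_one_of_pow hr hJr a.2.1.1 (hAx a a.2) h1
    have h3 : a = 1 := Subtype.ext h2
    rw [h3, orderOf_one] at ha
    exact hr.one_lt.ne ha
  obtain ⟨μ₀, hμ₀, hμ₀o⟩ := exists_over_incl (comm_le J) (isIrr_lf γ)
  obtain ⟨⟨μ, hμS, hμ⟩, -⟩ := H566.glaub hcop (Or.inr inferInstance) φ ρ σ (by
      intro a l μ
      apply Subtype.ext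
      rw [hρ, hσ, hσ, hρ, hφ]
      exact tw_lf_mul _ _ _)
    {μ : IrrCharacter J | Over (Subgroup.inclusion (comm_le J)) (μ : J → ℂ) (lf γ)}
    ⟨⟨μ₀, hμ₀⟩, hμ₀o⟩ (by
      intro a μ hμ
      change Over _ _ _
      rw [hρ]
      have h1 : tw (⁅J, J⁆ : Subgroup G) (a : G)⁻¹ (lf γ) = lf γ :=
        (Subgroup.inv_mem (stab (lf γ : (⁅J, J⁆ : Subgroup G) → ℂ)) a.2.1.2).2
      rw [← h1]
      exact (over_tw_tw (comm_le J) (mem_nrm _ _) (mem_nrm _ _) _ _).2 hμ) (by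
      intro l μ hμ
      exact c2_over_mul hC γ μ.2 hμ l) (by
      intro μ hμ μ' hμ'
      obtain ⟨l, hl⟩ := c2_trans γ μ.2 hμ μ'.2 hμ'
      exact ⟨l, Subtype.ext hl.symm⟩)
  refine ⟨μ, μ.2, hμS, ?_⟩
  intro t ht
  obtain ⟨j, hj, c, hc, hxc, rfl⟩ := h.hyp.exists_mul ht.1
  have hjs : j ∈ stab (μ : J → ℂ) := le_stab (isIrr_isClassFunction μ.2) hj
  have hcT : c ∈ T := by
    have e : c = (c * j) * j⁻¹ := by group
    rw [e]
    exact T.mul_mem ht (T.inv_mem ⟨h.hyp.JN hj, c2_J_le_stab hC γ hj⟩)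
  have hcA : c ∈ A := ⟨hcT, Subgroup.mem_centralizer_singleton_iff.2 hxc.symm⟩
  refine (stab (μ : J → ℂ)).mul_mem ⟨mem_nrm J c, ?_⟩ hjs
  have h1 := congrArg (Subtype.val : IrrCharacter J → (J → ℂ)) (hμ (⟨c, hcA⟩⁻¹ : A))
  rw [hρ] at h1
  simpa using h1

/-- A character `μ` over `γ ≠ 1`, fixed by `N ∩ stab γ` and by all linear twists. -/
theorem MB.exists_full (h : MB N J x p) {γ : (⁅J, J⁆ : Subgroup G) →* ℂˣ} (hγ : γ ≠ 1) :
    ∃ μ : J → ℂ, IsIrrCharacter J μ ∧ Over (Subgroup.inclusion (comm_le J)) μ (lf γ) ∧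
      N ⊓ stab μ = N ⊓ stab (lf γ : (⁅J, J⁆ : Subgroup G) → ℂ) ∧
      ∀ κ : J →* ℂˣ, lf κ * μ = μ := by
  obtain ⟨μ, hμ, ho, hT⟩ := h.exists_inv γ
  have hC := h.central'
  have e0 : N ⊓ stab μ = N ⊓ stab (lf γ : (⁅J, J⁆ : Subgroup G) → ℂ) :=
    le_antisymm (inf_le_inf_left N (c2_stab_le hC γ hμ ho)) (le_inf inf_le_left hT)
  refine ⟨μ, hμ, ho, e0, ?_⟩
  obtain ⟨l₀, hl₀⟩ := h.exists_lin
  haveI := finite_lin J
  let S : Subgroup (J →* ℂˣ) :=
    { carrier := {κ | lf κ * μ = μ}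
      one_mem' := by
        funext j
        change (((1 : J →* ℂˣ) j : ℂˣ) : ℂ) * μ j = μ j
        rw [MonoidHom.one_apply, Units.val_one, one_mul]
      mul_mem' := fun {a b} ha hb => by
        funext j
        change (((a * b) j : ℂˣ) : ℂ) * μ j = μ j
        have h1 := congrFun ha j
        have h2 := congrFun hb j
        change ((a j : ℂˣ) : ℂ) * μ j = μ j at h1
        change ((b j : ℂˣ) : ℂ) * μ j = μ j at h2
        rw [MonoidHom.mul_apply, Units.val_mul, mul_assoc, h2, h1]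
      inv_mem' := fun {a} ha => by
        funext j
        change ((a⁻¹ j : ℂˣ) : ℂ) * μ j = μ j
        have h1 := congrFun ha j
        change ((a j : ℂˣ) : ℂ) * μ j = μ j at h1
        rw [MonoidHom.inv_apply]
        conv_lhs => rw [← h1]
        rw [← mul_assoc, ← Units.val_mul, inv_mul_cancel, Units.val_one, one_mul] }
  have hS : ∀ κ, κ ∈ S ↔ lf κ * μ = μ := fun κ => Iff.rfl
  intro κ
  rw [← hS]
  have hκo := c2_over_mul hC γ hμ ho κ
  have hκi : IsIrrCharacter J (lf κ * μ) := isIrr_mul_lf κ hμ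
  obtain ⟨t, ht, ht'⟩ := h.exists_outside hκi (c2_ne_one hγ hκi hκo) hl₀
  have htγ : t ∈ N ⊓ stab (lf γ : (⁅J, J⁆ : Subgroup G) → ℂ) :=
    ⟨ht.1, c2_stab_le hC γ hκi hκo ht.2⟩
  have htμ : tw J t μ = μ := by
    rw [← e0] at htγ
    exact htγ.2.2
  have htκ : tw J t (lf κ * μ) = lf κ * μ := ht.2.2
  have hinj : Function.Injective (Df (N := J) t) := by
    rw [injective_iff_map_eq_one]
    intro l hl
    by_contra hl1
    apply ht'
    rw [h.hyp.TL_eq hl₀ hl1]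
    exact ⟨ht.1, mem_stab_iff.2 (Df_eq_one.1 hl)⟩
  -- `Df t κ ∈ S`
  have hDκ : Df (N := J) t κ ∈ S := by
    rw [tw_lf_mul, htμ] at htκ
    have h1 : (cl t κ)⁻¹ * κ ∈ S := by
      rw [hS]
      funext j
      have h2 := congrFun htκ j
      change ((cl t κ j : ℂˣ) : ℂ) * μ j = ((κ j : ℂˣ) : ℂ) * μ j at h2
      change ((((cl t κ)⁻¹ * κ) j : ℂˣ) : ℂ) * μ j = μ j
      rw [MonoidHom.mul_apply, MonoidHom.inv_apply, Units.val_mul, mul_assoc, ← h2, ← mul_assoc,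
        ← Units.val_mul, inv_mul_cancel, Units.val_one, one_mul]
    have h2 := S.inv_mem h1
    have e : ((cl t κ)⁻¹ * κ)⁻¹ = Df (N := J) t κ := by
      apply MonoidHom.ext
      intro j
      change ((cl t κ j)⁻¹ * κ j)⁻¹ = cl t κ j * (κ j)⁻¹
      rw [mul_inv, inv_inv]
    rwa [e] at h2
  have hDS : ∀ l ∈ S, Df (N := J) t l ∈ S := by
    intro l hl
    refine S.mul_mem ?_ (S.inv_mem hl)
    rw [hS] at hl ⊢
    have h1 := congrArg (tw J t) hl
    rw [tw_lf_mul, htμ] at h1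
    exact h1
  have hsurj : Function.Surjective (fun l : S => (⟨Df (N := J) t l, hDS l l.2⟩ : S)) :=
    Finite.surjective_of_injective (fun a b hab =>
      Subtype.ext (hinj (congrArg Subtype.val hab)))
  obtain ⟨l, hl⟩ := hsurj ⟨_, hDκ⟩
  have h1 : Df (N := J) t l = Df (N := J) t κ := congrArg Subtype.val hl
  rw [← hinj h1]
  exact l.2

theorem MB.centralG (h : MB N J x p) {γ : (⁅J, J⁆ : Subgroup G) →* ℂˣ} (hγ : γ ≠ 1) :
    ∀ t ∈ N ⊓ stab (lf γ : (⁅J, J⁆ : Subgroup G) → ℂ), ∀ g : G, t * g * t⁻¹ * g⁻¹ ∈ J := by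
  obtain ⟨μ, hμ, ho, e0, -⟩ := h.exists_full hγ
  rw [← e0]
  exact h.central hμ (ne_one_of_deg (c2_ne_one hγ hμ ho))

/-- `N ∩ stab γ` centralizes `J'`. -/
theorem MB.TG_comm (h : MB N J x p) {γ : (⁅J, J⁆ : Subgroup G) →* ℂˣ} (hγ : γ ≠ 1) {t : G}
    (ht : t ∈ N ⊓ stab (lf γ : (⁅J, J⁆ : Subgroup G) → ℂ)) :
    ∀ z ∈ ⁅J, J⁆, t * z = z * t := by
  set T : Subgroup G := N ⊓ stab (lf γ : (⁅J, J⁆ : Subgroup G) → ℂ) with hT
  have hJT : J ≤ T := le_inf h.hyp.JN (c2_J_le_stab h.central' γ)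
  have hTn : T.Normal := normal_of_central' hJT (h.centralG hγ)
  by_contra hcon
  have hM : ⁅T, (⁅J, J⁆ : Subgroup G)⁆ ≠ ⊥ := by
    intro e
    apply hcon
    intro z hz
    have h1 := Subgroup.commutator_mem_commutator ht hz
    rw [e, Subgroup.mem_bot, commutatorElement_eq_one_iff_mul_comm] at h1
    exact h1
  have hle : ⁅T, (⁅J, J⁆ : Subgroup G)⁆ ≤ ⁅J, J⁆ := Subgroup.commutator_le_right T _
  have h1 := h.hmin _ inferInstance hM (hle.trans (comm_le J))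
  apply hγ
  have h2 : ⁅T, (⁅J, J⁆ : Subgroup G)⁆ ≤ (γ.ker).map (⁅J, J⁆ : Subgroup G).subtype := by
    rw [Subgroup.commutator_le]
    intro t ht z hz
    have hz' : t * z * t⁻¹ ∈ ⁅J, J⁆ := Subgroup.Normal.conj_mem inferInstance z hz t
    refine ⟨⟨t * z * t⁻¹, hz'⟩ * ⟨z, hz⟩⁻¹, ?_, by
      rw [commutatorElement_def]; rfl⟩
    rw [SetLike.mem_coe, MonoidHom.mem_ker, map_mul, map_inv]
    have h3 := DFunLike.congr_fun (mem_stab_iff.1 ht.2) ⟨z, hz⟩
    rw [cl_apply] at h3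
    rw [h3, mul_inv_cancel]
  apply MonoidHom.ext
  intro z
  obtain ⟨w, hw, hw'⟩ := h2 (h1 z.2)
  have e : w = z := Subtype.ext hw'
  rw [← e]
  exact hw

theorem MB.TG_le (h : MB N J x p) {γ γ' : (⁅J, J⁆ : Subgroup G) →* ℂˣ} (hγ : γ ≠ 1) :
    N ⊓ stab (lf γ : (⁅J, J⁆ : Subgroup G) → ℂ) ≤
      N ⊓ stab (lf γ' : (⁅J, J⁆ : Subgroup G) → ℂ) :=
  fun _ ht => ⟨ht.1, mem_stab_iff.2 (cl_of_comm (h.TG_comm hγ ht) γ')⟩

theorem MB.TG_eq (h : MB N J x p) {γ γ' : (⁅J, J⁆ : Subgroup G) →* ℂˣ} (hγ : γ ≠ 1)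
    (hγ' : γ' ≠ 1) : N ⊓ stab (lf γ : (⁅J, J⁆ : Subgroup G) → ℂ) =
      N ⊓ stab (lf γ' : (⁅J, J⁆ : Subgroup G) → ℂ) :=
  le_antisymm (h.TG_le hγ) (h.TG_le hγ')

theorem MB.N1_le (h : MB N J x p) {l : J →* ℂˣ} (hl : l ≠ 1)
    (γ : (⁅J, J⁆ : Subgroup G) →* ℂˣ) :
    N ⊓ stab (lf l : J → ℂ) ≤ N ⊓ stab (lf γ : (⁅J, J⁆ : Subgroup G) → ℂ) :=
  fun t ht => ⟨ht.1, mem_stab_iff.2 (cl_of_comm (c2_comm h.central'
    (fun m => h.hyp.fix_all hl ht m)) γ)⟩

/-- Characters over `γ ≠ 1` vanish on `J ∖ J'`. -/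
theorem MB.vanish (h : MB N J x p) {γ : (⁅J, J⁆ : Subgroup G) →* ℂˣ} (hγ : γ ≠ 1) :
    ∃ μ : J → ℂ, IsIrrCharacter J μ ∧ Over (Subgroup.inclusion (comm_le J)) μ (lf γ) ∧
      ∀ j : J, (j : G) ∉ ⁅J, J⁆ → μ j = 0 := by
  obtain ⟨μ, hμ, ho, -, hf⟩ := h.exists_full hγ
  refine ⟨μ, hμ, ho, fun j hj => ?_⟩
  obtain ⟨κ, -, hκ⟩ := exists_lin_ne (x := j) (comm_le J) le_rfl hj
  by_contra hne
  apply hκ
  have h1 := congrFun (hf κ) j
  change ((κ j : ℂˣ) : ℂ) * μ j = μ j at h1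
  apply Units.ext
  rw [Units.val_one]
  exact mul_right_cancel₀ hne (by rw [h1, one_mul])

/-- For `g ∈ J ∖ J'` and `γ ≠ 1` there is `k` with `γ ⁅g, k⁆ ≠ 1`. -/
theorem MB.exists_comm_ne (h : MB N J x p) {γ : (⁅J, J⁆ : Subgroup G) →* ℂˣ} (hγ : γ ≠ 1) {g : G}
    (hg : g ∈ J) (hg' : g ∉ ⁅J, J⁆) :
    ∃ (k : G) (hk : k ∈ J), γ ⟨⁅g, k⁆, Subgroup.commutator_mem_commutator hg hk⟩ ≠ 1 := by
  by_contra hcon
  push Not at hcon
  obtain ⟨μ, hμ, ho, hv⟩ := h.vanish hγ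
  have h1 := hv ⟨g, hg⟩ hg'
  have h2 := Cfsg.Agent.H597.Norm.normSq_eq_of_central hμ (z := (⟨g, hg⟩ : J)) (by
    intro k
    have hm : (k : G) * g * (k : G)⁻¹ * g⁻¹ ∈ ⁅J, J⁆ := by
      have := Subgroup.commutator_mem_commutator k.2 hg
      rwa [commutatorElement_def] at this
    have h3 := c2_res h.central' γ hμ ho ⟨_, hm⟩
    have h4 := hcon k k.2
    have e : (⟨(k : G) * g * (k : G)⁻¹ * g⁻¹, hm⟩ : (⁅J, J⁆ : Subgroup G)) =
        (⟨⁅g, (k : G)⁆, Subgroup.commutator_mem_commutator hg k.2⟩ : (⁅J, J⁆ : Subgroup G))⁻¹ := by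
      apply Subtype.ext
      change _ = ⁅g, (k : G)⁆⁻¹
      rw [commutatorElement_def]
      group
    rw [e, map_inv, h4, inv_one, Units.val_one, mul_one, ← e] at h3
    exact h3)
  rw [h1, map_zero] at h2
  have h3 : (charDegree μ : ℝ) = 0 := by
    have := h2.symm
    exact pow_eq_zero_iff (two_ne_zero) |>.1 this
  exact (charDegree_pos hμ).ne' (by exact_mod_cast h3)

/-- `|J'| < |J : J'|`, in terms of linear characters. -/
theorem MB.card_lt (h : MB N J x p) :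
    Nat.card ((⁅J, J⁆ : Subgroup G) →* ℂˣ) < Nat.card (J →* ℂˣ) := by
  classical
  haveI := finite_lin J
  haveI := finite_lin (⁅J, J⁆ : Subgroup G)
  obtain ⟨g, hg, hg'⟩ := h.exists_not_mem
  have hc := h.central'
  let D : J →* (⁅J, J⁆ : Subgroup G) := MonoidHom.mk'
    (fun k => ⟨⁅g, (k : G)⁆, Subgroup.commutator_mem_commutator hg k.2⟩) (by
      intro a b
      apply Subtype.ext
      change ⁅g, (a : G) * b⁆ = ⁅g, (a : G)⁆ * ⁅g, (b : G)⁆
      have h1 := hc _ (Subgroup.commutator_mem_commutator hg b.2) (a : G)⁻¹ (J.inv_mem a.2)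
      calc ⁅g, (a : G) * b⁆ = g * a * g⁻¹ * (⁅g, (b : G)⁆ * (a : G)⁻¹) := by
            rw [commutatorElement_def, commutatorElement_def]; group
        _ = g * a * g⁻¹ * ((a : G)⁻¹ * ⁅g, (b : G)⁆) := by rw [h1]
        _ = _ := by rw [commutatorElement_def, commutatorElement_def]; group)
  let F : ((⁅J, J⁆ : Subgroup G) →* ℂˣ) → (J →* ℂˣ) := fun γ => γ.comp D
  have hF : Function.Injective F := by
    intro γ γ' hγ
    by_contra hne
    have h1 : γ * γ'⁻¹ ≠ 1 := by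
      intro e
      apply hne
      apply MonoidHom.ext
      intro z
      have h2 := DFunLike.congr_fun e z
      change γ z * (γ' z)⁻¹ = 1 at h2
      exact mul_inv_eq_one.1 h2
    obtain ⟨k, hk, h2⟩ := h.exists_comm_ne h1 hg hg'
    apply h2
    have h3 := DFunLike.congr_fun hγ ⟨k, hk⟩
    change γ (D ⟨k, hk⟩) = γ' (D ⟨k, hk⟩) at h3
    change γ (D ⟨k, hk⟩) * (γ' (D ⟨k, hk⟩))⁻¹ = 1
    rw [h3, mul_inv_cancel]
  obtain ⟨κ, -, hκ⟩ := exists_lin_ne (x := (⟨g, hg⟩ : J)) (comm_le J) le_rfl hg'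
  have hns : κ ∉ Set.range F := by
    rintro ⟨γ, rfl⟩
    apply hκ
    change γ (D ⟨g, hg⟩) = 1
    have e : D ⟨g, hg⟩ = 1 := by
      apply Subtype.ext
      change ⁅g, g⁆ = 1
      exact commutatorElement_self g
    rw [e, map_one]
  have h1 : Nat.card ((⁅J, J⁆ : Subgroup G) →* ℂˣ) = (Set.range F).ncard :=
    (Set.ncard_range_of_injective hF).symm
  rw [h1, ← Set.ncard_univ]
  refine Set.ncard_lt_ncard ?_ (Set.toFinite _)
  rw [Set.ssubset_univ_iff]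
  intro e
  exact hns (e ▸ Set.mem_univ κ)

end Cfsg.Agent.H675.Nd
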