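import Mathlib
import Cfsg.Agent.H675.Nd.HB5
import Cfsg.Agent.H675.Nd.Cop

/-!
# The Frobenius type with an abelian Sylow subgroup
-/

set_option autoImplicit false
set_option linter.style.haveILetI false
set_option linter.unusedSectionVars false
open Cfsg

namespace Cfsg.Agent.H675.Nd

open Cfsg.Agent.Characters.Core Cfsg.Agent.Characters.Clifford Cfsg.Agent.H672 Cfsg.Agent.H672.RM
open Cfsg.Agent.H597.FrobA
open scoped commutatorElement

universe u v w

variable {G : Type u} [Group G] [Finite G] {N H : Subgroup G} [hN : N.Normal] [hH : H.Normal]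

/-- The inertia group of a character of `H`, not `N`-invariant. -/
theorem inertia_of_not (ha : Anti G) (hc : IsCyclic (G ⧸ N)) (hHN : H ≤ N)
    (hcop : (Nat.card H).Coprime (H.relIndex N))
    (hf : ∃ χ : G → ℂ, IsIrrCharacter G χ ∧ charDegree χ = N.index) (hNt : N ≠ ⊤) {θ : H → ℂ}
    (hθ : IsIrrCharacter H θ) (hne : ¬ N ≤ stab θ) :
    (∃ s ∈ stab θ, s ∉ N) ∧ ⁅stab θ, stab θ⁆ ≤ H ∧
      (∃ ψ : G → ℂ, IsIrrCharacter G ψ ∧ Over H.subtype ψ θ ∧
        charDegree ψ = (stab θ).index * charDegree θ) ∧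
      ∀ ψ : G → ℂ, IsIrrCharacter G ψ → Over H.subtype ψ θ →
        charDegree ψ = (stab θ).index * charDegree θ := by
  have h1 : (stab θ).index * charDegree θ ≠ 1 := by
    intro e
    apply hne
    have := Nat.eq_one_of_mul_eq_one_right e
    rw [Subgroup.index_eq_one.1 this]
    exact le_top
  obtain ⟨χ, hχ, hext⟩ := exists_ext_cyc hc hHN (le_stab' hθ) hθ le_rfl
    (hcop.coprime_dvd_right (by
      exact Dvd.intro _ (Subgroup.relIndex_mul_relIndex H _ N (le_inf hHN (le_stab' hθ))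
        inf_le_left)))
  obtain ⟨⟨ψ, hψ, ho, hd⟩, h2, h3⟩ := GT ha hθ hχ hext h1
  refine ⟨?_, h3, ⟨ψ, hψ, ho, hd⟩, h2⟩
  by_contra hcon
  push Not at hcon
  have hle : stab θ ≤ N := hcon
  obtain ⟨χ', hχ', hd'⟩ := hf
  have h4 := ha χ' ψ hχ' hψ (by rw [hd']; exact ne_top_index hNt)
    (by rw [hd, hd']; exact (Subgroup.index_dvd_of_le hle).mul_right _)
  rw [hd', hd] at h4
  have h5 : (stab θ).index ∣ N.index := by rw [h4]; exact Dvd.intro _ rfl
  have h6 := eq_of_le_of_index_eq hle (Nat.dvd_antisymm h5 (Subgroup.index_dvd_of_le hle))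
  exact hne h6.ge

theorem inv_of_fix (ha : Anti G) (hc : IsCyclic (G ⧸ N)) (hHN : H ≤ N) (hab : ⁅N, N⁆ ≤ H)
    (hcop : (Nat.card H).Coprime (H.relIndex N))
    (hf : ∃ χ : G → ℂ, IsIrrCharacter G χ ∧ charDegree χ = N.index) (hNt : N ≠ ⊤) {θ : H → ℂ}
    (hθ : IsIrrCharacter H θ) {x : G} (hxN : x ∈ N) (hxc : ∃ g, x * g * x⁻¹ * g⁻¹ ∉ H)
    (hx : x ∈ stab θ) : N ≤ stab θ := by
  by_contra hne
  obtain ⟨⟨s, hs, hsN⟩, h1, -⟩ := inertia_of_not ha hc hHN hcop hf hNt hθ hne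
  obtain ⟨g, hg⟩ := hxc
  apply hg
  refine zlem hHN hab hc (fun l _ g hg hl => hfix_of ha hc hf l hg hl) hxN hsN ?_ g
  have := h1 (Subgroup.commutator_mem_commutator hx hs)
  rwa [commutatorElement_def] at this

theorem lin_of_inv (hHN : H ≤ N) (hab : ⁅N, N⁆ ≤ H) {p : ℕ} (hp : p.Prime)
    (hcop : (Nat.card H).Coprime p) (hidx : ∃ k, H.relIndex N = p ^ k)
    (hdvd : ∀ ψ : N → ℂ, IsIrrCharacter N ψ → charDegree ψ ≠ 1 → p ∣ charDegree ψ) {θ : H → ℂ}
    (hθ : IsIrrCharacter H θ) (hNst : N ≤ stab θ) :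
    charDegree θ = 1 ∧ ∀ j (hj : j ∈ ⁅N, N⁆), θ ⟨j, hab hj⟩ = 1 := by
  obtain ⟨k, hk⟩ := hidx
  obtain ⟨χ, hχ, hχθ⟩ := exists_ext hHN hθ hNst (by rw [hk]; exact hcop.pow_right k)
  have hdeg : charDegree χ = charDegree θ := by
    apply charDegree_of_eq
    rw [coe_charDegree hθ, ← hχθ 1, map_one]
  have h1 : charDegree χ = 1 := by
    by_contra hne
    have h2 := hdvd χ hχ hne
    rw [hdeg] at h2
    have h3 := Nat.Coprime.coprime_dvd_left (degree_dvd_card hθ) hcop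
    have h4 := Nat.eq_one_of_dvd_coprimes h3 h2 dvd_rfl
    exact hp.one_lt.ne' h4
  refine ⟨by rw [← hdeg]; exact h1, fun j hj => ?_⟩
  obtain ⟨l, rfl⟩ := exists_hom_of_degree_one hχ h1
  rw [← hχθ]
  have h2 := hom_commutator l hj ((hab.trans hHN) hj)
  change ((l ⟨j, (hab.trans hHN) hj⟩ : ℂˣ) : ℂ) = 1
  rw [h2, Units.val_one]

/-- From `H` to `J = ⁅N, N⁆`. -/
theorem hx_of (hab : ⁅N, N⁆ ≤ H) {p : ℕ} (hp : p.Prime)
    (hcop : (Nat.card H).Coprime p) {x : G} (hxp : x ^ p = 1) (hxH : x ∉ H)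
    (hfix : ∀ θ : H → ℂ, IsIrrCharacter H θ → x ∈ stab θ →
      charDegree θ = 1 ∧ ∀ j (hj : j ∈ ⁅N, N⁆), θ ⟨j, hab hj⟩ = 1)
    {μ : (⁅N, N⁆ : Subgroup G) → ℂ} (hμ : IsIrrCharacter _ μ) (hxμ : x ∈ stab μ) : μ = 1 := by
  classical
  haveI := Fact.mk hp
  have hJH : Nat.card (⁅N, N⁆ : Subgroup G) ∣ Nat.card H := Subgroup.card_dvd_of_le hab
  have hD : Nat.card (Subgroup.zpowers x) ∣ p := by
    rw [Nat.card_zpowers]; exact orderOf_dvd_of_pow_eq_one hxp
  -- extension to `S = J ⟨x⟩`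
  set S : Subgroup G := ⁅N, N⁆ ⊔ Subgroup.zpowers x with hS
  have hJS : ⁅N, N⁆ ≤ S := le_sup_left
  have hSst : S ≤ stab μ :=
    sup_le (le_stab (isIrr_isClassFunction hμ)) (Subgroup.zpowers_le.2 hxμ)
  have hSidx : (⁅N, N⁆ : Subgroup G).relIndex S ∣ p := by
    rw [hS, sup_comm, Subgroup.relIndex_sup_right]
    exact (Subgroup.relIndex_dvd_card _ _).trans hD
  obtain ⟨μ', hμ', hμ'μ⟩ := exists_ext hJS hμ hSst
    ((hcop.coprime_dvd_left hJH).coprime_dvd_right hSidx)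
  -- the group `E = H ⟨x⟩`
  set E : Subgroup G := H ⊔ Subgroup.zpowers x with hE
  have hHE : H ≤ E := le_sup_left
  have hxE : x ∈ E := Subgroup.mem_sup_right (Subgroup.mem_zpowers x)
  have hxS : x ∈ S := Subgroup.mem_sup_right (Subgroup.mem_zpowers x)
  have hSE : S ≤ E := sup_le_sup_right hab _
  have hEidx : H.relIndex E ∣ p := by
    rw [hE, sup_comm, Subgroup.relIndex_sup_right]
    exact (Subgroup.relIndex_dvd_card _ _).trans hD
  have hpS : p ∣ Nat.card S := by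
    have h1 : orderOf x = p := orderOf_eq_prime hxp (fun e => hxH (e ▸ H.one_mem))
    rw [← h1]
    have h2 := orderOf_dvd_natCard (⟨x, hxS⟩ : S)
    rwa [Subgroup.orderOf_mk] at h2
  have hSEidx : ¬ p ∣ (S.subgroupOf E).index := by
    intro hd
    have h1 : Nat.card S * S.relIndex E = Nat.card E := by
      have := Subgroup.relIndex_mul_relIndex (⊥ : Subgroup G) S E bot_le hSE
      rwa [Subgroup.relIndex_bot_left, Subgroup.relIndex_bot_left] at this
    have h2 : Nat.card H * H.relIndex E = Nat.card E := by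
      have := Subgroup.relIndex_mul_relIndex (⊥ : Subgroup G) H E bot_le hHE
      rwa [Subgroup.relIndex_bot_left, Subgroup.relIndex_bot_left] at this
    have h3 : p * p ∣ Nat.card H * p := by
      have h4 : p * p ∣ Nat.card E := by
        rw [← h1]
        exact Nat.mul_dvd_mul hpS hd
      rw [← h2] at h4
      exact h4.trans (Nat.mul_dvd_mul_left _ hEidx)
    have h4 : p ∣ Nat.card H := Nat.dvd_of_mul_dvd_mul_right hp.pos h3
    exact hp.one_lt.ne' (Nat.eq_one_of_dvd_coprimes hcop h4 dvd_rfl)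
  have hμ'd : ¬ p ∣ charDegree μ' := by
    intro hd
    have h1 : charDegree μ' = charDegree μ := by
      apply charDegree_of_eq
      rw [coe_charDegree hμ, ← hμ'μ 1, map_one]
    rw [h1] at hd
    have h2 : p ∣ Nat.card H := (hd.trans (degree_dvd_card hμ)).trans hJH
    exact hp.one_lt.ne' (Nat.eq_one_of_dvd_coprimes hcop h2 dvd_rfl)
  letI := Fintype.ofFinite E
  letI := Fintype.ofFinite (S.subgroupOf E)
  obtain ⟨χ, hχ, hχμ, hχd⟩ := H597.RelThompson.exists_over_not_dvd p (S.subgroupOf E) hSEidx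
    (isIrr_sub hSE hμ') (by
      have e : charDegree (μ' ∘ Subgroup.subgroupOfEquivOfLe hSE) = charDegree μ' :=
        charDegree_comp_one (Subgroup.subgroupOfEquivOfLe hSE).toMonoidHom μ'
      rw [e]; exact hμ'd)
  have hχo : Over (Subgroup.inclusion hSE) χ μ' :=
    (over_iff_sub hSE χ μ').2 ((over_subtype_iff _ _ _).2 hχμ)
  -- restriction to `H`
  obtain ⟨θ, hθ, hχθ⟩ := exists_under (f := Subgroup.inclusion hHE) hχ
  have hd := div_dvd_of_over hHE (le_nrm H E) hχ hθ hχθ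
  have hdd : charDegree χ / charDegree θ = 1 := by
    rcases (Nat.dvd_prime hp).1 (hd.2.trans hEidx) with h1 | h1
    · exact h1
    · exfalso
      apply hχd
      have h2 : charDegree χ / charDegree θ ∣ charDegree χ := Nat.div_dvd_of_dvd hd.1
      rwa [h1] at h2
  have hde : charDegree θ = charDegree χ := by
    have := Nat.div_mul_cancel hd.1
    rwa [hdd, one_mul] at this
  have hres : χ ∘ Subgroup.inclusion hHE = θ := eq_of_over_of_charDegree_eq hχ hθ hχθ hde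
  have hxθ : x ∈ stab θ := mem_stab_of_res hHE hχ (fun k => congrFun hres k) hxE
  obtain ⟨hθ1, hθJ⟩ := hfix θ hθ hxθ
  -- so `χ` is trivial on `J`
  have hone : χ ∘ Subgroup.inclusion (hJS.trans hSE) = 1 := by
    funext j
    have h1 := congrFun hres ⟨j, hab j.2⟩
    rw [hθJ j j.2] at h1
    exact h1
  have hov : Over (Subgroup.inclusion (hJS.trans hSE)) χ μ := by
    have e : Subgroup.inclusion (hJS.trans hSE) =
        (Subgroup.inclusion hSE).comp (Subgroup.inclusion hJS) := rfl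
    rw [e]
    refine (over_comp_iff _ _ (isIrr_isCharacter hχ) hμ).2 ⟨μ', hμ', hχo, ?_⟩
    letI := Fintype.ofFinite (⁅N, N⁆ : Subgroup G)
    rw [over_iff]
    have e2 : μ' ∘ Subgroup.inclusion hJS = μ := funext hμ'μ
    rw [e2, classInner_irr_self hμ]
    exact one_ne_zero
  by_contra hne
  letI := Fintype.ofFinite (⁅N, N⁆ : Subgroup G)
  rw [over_iff, hone] at hov
  exact hov (classInner_irr_ne isIrr_one hμ (Ne.symm hne))

/-- The `p`-part. -/
theorem exists_ppart {J : Subgroup G} [hJ : J.Normal] (hJH : J ≤ H) {p : ℕ} (hp : p.Prime)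
    (hcop : (Nat.card H).Coprime p) {a : G} (hap : a ^ p ∈ J) :
    ∃ a' : G, a' ^ p = 1 ∧ a⁻¹ * a' ∈ J ∧ ∀ S : Subgroup G, a ∈ S → a' ∈ S := by
  obtain ⟨t, ht⟩ := Nat.exists_mul_mod_eq_one_of_coprime hcop hp.one_lt
  refine ⟨a ^ (Nat.card H * t), ?_, ?_, fun S hS => S.pow_mem hS _⟩
  · have h1 : (a ^ p) ^ Nat.card H = 1 := by
      have := pow_card_eq_one' (x := (⟨a ^ p, hJH hap⟩ : H))
      exact congrArg Subtype.val this
    rw [← pow_mul, show Nat.card H * t * p = p * Nat.card H * t by ring, pow_mul, pow_mul, h1,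
      one_pow]
  · rw [← QuotientGroup.eq, QuotientGroup.mk_pow]
    have h3 : (a : G ⧸ J) ^ p = 1 := by
      rw [← QuotientGroup.mk_pow]
      exact (QuotientGroup.eq_one_iff _).2 hap
    have h4 : Nat.card H * t ≡ 1 [MOD p] := by
      rw [Nat.ModEq, ht.2, Nat.mod_eq_of_lt hp.one_lt]
    have h5 : Nat.card H * t ≡ 1 [MOD orderOf (a : G ⧸ J)] :=
      h4.of_dvd (orderOf_dvd_of_pow_eq_one h3)
    rw [pow_eq_pow_iff_modEq.2 h5, pow_one]

theorem not_mem_of_pow {p : ℕ} (hcop : (Nat.card H).Coprime p) {a : G} (hap : a ^ p = 1)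
    (ha1 : a ≠ 1) : a ∉ H := by
  intro h
  apply ha1
  have h1 : a ^ Nat.card H = 1 := by
    have := pow_card_eq_one' (x := (⟨a, h⟩ : H))
    exact congrArg Subtype.val this
  have h2 := pow_gcd_eq_one.2 ⟨h1, hap⟩
  rwa [hcop.gcd_eq_one, pow_one] at h2

/-- **Construction of `HB`.** -/
theorem exists_HB (ha : Anti G) (hc : IsCyclic (G ⧸ N)) (hHN : H ≤ N) (hab : ⁅N, N⁆ ≤ H) {p : ℕ}
    (hp : p.Prime) (hcop : (Nat.card H).Coprime p) (hidx : ∃ k, H.relIndex N = p ^ k)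
    (hpf : ¬ p ∣ N.index) (hnc : ∃ n ∈ N, ∃ g : G, n * g * n⁻¹ * g⁻¹ ∉ H)
    (hdvd : ∀ ψ : N → ℂ, IsIrrCharacter N ψ → charDegree ψ ≠ 1 → p ∣ charDegree ψ)
    (hf : ∃ χ : G → ℂ, IsIrrCharacter G χ ∧ charDegree χ = N.index) (hNt : N ≠ ⊤)
    (hJ : ∃ l : (⁅N, N⁆ : Subgroup G) →* ℂˣ, l ≠ 1) : ∃ x, HB N ⁅N, N⁆ x p := by
  classical
  haveI := Fact.mk hp
  obtain ⟨k, hk⟩ := hidx
  have hcopN : (Nat.card H).Coprime (H.relIndex N) := by rw [hk]; exact hcop.pow_right k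
  have hcopf : (H.relIndex N).Coprime N.index := by
    rw [hk]; exact Nat.Coprime.pow_left k ((Nat.Prime.coprime_iff_not_dvd hp).2 hpf)
  set J : Subgroup G := ⁅N, N⁆ with hJd
  have hJN : J ≤ N := hab.trans hHN
  set E : Subgroup G := ⁅N, (⊤ : Subgroup G)⁆ ⊔ H with hE
  haveI hEn : E.Normal := inferInstance
  have hENle : E ≤ N := by
    refine sup_le ?_ hHN
    exact Subgroup.commutator_le_left N ⊤
  -- elements of `E` of order `p` move everything
  have hkey : ∀ a ∈ E, a ^ p = 1 → a ≠ 1 → ∀ μ : J → ℂ, IsIrrCharacter J μ → a ∈ stab μ →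
      μ = 1 := by
    intro a haE hap ha1 μ hμ haμ
    have haH : a ∉ H := not_mem_of_pow hcop hap ha1
    have hanc : ∃ g, a * g * a⁻¹ * g⁻¹ ∉ H := by
      by_contra hcon
      push Not at hcon
      exact haH (inf_NZ_le hab hc hcopf haE (mem_NZ.2 ⟨hENle haE, hcon⟩))
    refine hx_of hab hp hcop hap haH (fun θ hθ haθ => ?_) hμ haμ
    exact lin_of_inv hHN hab hp hcop ⟨k, hk⟩ hdvd hθ
      (inv_of_fix ha hc hHN hab hcopN hf hNt hθ (hENle haE) hanc haθ)
  have hkey2 : ∀ a ∈ E, a ^ p ∈ J → a ∉ J → ∀ l : J →* ℂˣ, cl a l = l → l = 1 := by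
    intro a haE hap haJ l hl
    obtain ⟨a', ha'p, ha'J, ha'S⟩ := exists_ppart hab hp hcop hap
    have ha'1 : a' ≠ 1 := by
      rintro rfl
      rw [mul_one] at ha'J
      exact haJ (J.inv_mem_iff.1 ha'J)
    by_contra hl1
    refine lf_ne_one hl1 (hkey a' (ha'S E haE) ha'p ha'1 (lf l) (isIrr_lf l) ?_)
    rw [mem_stab_iff]
    have e : a' = a * (a⁻¹ * a') := by group
    rw [e, cl_mul, hl, cl_of_mem ha'J]
  -- commutation mod `J`
  have hcJ : ∀ a ∈ N, ∀ b ∈ N, Commute (a : G ⧸ J) (b : G ⧸ J) := by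
    intro a ha b hb
    have h1 : ⁅a, b⁆ ∈ J := Subgroup.commutator_mem_commutator ha hb
    rw [← QuotientGroup.eq_one_iff] at h1
    change QuotientGroup.mk' J ⁅a, b⁆ = 1 at h1
    rw [map_commutatorElement, commutatorElement_eq_one_iff_mul_comm] at h1
    exact h1
  -- the element `x`
  obtain ⟨x₀, hx₀N, hx₀p, g₀, hg₀⟩ := exists_elt hp hcop ⟨k, hk⟩ hab hpf hnc
  set e₀ : G := x₀ * g₀ * x₀⁻¹ * g₀⁻¹ with he₀
  have hyN : g₀ * x₀⁻¹ * g₀⁻¹ ∈ N := hN.conj_mem _ (N.inv_mem hx₀N) g₀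
  have he₀E : e₀ ∈ E := by
    refine Subgroup.mem_sup_left ?_
    have := Subgroup.commutator_mem_commutator hx₀N (Subgroup.mem_top g₀)
    rwa [commutatorElement_def] at this
  have he₀p : e₀ ^ p ∈ J := by
    have e1 : e₀ = x₀ * (g₀ * x₀⁻¹ * g₀⁻¹) := by rw [he₀]; group
    rw [← QuotientGroup.eq_one_iff, QuotientGroup.mk_pow, e1, QuotientGroup.mk_mul,
      (hcJ x₀ hx₀N _ hyN).mul_pow, ← QuotientGroup.mk_pow, ← QuotientGroup.mk_pow, hx₀p, conj_pow,
      inv_pow, hx₀p, inv_one, mul_one, mul_inv_cancel]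
    simp
  obtain ⟨x, hxp, hxJ, hxS⟩ := exists_ppart hab hp hcop he₀p
  have hxE : x ∈ E := hxS E he₀E
  have hxN : x ∈ N := hENle hxE
  have hx1 : x ≠ 1 := by
    rintro rfl
    rw [mul_one] at hxJ
    exact hg₀ (H.inv_mem_iff.1 (hab hxJ))
  have hxH : x ∉ H := not_mem_of_pow hcop hxp hx1
  have hxnJ : x ∉ J := fun h => hxH (hab h)
  obtain ⟨l₀, hl₀⟩ := hJ
  refine ⟨x, ⟨rfl, hc, hp, hxN, hxp, ?_, hpf, hkey x hxE hxp hx1, ha,
    fun l g hg hl g' => hfix_of ha hc hf l hg hl g', ?_, ?_⟩⟩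
  · intro hd
    exact hp.one_lt.ne' (Nat.eq_one_of_dvd_coprimes hcop
      (hd.trans (Subgroup.card_dvd_of_le hab)) dvd_rfl)
  · by_contra hcon
    push Not at hcon
    exact hxH (inf_NZ_le hab hc hcopf hxE (mem_NZ.2 ⟨hxN, fun g => hab (hcon g)⟩))
  · -- `⟨x⟩ J` is normal
    intro g
    haveI := finite_lin J
    letI := clDist J
    haveI : Nontrivial (J →* ℂˣ) := ⟨⟨l₀, 1, hl₀⟩⟩
    let ρ := MulDistribMulAction.toMulAut G (J →* ℂˣ)
    haveI : Finite (MulAut (J →* ℂˣ)) := inferInstance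
    have hρ : ∀ (g : G) (l : J →* ℂˣ), ρ g l = l ↔ cl g l = l := by
      intro g l
      change cl g⁻¹ l = l ↔ _
      exact fix_inv_iff
    have hρJ : ∀ j ∈ J, ρ j = 1 := by
      intro j hj
      apply MulEquiv.ext
      intro l
      exact (hρ j l).2 (cl_of_mem hj l)
    let B : Subgroup G :=
      { carrier := {a | a ∈ E ∧ a ^ p ∈ J}
        one_mem' := ⟨E.one_mem, by rw [one_pow]; exact J.one_mem⟩
        mul_mem' := fun {a b} ha hb => by
          refine ⟨E.mul_mem ha.1 hb.1, ?_⟩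
          rw [← QuotientGroup.eq_one_iff, QuotientGroup.mk_pow, QuotientGroup.mk_mul,
            (hcJ a (hENle ha.1) b (hENle hb.1)).mul_pow, ← QuotientGroup.mk_pow,
            ← QuotientGroup.mk_pow, (QuotientGroup.eq_one_iff _).2 ha.2,
            (QuotientGroup.eq_one_iff _).2 hb.2, mul_one]
        inv_mem' := fun {a} ha => by
          refine ⟨E.inv_mem ha.1, ?_⟩
          rw [inv_pow]
          exact J.inv_mem ha.2 }
    have hB : ∀ a, a ∈ B ↔ a ∈ E ∧ a ^ p ∈ J := fun _ => Iff.rfl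
    have hcomm : ∀ a b : B.map ρ, a * b = b * a := by
      rintro ⟨_, a, ha, rfl⟩ ⟨_, b, hb, rfl⟩
      apply Subtype.ext
      change ρ a * ρ b = ρ b * ρ a
      have h1 : ⁅a, b⁆ ∈ J := Subgroup.commutator_mem_commutator (hENle ha.1) (hENle hb.1)
      have h2 := hρJ _ h1
      rw [map_commutatorElement, commutatorElement_eq_one_iff_mul_comm] at h2
      exact h2
    have hne : ∀ a ∈ B, ρ a ≠ 1 → a ∉ J := fun a _ h1 h2 => h1 (hρJ a h2)
    have hR : H348.HasFPF (B.map ρ) := by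
      refine hasFPF_of (J →* ℂˣ) (B.map ρ).subtype ?_
      rintro ⟨_, a, ha, rfl⟩ hne' v hv
      refine hkey2 a ha.1 ha.2 (hne a ha ?_) v ((hρ a v).1 hv)
      intro e
      exact hne' (Subtype.ext e)
    have hcyc : IsCyclic (B.map ρ) := hR.isCyclic hcomm
    have hpow : ∀ a : B.map ρ, a ^ p = 1 := by
      rintro ⟨_, a, ha, rfl⟩
      apply Subtype.ext
      change (ρ a) ^ p = 1
      rw [← map_pow]
      exact hρJ _ ha.2
    have hxB : x ∈ B := ⟨hxE, by rw [hxp]; exact J.one_mem⟩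
    have hx'B : g * x * g⁻¹ ∈ B := ⟨hEn.conj_mem x hxE g, by
      rw [conj_pow, hxp, mul_one, mul_inv_cancel]; exact J.one_mem⟩
    have hρx : (⟨ρ x, x, hxB, rfl⟩ : B.map ρ) ≠ 1 := by
      intro e
      have e' : ρ x = 1 := congrArg Subtype.val e
      apply hl₀
      refine hkey2 x hxE (by rw [hxp]; exact J.one_mem) hxnJ l₀ ((hρ x l₀).1 ?_)
      rw [e']
      rfl
    have hcard : Nat.card (B.map ρ) ∣ p := by
      obtain ⟨q, hq⟩ := hcyc.exists_generator
      rw [← orderOf_eq_card_of_forall_mem_zpowers hq]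
      exact orderOf_dvd_of_pow_eq_one (hpow q)
    have hzp : (⟨ρ (g * x * g⁻¹), _, hx'B, rfl⟩ : B.map ρ) ∈
        Subgroup.zpowers (⟨ρ x, x, hxB, rfl⟩ : B.map ρ) := by
      have h1 : Subgroup.zpowers (⟨ρ x, x, hxB, rfl⟩ : B.map ρ) = ⊤ := by
        apply Subgroup.eq_top_of_card_eq
        rw [Nat.card_zpowers, orderOf_eq_prime (hpow _) hρx]
        rcases (Nat.dvd_prime hp).1 hcard with h2 | h2
        · exfalso
          rw [Nat.card_eq_one_iff_unique] at h2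
          exact hρx (h2.1.elim _ _)
        · exact h2.symm
      rw [h1]
      exact Subgroup.mem_top _
    obtain ⟨i, hi⟩ := mem_powers_iff_mem_zpowers.2 hzp
    have hi' : (ρ x) ^ i = ρ (g * x * g⁻¹) := congrArg Subtype.val hi
    refine ⟨i, (x ^ i)⁻¹ * (g * x * g⁻¹), ?_, by group⟩
    by_contra hb
    have hbB : (x ^ i)⁻¹ * (g * x * g⁻¹) ∈ B := B.mul_mem (B.inv_mem (B.pow_mem hxB i)) hx'B
    apply hl₀
    refine hkey2 _ hbB.1 hbB.2 hb l₀ ((hρ _ l₀).1 ?_)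
    rw [map_mul, map_inv, map_pow, hi', inv_mul_cancel]
    rfl

/-- A nontrivial solvable normal subgroup has a nontrivial linear character. -/
theorem exists_lin_of_solv [Group.IsSolvable G] {J : Subgroup G} [hJ : J.Normal] (hJ1 : J ≠ ⊥) :
    ∃ l : J →* ℂˣ, l ≠ 1 := by
  have h1 : ¬ J ≤ ⁅J, J⁆ := by
    intro hle
    apply hJ1
    have h2 : ∀ n, J ≤ derivedSeries G n := by
      intro n
      induction n with
      | zero => exact le_top
      | succ n ih =>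
        rw [derivedSeries_succ]
        exact hle.trans (Subgroup.commutator_mono ih ih)
    obtain ⟨n, hn⟩ := (Group.isSolvable_def G).1 inferInstance
    exact le_bot_iff.1 (hn ▸ h2 n)
  obtain ⟨j, hj, hj'⟩ := SetLike.not_le_iff_exists.1 h1
  obtain ⟨l, -, hl⟩ := exists_lin_ne (x := (⟨j, hj⟩ : J)) (comm_le J) le_rfl hj'
  exact ⟨l, fun e => hl (by rw [e]; rfl)⟩

variable {K : Subgroup G} [hK : K.Normal] {p : ℕ}

/-- characters of degree divisible by `p` are nontrivial on `N'`. -/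
theorem nontriv_of_dvd (hF : FrobQ K N p) {χ : G → ℂ} (hχ : IsIrrCharacter G χ)
    (hd : p ∣ charDegree χ) : ∃ j ∈ ⁅N, N⁆, χ j ≠ χ 1 := by
  by_contra hcon
  push Not at hcon
  obtain ⟨ψ, hψ, ⟨c, hc, hc'⟩, hker⟩ := H597.ThreeDegB.exists_under N hχ
  have hψ1 : charDegree ψ = 1 := by
    refine lin_of_comm (H := ⁅N, N⁆) (T := N) (comm_le N) le_rfl hψ ?_
    intro k
    exact hker _ (hcon k k.2)
  rw [hψ1, one_mul] at hc
  rw [hc] at hd
  exact hF.idx (hd.trans hc')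

/-- **The Frobenius type with an abelian Sylow subgroup**: one degree divisible by `p`. -/
theorem case_b2 [Group.IsSolvable G] (ha : Anti G) (hp : p.Prime) (hF : FrobQ K N p)
    (hab : ⁅N, N⁆ ≤ H597.RelThompson.Op p N) :
    ∃ m, ∀ χ : G → ℂ, IsIrrCharacter G χ → p ∣ charDegree χ → charDegree χ = m := by
  haveI := Fact.mk hp
  by_cases hJ : ⁅N, N⁆ = ⊥
  · refine ⟨0, fun χ hχ hd => ?_⟩
    obtain ⟨j, hj, hne⟩ := nontriv_of_dvd hF hχ hd
    rw [hJ, Subgroup.mem_bot] at hj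
    exact absurd (by rw [hj]) hne
  · obtain ⟨x, hx⟩ := exists_HB ha (cyc_of_frobQ hF) (H597.RelThompson.Op_le p N) hab hp
      (Op_coprime ha hp hF) (H597.RelThompson.relIndex_Op p N) hF.idx (Op_nc hF)
      (fun ψ hψ hψ1 => dvd_of_nonlin ha hp hF hψ hψ1) (exists_index_degree hF) hF.ne_top
      (exists_lin_of_solv hJ)
    obtain ⟨m, hm⟩ := hx.one_deg
    exact ⟨m, fun χ hχ hd => hm χ hχ (nontriv_of_dvd hF hχ hd)⟩

end Cfsg.Agent.H675.Nd
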