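import Mathlib

/-!
# Spaces of alternating forms all of whose nonzero elements are nondegenerate
-/

set_option autoImplicit false
set_option linter.style.haveILetI false
set_option linter.unusedSectionVars false

namespace Cfsg.Agent.H675.Nd

universe u v w

open Matrix

/-- The determinant of an alternating matrix over a field is a square. -/
theorem isSquare_det_alt {K : Type u} [Field K] (n : ℕ) : ∀ (ι : Type v) [Fintype ι] [DecidableEq ι]
    (M : Matrix ι ι K), Fintype.card ι = n → (∀ i j, M i j = - M j i) → (∀ i, M i i = 0) →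
    IsSquare M.det := by
  classical
  induction n using Nat.strong_induction_on with
  | _ n ih =>
  intro ι _ _ M hn hs h0
  by_cases hM : ∃ i j, M i j ≠ 0
  · obtain ⟨i, j, hij⟩ := hM
    have hne : i ≠ j := by
      rintro rfl
      exact hij (h0 i)
    let κ := {x : ι // x ≠ i ∧ x ≠ j}
    let f : Fin 2 ⊕ κ → ι := Sum.elim ![i, j] Subtype.val
    have hf : Function.Bijective f := by
      constructor
      · rintro (a | a) (b | b) hab
        · fin_cases a <;> fin_cases b
          · rfl
          · exact absurd hab hne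
          · exact absurd hab.symm hne
          · rfl
        · exfalso
          fin_cases a
          · exact b.2.1 hab.symm
          · exact b.2.2 hab.symm
        · exfalso
          fin_cases b
          · exact a.2.1 hab
          · exact a.2.2 hab
        · congr 1
          exact Subtype.ext hab
      · intro x
        by_cases hx : x = i
        · exact ⟨Sum.inl 0, hx.symm⟩
        · by_cases hx' : x = j
          · exact ⟨Sum.inl 1, hx'.symm⟩
          · exact ⟨Sum.inr ⟨x, hx, hx'⟩, rfl⟩
    let e : Fin 2 ⊕ κ ≃ ι := Equiv.ofBijective f hf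
    have hdet : M.det = (M.submatrix e e).det := (Matrix.det_submatrix_equiv_self e M).symm
    set a : K := M i j with ha
    let A : Matrix (Fin 2) (Fin 2) K := !![0, a; -a, 0]
    let A' : Matrix (Fin 2) (Fin 2) K := !![0, -a⁻¹; a⁻¹, 0]
    let B : Matrix (Fin 2) κ K := Matrix.of fun s k => M (![i, j] s) k
    let C : Matrix κ (Fin 2) K := Matrix.of fun k s => M k (![i, j] s)
    let D : Matrix κ κ K := Matrix.of fun k l => M k l
    have hsub : M.submatrix e e = Matrix.fromBlocks A B C D := by
      ext x y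
      rcases x with x | x <;> rcases y with y | y
      · fin_cases x <;> fin_cases y
        · exact h0 i
        · rfl
        · exact hs j i
        · exact h0 j
      · rfl
      · rfl
      · rfl
    have h1 : A * A' = 1 := by
      ext x y
      fin_cases x <;> fin_cases y <;> simp [A, A', Matrix.mul_apply, Fin.sum_univ_two, hij]
    have h2 : A' * A = 1 := by
      ext x y
      fin_cases x <;> fin_cases y <;> simp [A, A', Matrix.mul_apply, Fin.sum_univ_two, hij]
    letI : Invertible A := ⟨A', h2, h1⟩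
    rw [hdet, hsub, Matrix.det_fromBlocks₁₁]
    have hA : A.det = a * a := by
      rw [Matrix.det_fin_two]
      simp [A]
    have hent : ∀ k l, (D - C * ⅟A * B) k l = M k l - a⁻¹ * (M i k * M j l - M j k * M i l) := by
      intro k l
      have e1 : (C * ⅟A * B) k l = (C * A' * B) k l := rfl
      rw [Matrix.sub_apply, e1]
      have e2 : (C * A' * B) k l = M k j * a⁻¹ * M i l - M k i * a⁻¹ * M j l := by
        simp only [Matrix.mul_apply, Fin.sum_univ_two]
        simp [A', B, C]
        ring
      rw [e2, hs k j, hs k i]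
      change M k l - _ = _
      ring
    have hcard : Fintype.card κ < n := by
      rw [← hn]
      exact Fintype.card_subtype_lt (x := i) (by simp)
    obtain ⟨r, hr⟩ := ih _ hcard κ (D - C * ⅟A * B) rfl (by
      intro k l
      rw [hent, hent, hs k l]
      ring) (by
      intro k
      rw [hent, h0]
      ring)
    refine ⟨a * r, ?_⟩
    rw [hA, hr]
    ring
  · push Not at hM
    have hM' : M = 0 := by
      ext i j
      exact hM i j
    by_cases hι : IsEmpty ι
    · rw [Matrix.det_isEmpty]
      exact IsSquare.one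
    · rw [not_isEmpty_iff] at hι
      haveI := hι
      rw [hM', Matrix.det_zero]
      exact IsSquare.zero

theorem alt_bound {p d n : ℕ} [hp : Fact p.Prime] (A : Fin d → Matrix (Fin n) (Fin n) (ZMod p))
    (hs : ∀ k i j, A k i j = - A k j i) (h0 : ∀ k i, A k i i = 0) (hn : 0 < n)
    (hnd : ∀ c : Fin d → ZMod p, c ≠ 0 → (∑ k, c k • A k).det ≠ 0) : 2 * d ≤ n := by
  classical
  by_contra hcon
  push Not at hcon
  let R := MvPolynomial (Fin d) (ZMod p)
  let M : Matrix (Fin n) (Fin n) R := Matrix.of fun i j =>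
    ∑ k, MvPolynomial.X k * MvPolynomial.C (A k i j)
  have hMe : ∀ i j, M i j = ∑ k, MvPolynomial.X k * MvPolynomial.C (A k i j) := fun _ _ => rfl
  have hMs : ∀ i j, M i j = - M j i := by
    intro i j
    rw [hMe, hMe, ← Finset.sum_neg_distrib]
    refine Finset.sum_congr rfl fun k _ => ?_
    rw [hs k i j, map_neg, mul_neg]
  have hM0 : ∀ i, M i i = 0 := by
    intro i
    rw [hMe]
    refine Finset.sum_eq_zero fun k _ => ?_
    rw [h0, map_zero, mul_zero]
  have hdeg1 : ∀ i j, (M i j).totalDegree ≤ 1 := by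
    intro i j
    rw [hMe]
    refine MvPolynomial.totalDegree_finsetSum_le fun k _ => ?_
    refine (MvPolynomial.totalDegree_mul _ _).trans ?_
    rw [MvPolynomial.totalDegree_C, MvPolynomial.totalDegree_X]
  have hdeg : M.det.totalDegree ≤ n := by
    rw [Matrix.det_apply]
    refine MvPolynomial.totalDegree_finsetSum_le fun σ _ => ?_
    refine (MvPolynomial.totalDegree_smul_le _ _).trans ?_
    refine (MvPolynomial.totalDegree_finsetProd _ _).trans ?_
    refine (Finset.sum_le_sum fun i _ => hdeg1 (σ i) i).trans ?_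
    simp
  have heval : ∀ c : Fin d → ZMod p, MvPolynomial.eval c M.det = (∑ k, c k • A k).det := by
    intro c
    rw [RingHom.map_det]
    congr 1
    ext i j
    rw [RingHom.mapMatrix_apply, Matrix.map_apply, hMe, map_sum, Matrix.sum_apply]
    refine Finset.sum_congr rfl fun k _ => ?_
    rw [map_mul, MvPolynomial.eval_X, MvPolynomial.eval_C, Matrix.smul_apply, smul_eq_mul]
  -- the Pfaffian
  obtain ⟨f, hf⟩ : ∃ f : R, M.det = f * f := by
    let F := FractionRing R
    have h1 : IsSquare ((M.map (algebraMap R F)).det) := by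
      refine isSquare_det_alt (K := F) _ (Fin n) _ rfl ?_ ?_
      · intro i j
        rw [Matrix.map_apply, Matrix.map_apply, hMs i j, map_neg]
      · intro i
        rw [Matrix.map_apply, hM0, map_zero]
    obtain ⟨r, hr⟩ := h1
    have h2 : (M.map (algebraMap R F)).det = algebraMap R F M.det := by
      rw [RingHom.map_det]
      rfl
    rw [h2] at hr
    have h3 : IsIntegral R r := by
      refine IsIntegral.of_pow (n := 2) (by norm_num) ?_
      rw [pow_two, ← hr]
      exact isIntegral_algebraMap
    obtain ⟨f, rfl⟩ := IsIntegrallyClosed.isIntegral_iff.1 h3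
    refine ⟨f, ?_⟩
    rw [← map_mul] at hr
    exact (IsFractionRing.injective R F) hr
  have hfdeg : 2 * f.totalDegree ≤ n := by
    by_cases hf0 : f = 0
    · rw [hf0, MvPolynomial.totalDegree_zero]; omega
    · rw [hf, MvPolynomial.totalDegree_mul_of_isDomain hf0 hf0] at hdeg
      omega
  have hsum : ∑ c : Fin d → ZMod p, MvPolynomial.eval c (f ^ (p - 1)) = 0 := by
    apply MvPolynomial.sum_eval_eq_zero
    have h1 := MvPolynomial.totalDegree_pow f (p - 1)
    rw [ZMod.card, Fintype.card_fin]
    have hp1 : 0 < p - 1 := Nat.sub_pos_of_lt hp.out.one_lt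
    calc (f ^ (p - 1)).totalDegree ≤ (p - 1) * f.totalDegree := h1
      _ < (p - 1) * d := Nat.mul_lt_mul_of_pos_left (by omega) hp1
  have hval : ∀ c : Fin d → ZMod p, c ≠ 0 → MvPolynomial.eval c (f ^ (p - 1)) = 1 := by
    intro c hc
    rw [map_pow]
    refine ZMod.pow_card_sub_one_eq_one ?_
    intro h1
    apply hnd c hc
    rw [← heval, hf, map_mul, h1, mul_zero]
  have hval0 : MvPolynomial.eval (0 : Fin d → ZMod p) (f ^ (p - 1)) = 0 := by
    have h1 : MvPolynomial.eval (0 : Fin d → ZMod p) f = 0 := by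
      have h2 := heval 0
      rw [hf, map_mul] at h2
      have h3 : (∑ k, (0 : Fin d → ZMod p) k • A k) = 0 := by simp
      haveI : Nonempty (Fin n) := ⟨⟨0, hn⟩⟩
      rw [h3, Matrix.det_zero] at h2
      exact mul_self_eq_zero.1 h2
    rw [map_pow, h1, zero_pow]
    exact (Nat.sub_pos_of_lt hp.out.one_lt).ne'
  have hd : 0 < d := by omega
  have h5 : ∑ c : Fin d → ZMod p, MvPolynomial.eval c (f ^ (p - 1)) = -1 := by
    rw [← Finset.sum_erase_add _ _ (Finset.mem_univ (0 : Fin d → ZMod p)), hval0, add_zero,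
      Finset.sum_congr rfl (fun c hc => hval c (Finset.ne_of_mem_erase hc)), Finset.sum_const,
      Finset.card_erase_of_mem (Finset.mem_univ _), Finset.card_univ, Fintype.card_fun, ZMod.card,
      Fintype.card_fin, nsmul_eq_mul, mul_one, Nat.cast_sub (Nat.one_le_pow _ _ hp.out.pos)]
    simp [hd.ne']
  rw [hsum] at h5
  have h6 : (1 : ZMod p) = 0 := by
    have := congrArg Neg.neg h5
    simpa using this.symm
  exact one_ne_zero h6

section add

variable {p : ℕ} [hp : Fact p.Prime] {A : Type u} {S : Type v} [AddCommGroup A] [AddCommGroup S]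

theorem alt_bound_basis {d m : ℕ} [Module (ZMod p) A] [Module (ZMod p) S]
    (bA : Module.Basis (Fin d) (ZMod p) A) (bS : Module.Basis (Fin m) (ZMod p) S) (hm : 0 < m)
    (β : A →+ S →+ S →+ ZMod p) (alt : ∀ a s, β a s s = 0)
    (rad : ∀ a, a ≠ 0 → ∀ s, (∀ t, β a t s = 0) → s = 0) : 2 * d ≤ m := by
  classical
  have h1 : ∀ (c : ZMod p) (a : A) (s t : S), β (c • a) s t = c * β a s t := by
    intro c a s t
    exact ZMod.map_smul ((AddMonoidHom.eval t).comp ((AddMonoidHom.eval s).comp β)) c a
  have h2 : ∀ (c : ZMod p) (a : A) (s t : S), β a (c • s) t = c * β a s t := by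
    intro c a s t
    exact ZMod.map_smul ((AddMonoidHom.eval t).comp (β a)) c s
  have h3 : ∀ (c : ZMod p) (a : A) (s t : S), β a s (c • t) = c * β a s t := by
    intro c a s t
    exact ZMod.map_smul (β a s) c t
  have hs : ∀ a s t, β a s t = - β a t s := by
    intro a s t
    have h4 := alt a (s + t)
    rw [map_add, map_add, AddMonoidHom.add_apply, AddMonoidHom.add_apply, alt, alt,
      zero_add, add_zero] at h4
    rw [add_comm] at h4
    exact eq_neg_of_add_eq_zero_left h4
  refine alt_bound (fun k => Matrix.of fun i j => β (bA k) (bS i) (bS j)) (fun k i j => hs _ _ _)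
    (fun k i => alt _ _) hm ?_
  intro c hc hdet
  set a : A := ∑ k, c k • bA k with ha
  have ha' : a ≠ 0 := by
    intro h0
    apply hc
    funext k
    exact (Fintype.linearIndependent_iff.1 bA.linearIndependent) c h0 k
  have hent : ∀ i j, (∑ k, c k • (Matrix.of fun i j => β (bA k) (bS i) (bS j) :
      Matrix (Fin m) (Fin m) (ZMod p))) i j = β a (bS i) (bS j) := by
    intro i j
    rw [Matrix.sum_apply, ha, map_sum, AddMonoidHom.finsetSum_apply, AddMonoidHom.finsetSum_apply]
    refine Finset.sum_congr rfl fun k _ => ?_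
    rw [h1]
    rfl
  obtain ⟨v, hv, hv2⟩ := Matrix.exists_mulVec_eq_zero_iff.2 hdet
  apply hv
  have h4 : ∑ j, v j • bS j = 0 := by
    apply rad _ ha'
    have h5 : ∀ i, β a (bS i) (∑ j, v j • bS j) = 0 := by
      intro i
      have h6 := congrFun hv2 i
      rw [Pi.zero_apply, Matrix.mulVec, dotProduct] at h6
      rw [map_sum, ← h6]
      refine Finset.sum_congr rfl fun j _ => ?_
      rw [hent, h3, mul_comm]
    generalize (∑ j, v j • bS j) = u at h5
    intro t
    rw [← bS.sum_repr t, map_sum, AddMonoidHom.finsetSum_apply]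
    refine Finset.sum_eq_zero fun i _ => ?_
    rw [h2, h5, mul_zero]
  funext j
  exact (Fintype.linearIndependent_iff.1 bS.linearIndependent) v h4 j

theorem alt_bound_card [Finite A] [Finite S] (hA : ∀ a : A, p • a = 0) (hS : ∀ s : S, p • s = 0)
    (β : A →+ S →+ S →+ ZMod p) (alt : ∀ a s, β a s s = 0)
    (rad : ∀ a, a ≠ 0 → ∀ s, (∀ t, β a t s = 0) → s = 0) (h1 : Nontrivial S) :
    Nat.card A ^ 2 ≤ Nat.card S := by
  let i1 : Module (ZMod p) A := AddCommGroup.zmodModule (n := p) hA
  let i2 : Module (ZMod p) S := AddCommGroup.zmodModule (n := p) hS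
  have i3 : Module.Finite (ZMod p) A := Module.Finite.of_finite
  have i4 : Module.Finite (ZMod p) S := Module.Finite.of_finite
  have hcA : Nat.card A = p ^ Module.finrank (ZMod p) A := by
    rw [Module.natCard_eq_pow_finrank (K := ZMod p), Nat.card_zmod]
  have hcS : Nat.card S = p ^ Module.finrank (ZMod p) S := by
    rw [Module.natCard_eq_pow_finrank (K := ZMod p), Nat.card_zmod]
  have h2 := alt_bound_basis (Module.finBasis (ZMod p) A) (Module.finBasis (ZMod p) S)
    Module.finrank_pos β alt rad
  rw [hcA, hcS, ← pow_mul]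
  exact Nat.pow_le_pow_right hp.out.pos (by omega)

end add

section mul

variable {p : ℕ} [hp : Fact p.Prime] {Λ : Type u} {V : Type v} [CommGroup Λ] [Group V] [Finite Λ]
  [Finite V]

/-- **Lemma A.** -/
theorem lemA (β : Λ →* (V →* (V →* ℂˣ))) (hΛ : ∃ ν₀ : Λ, ν₀ ≠ 1 ∧ ν₀ ^ p = 1)
    (alt : ∀ ν x, β ν x x = 1) (R : Subgroup V)
    (hR : ∀ ν, ν ≠ 1 → ∀ x, (∀ y, β ν x y = 1) ↔ x ∈ R) (hRt : R ≠ ⊤) :
    Nat.card Λ ^ 2 ≤ R.index := by
  classical
  obtain ⟨ν₀, hν₀, hν₀p⟩ := hΛ
  -- exponents
  have hx : ∀ x : V, x ^ p ∈ R := by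
    intro x
    rw [← hR ν₀ hν₀]
    intro y
    have : β ν₀ (x ^ p) y = β (ν₀ ^ p) x y := by
      rw [map_pow, map_pow]
      rfl
    rw [this, hν₀p, map_one]
    rfl
  have hval : ∀ ν x y, (β ν x y) ^ p = 1 := by
    intro ν x y
    by_cases hν : ν = 1
    · rw [hν, map_one]
      change (1 : ℂˣ) ^ p = 1
      rw [one_pow]
    · have h1 := (hR ν hν (x ^ p)).2 (hx x) y
      rw [map_pow] at h1
      exact h1
  have hpow : ∀ ν : Λ, ν ^ p = 1 := by
    intro ν
    by_contra hν
    apply hRt
    rw [eq_top_iff]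
    intro x _
    rw [← hR _ hν]
    intro y
    have := hval ν x y
    rw [map_pow]
    exact this
  have hRn : R.Normal := by
    constructor
    intro x hx' g
    rw [← hR ν₀ hν₀] at hx' ⊢
    intro y
    rw [map_mul, map_mul, map_inv, mul_comm (β ν₀ g), mul_assoc, mul_inv_cancel, mul_one]
    exact hx' y
  have hcomm : ∀ a b : V ⧸ R, a * b = b * a := by
    intro a b
    obtain ⟨a, rfl⟩ := QuotientGroup.mk_surjective a
    obtain ⟨b, rfl⟩ := QuotientGroup.mk_surjective b
    rw [← QuotientGroup.mk_mul, ← QuotientGroup.mk_mul, QuotientGroup.eq, ← hR ν₀ hν₀]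
    intro y
    rw [map_mul, map_inv, map_mul, map_mul, mul_comm (β ν₀ a), inv_mul_cancel]
    rfl
  letI : CommGroup (V ⧸ R) := { (inferInstance : Group (V ⧸ R)) with mul_comm := hcomm }
  -- roots of unity
  have hcard : Nat.card (rootsOfUnity p ℂ) = p := by
    haveI : NeZero p := ⟨hp.out.ne_zero⟩
    exact Complex.card_rootsOfUnity p
  obtain ⟨e⟩ : Nonempty (rootsOfUnity p ℂ ≃* Multiplicative (ZMod p)) := by
    refine ⟨mulEquivOfPrimeCardEq (p := p) hcard ?_⟩
    rw [Nat.card_congr Multiplicative.toAdd, Nat.card_zmod]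
  have hswap : ∀ ν x y, β ν x y = (β ν y x)⁻¹ := by
    intro ν x y
    have h1 := alt ν (x * y)
    have h2 : β ν (x * y) (x * y) = β ν x x * β ν x y * (β ν y x * β ν y y) := by
      rw [map_mul (β ν) x y, MonoidHom.mul_apply, map_mul, map_mul]
    rw [h2, alt, alt, one_mul, mul_one] at h1
    exact eq_inv_of_mul_eq_one_left h1
  have hRr : ∀ ν, ∀ y ∈ R, ∀ x, β ν x y = 1 := by
    intro ν y hy x
    rw [hswap]
    by_cases hν : ν = 1
    · rw [hν, map_one]
      change (1 : ℂˣ)⁻¹ = 1
      rw [inv_one]
    · rw [(hR ν hν y).2 hy x, inv_one]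
  have hRl : ∀ ν, ∀ x ∈ R, ∀ y, β ν x y = 1 := by
    intro ν x hx' y
    rw [hswap, hRr ν x hx' y, inv_one]
  let φ : Λ → V → V → ZMod p := fun ν x y =>
    Multiplicative.toAdd (e ⟨β ν x y, by rw [mem_rootsOfUnity]; exact hval ν x y⟩)
  have hφ0 : ∀ ν x y, φ ν x y = 0 ↔ β ν x y = 1 := by
    intro ν x y
    change Multiplicative.toAdd _ = Multiplicative.toAdd 1 ↔ _
    rw [Multiplicative.toAdd.injective.eq_iff, map_eq_one_iff e e.injective]
    exact ⟨fun h => congrArg Subtype.val h, fun h => Subtype.ext h⟩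
  have hφ1 : ∀ ν ν' x y, φ (ν * ν') x y = φ ν x y + φ ν' x y := by
    intro ν ν' x y
    change Multiplicative.toAdd _ = Multiplicative.toAdd _ + Multiplicative.toAdd _
    rw [← toAdd_mul, ← map_mul]
    congr 2
    apply Subtype.ext
    change β (ν * ν') x y = β ν x y * β ν' x y
    rw [map_mul]
    rfl
  have hφ2 : ∀ ν x x' y, φ ν (x * x') y = φ ν x y + φ ν x' y := by
    intro ν x x' y
    change Multiplicative.toAdd _ = Multiplicative.toAdd _ + Multiplicative.toAdd _
    rw [← toAdd_mul, ← map_mul]
    congr 2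
    apply Subtype.ext
    change β ν (x * x') y = β ν x y * β ν x' y
    rw [map_mul]
    rfl
  have hφ3 : ∀ ν x y y', φ ν x (y * y') = φ ν x y + φ ν x y' := by
    intro ν x y y'
    change Multiplicative.toAdd _ = Multiplicative.toAdd _ + Multiplicative.toAdd _
    rw [← toAdd_mul, ← map_mul]
    congr 2
    apply Subtype.ext
    change β ν x (y * y') = β ν x y * β ν x y'
    rw [map_mul]
  have hφr : ∀ ν x y y', y⁻¹ * y' ∈ R → φ ν x y = φ ν x y' := by
    intro ν x y y' h
    have e1 : y' = y * (y⁻¹ * y') := by group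
    rw [e1, hφ3, (hφ0 _ _ _).2 (hRr ν _ h x), add_zero]
  have hφl : ∀ ν x x' y, x⁻¹ * x' ∈ R → φ ν x y = φ ν x' y := by
    intro ν x x' y h
    have e1 : x' = x * (x⁻¹ * x') := by group
    rw [e1, hφ2, (hφ0 _ _ _).2 (hRl ν _ h y), add_zero]
  let ψ : Λ → (V ⧸ R) → (V ⧸ R) → ZMod p := fun ν a b => φ ν a.out b.out
  have hψ : ∀ ν (x y : V), ψ ν x y = φ ν x y := by
    intro ν x y
    have h1 : ((x : V ⧸ R).out)⁻¹ * x ∈ R := by
      rw [← QuotientGroup.eq, QuotientGroup.out_eq']
    have h2 : ((y : V ⧸ R).out)⁻¹ * y ∈ R := by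
      rw [← QuotientGroup.eq, QuotientGroup.out_eq']
    change φ ν _ _ = _
    rw [hφl ν _ x _ h1, hφr ν _ _ y h2]
  let Ψ : Additive Λ →+ Additive (V ⧸ R) →+ Additive (V ⧸ R) →+ ZMod p :=
    AddMonoidHom.mk' (fun ν => AddMonoidHom.mk' (fun a => AddMonoidHom.mk' (fun b =>
      ψ (Additive.toMul ν) (Additive.toMul a) (Additive.toMul b)) (by
        intro b b'
        induction b using Additive.rec with | _ b
        induction b' using Additive.rec with | _ b'
        induction a using Additive.rec with | _ a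
        obtain ⟨a, rfl⟩ := QuotientGroup.mk_surjective a
        obtain ⟨b, rfl⟩ := QuotientGroup.mk_surjective b
        obtain ⟨b', rfl⟩ := QuotientGroup.mk_surjective b'
        change ψ _ (a : V ⧸ R) ((b * b' : V) : V ⧸ R) = ψ _ (a : V ⧸ R) (b : V ⧸ R) +
          ψ _ (a : V ⧸ R) (b' : V ⧸ R)
        rw [hψ, hψ, hψ, hφ3])) (by
        intro a a'
        apply AddMonoidHom.ext
        intro b
        induction a using Additive.rec with | _ a
        induction a' using Additive.rec with | _ a'
        induction b using Additive.rec with | _ b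
        obtain ⟨a, rfl⟩ := QuotientGroup.mk_surjective a
        obtain ⟨b, rfl⟩ := QuotientGroup.mk_surjective b
        obtain ⟨a', rfl⟩ := QuotientGroup.mk_surjective a'
        change ψ _ ((a * a' : V) : V ⧸ R) (b : V ⧸ R) = ψ _ (a : V ⧸ R) (b : V ⧸ R) +
          ψ _ (a' : V ⧸ R) (b : V ⧸ R)
        rw [hψ, hψ, hψ, hφ2])) (by
        intro ν ν'
        apply AddMonoidHom.ext
        intro a
        apply AddMonoidHom.ext
        intro b
        exact hφ1 _ _ _ _)
  have hΨ : ∀ (ν : Λ) (x y : V), Ψ (Additive.ofMul ν) (Additive.ofMul (x : V ⧸ R))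
      (Additive.ofMul (y : V ⧸ R)) = φ ν x y := fun ν x y => hψ ν x y
  haveI : Nontrivial (V ⧸ R) := by
    obtain ⟨x, hxR⟩ : ∃ x, x ∉ R := by
      by_contra hcon
      push Not at hcon
      exact hRt (eq_top_iff.2 fun x _ => hcon x)
    exact ⟨⟨x, 1, fun h => hxR ((QuotientGroup.eq_one_iff x).1 h)⟩⟩
  have key := alt_bound_card (p := p) (A := Additive Λ) (S := Additive (V ⧸ R)) (by
      intro a
      exact congrArg Additive.ofMul (hpow (Additive.toMul a))) (by
      intro s
      induction s using Additive.rec with | _ s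
      obtain ⟨x, rfl⟩ := QuotientGroup.mk_surjective s
      change Additive.ofMul ((x : V ⧸ R) ^ p) = Additive.ofMul 1
      congr 1
      rw [← QuotientGroup.mk_pow, QuotientGroup.eq_one_iff]
      exact hx x) Ψ (by
      intro ν s
      induction ν using Additive.rec with | _ ν
      induction s using Additive.rec with | _ s
      obtain ⟨x, rfl⟩ := QuotientGroup.mk_surjective s
      exact (hΨ ν x x).trans ((hφ0 _ _ _).2 (alt ν x))) (by
      intro ν hν s hs
      induction ν using Additive.rec with | _ ν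
      induction s using Additive.rec with | _ s
      obtain ⟨x, rfl⟩ := QuotientGroup.mk_surjective s
      have hν' : ν ≠ 1 := fun h => hν (congrArg Additive.ofMul h)
      have h1 : x ∈ R := by
        rw [← hR ν hν']
        intro y
        rw [hswap, (hφ0 ν y x).1 ((hΨ ν y x).symm.trans (hs (Additive.ofMul (y : V ⧸ R)))),
          inv_one]
      exact congrArg Additive.ofMul ((QuotientGroup.eq_one_iff x).2 h1)) inferInstance
  exact key

end mul

end Cfsg.Agent.H675.Nd
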