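import Mathlib
import Cfsg.Agent.H675.Nd.HB1

/-!
# Commutator forms of level four
-/

set_option autoImplicit false
set_option linter.style.haveILetI false
set_option linter.unusedSectionVars false

namespace Cfsg.Agent.H675.Nd

universe u v w u' v'

/-- The data of Lemma L. -/
structure LD {V : Type u} {W : Type v} {Λ : Type w} {Ξ : Type u'} [Group V] [Group W] [CommGroup Λ]
    [CommGroup Ξ] (β : Λ →* (V →* (V →* ℂˣ))) (T : Ξ →* (W →* (V →* ℂˣ))) (k : V →* Ξ)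
    (ψ : W →* Λ) (V₀ : Subgroup V) (W₀ : Subgroup W) (q : ℕ) : Prop where
  alt : ∀ ν x, β ν x x = 1
  hV : ∀ ν, ν ≠ 1 → ∀ x, (∀ y, β ν x y = 1) ↔ x ∈ V₀
  hW : ∀ κ, κ ≠ 1 → ∀ w, (∀ v, T κ w v = 1) ↔ w ∈ W₀
  hTV : ∀ κ w, ∀ v ∈ V₀, T κ w v = 1
  cΛ : Nat.card Λ = q
  cW : W₀.index = q
  cV : V₀.index = q * q
  iso : ∀ κ, κ ≠ 1 → ∀ x y, (∀ w, T κ w x = 1) → (∀ w, T κ w y = 1) → ∀ ν, β ν x y = 1
  hN : ∀ v, v ∉ V₀ → Nat.card {κ // ∀ w, T κ w v = 1} < q
  ksurj : Function.Surjective k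
  kV : ∀ v ∈ V₀, k v = 1
  jac : ∀ w v y, β (ψ w) v y = T (k y) w v * (T (k v) w y)⁻¹
  hΞ : ∃ κ : Ξ, κ ≠ 1

section LD

variable {V : Type u} {W : Type v} {Λ : Type w} {Ξ : Type u'} [Group V] [Group W] [CommGroup Λ]
  [CommGroup Ξ] [Finite V] [Finite W] [Finite Λ] [Finite Ξ] {β : Λ →* (V →* (V →* ℂˣ))}
  {T : Ξ →* (W →* (V →* ℂˣ))} {k : V →* Ξ} {ψ : W →* Λ} {V₀ : Subgroup V} {W₀ : Subgroup W} {q : ℕ}

/-- `v^⊥`. -/
def pp (β : Λ →* (V →* (V →* ℂˣ))) (v : V) : Subgroup V := (β.flip v).flip.ker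

theorem mem_pp {v y : V} : y ∈ pp β v ↔ ∀ ν, β ν v y = 1 := by
  rw [pp, MonoidHom.mem_ker]
  exact ⟨fun h ν => DFunLike.congr_fun h ν, fun h => MonoidHom.ext h⟩

/-- `V_κ`. -/
def VK (T : Ξ →* (W →* (V →* ℂˣ))) (κ : Ξ) : Subgroup V := (T κ).flip.ker

theorem mem_VK {κ : Ξ} {y : V} : y ∈ VK T κ ↔ ∀ w, T κ w y = 1 := by
  rw [VK, MonoidHom.mem_ker]
  exact ⟨fun h ν => DFunLike.congr_fun h ν, fun h => MonoidHom.ext h⟩

/-- The pairing `Ξ × W` given by `v`. -/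
def TV (T : Ξ →* (W →* (V →* ℂˣ))) (v : V) : Ξ →* (W →* ℂˣ) where
  toFun κ :=
    { toFun := fun w => T κ w v
      map_one' := by rw [map_one]; rfl
      map_mul' := fun a b => by rw [map_mul]; rfl }
  map_one' := by
    apply MonoidHom.ext
    intro w
    change T 1 w v = 1
    rw [map_one]
    rfl
  map_mul' := fun a b => by
    apply MonoidHom.ext
    intro w
    change T (a * b) w v = T a w v * T b w v
    rw [map_mul]
    rfl

theorem TV_apply (κ : Ξ) (w : W) (v : V) : TV T v κ w = T κ w v := rfl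

theorem mem_NN {v : V} {κ : Ξ} : κ ∈ (TV T v).ker ↔ ∀ w, T κ w v = 1 := by
  rw [MonoidHom.mem_ker]
  exact ⟨fun h ν => DFunLike.congr_fun h ν, fun h => MonoidHom.ext h⟩

theorem mem_WW {v : V} {w : W} : w ∈ (TV T v).flip.ker ↔ ∀ κ, T κ w v = 1 := by
  rw [MonoidHom.mem_ker]
  exact ⟨fun h ν => DFunLike.congr_fun h ν, fun h => MonoidHom.ext h⟩

theorem mem_VK_iff_NN {v : V} {κ : Ξ} : v ∈ VK T κ ↔ κ ∈ (TV T v).ker := by
  rw [mem_VK, mem_NN]

theorem LD.swap (h : LD β T k ψ V₀ W₀ q) (ν : Λ) (x y : V) : β ν x y = (β ν y x)⁻¹ := by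
  have h1 := h.alt ν (x * y)
  have h2 : β ν (x * y) (x * y) = β ν x x * β ν x y * (β ν y x * β ν y y) := by
    rw [map_mul (β ν) x y, MonoidHom.mul_apply, map_mul, map_mul]
  rw [h2, h.alt, h.alt, one_mul, mul_one] at h1
  exact eq_inv_of_mul_eq_one_left h1

theorem LD.pp_symm (h : LD β T k ψ V₀ W₀ q) {x y : V} (hx : x ∈ pp β y) : y ∈ pp β x := by
  rw [mem_pp] at hx ⊢
  intro ν
  rw [h.swap, hx ν, inv_one]

theorem LD.one_lt (h : LD β T k ψ V₀ W₀ q) : 1 < q := by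
  rw [← h.cW]
  obtain ⟨κ, hκ⟩ := h.hΞ
  have h1 : W₀.index ≠ 0 := Subgroup.index_ne_zero_of_finite
  have h2 : W₀.index ≠ 1 := by
    intro e
    have h3 := h.cV
    rw [← h.cW, e, one_mul] at h3
    rw [Subgroup.index_eq_one] at h3
    obtain ⟨v, hv⟩ := h.ksurj κ
    apply hκ
    rw [← hv]
    exact h.kV v (h3 ▸ Subgroup.mem_top v)
  omega

theorem LD.idx_pp (h : LD β T k ψ V₀ W₀ q) {v : V} (hv : v ∉ V₀) : (pp β v).index = q := by
  have h1 := card_pair (β.flip v)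
  have h2 : (β.flip v).ker = ⊥ := by
    rw [eq_bot_iff]
    intro ν hν
    rw [Subgroup.mem_bot]
    by_contra hne
    apply hv
    rw [← h.hV ν hne]
    intro y
    exact DFunLike.congr_fun hν y
  rw [h2, Subgroup.index_bot, h.cΛ] at h1
  exact h1.symm

theorem LD.idx_VK (h : LD β T k ψ V₀ W₀ q) {κ : Ξ} (hκ : κ ≠ 1) : (VK T κ).index = q := by
  have h1 := card_pair (T κ)
  have h2 : (T κ).ker = W₀ := by
    ext w
    rw [← h.hW κ hκ, MonoidHom.mem_ker]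
    exact ⟨fun h ν => DFunLike.congr_fun h ν, fun h => MonoidHom.ext h⟩
  rw [h2, h.cW] at h1
  exact h1.symm

theorem LD.VK_eq (h : LD β T k ψ V₀ W₀ q) {κ : Ξ} (hκ : κ ≠ 1) {v : V} (hv : v ∉ V₀)
    (hvκ : v ∈ VK T κ) : VK T κ = pp β v := by
  have hle : VK T κ ≤ pp β v := by
    intro y hy
    rw [mem_pp]
    exact h.iso κ hκ v y (mem_VK.1 hvκ) (mem_VK.1 hy)
  exact eq_of_le_of_index_eq hle (by rw [h.idx_VK hκ, h.idx_pp hv])

theorem LD.NN_le (h : LD β T k ψ V₀ W₀ q) {κ : Ξ} (hκ : κ ≠ 1) {v v' : V} (hv : v ∉ V₀)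
    (hv' : v' ∉ V₀) (hvκ : v ∈ VK T κ) (hvκ' : v' ∈ VK T κ) : (TV T v).ker ≤ (TV T v').ker := by
  intro κ' hκ'
  by_cases h1 : κ' = 1
  · rw [h1]; exact Subgroup.one_mem _
  · rw [← mem_VK_iff_NN] at hκ' ⊢
    rw [h.VK_eq h1 hv hκ', ← h.VK_eq hκ hv hvκ]
    exact hvκ'

theorem LD.NN_eq (h : LD β T k ψ V₀ W₀ q) {κ : Ξ} (hκ : κ ≠ 1) {v v' : V} (hv : v ∉ V₀)
    (hv' : v' ∉ V₀) (hvκ : v ∈ VK T κ) (hvκ' : v' ∈ VK T κ) : (TV T v).ker = (TV T v').ker :=
  le_antisymm (h.NN_le hκ hv hv' hvκ hvκ') (h.NN_le hκ hv' hv hvκ' hvκ)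

theorem LD.card_NN (h : LD β T k ψ V₀ W₀ q) {v : V} (hv : v ∉ V₀) :
    Nat.card (TV T v).ker < q := by
  refine lt_of_eq_of_lt ?_ (h.hN v hv)
  exact Nat.card_congr (Equiv.subtypeEquivRight fun κ => mem_NN)

theorem LD.W₀_le (h : LD β T k ψ V₀ W₀ q) (v : V) : W₀ ≤ (TV T v).flip.ker := by
  intro w hw
  rw [mem_WW]
  intro κ
  by_cases hκ : κ = 1
  · rw [hκ, map_one]; rfl
  · exact (h.hW κ hκ w).2 hw v

theorem LD.idx_NN (_h : LD β T k ψ V₀ W₀ q) (v : V) :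
    (TV T v).ker.index = (TV T v).flip.ker.index := card_pair (TV T v)

theorem LD.exists_not_mem (h : LD β T k ψ V₀ W₀ q) : ∃ v, v ∉ V₀ := by
  by_contra hcon
  push Not at hcon
  have h1 := h.cV
  rw [Subgroup.index_eq_one.2 (eq_top_iff.2 fun v _ => hcon v)] at h1
  have := h.one_lt
  nlinarith

theorem LD.V₀_le (h : LD β T k ψ V₀ W₀ q) : V₀ ≤ k.ker := fun v hv => h.kV v hv

/-- (L0) -/
theorem LD.ker_ne (h : LD β T k ψ V₀ W₀ q) : ∃ u ∈ k.ker, u ∉ V₀ := by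
  by_contra hcon
  push Not at hcon
  have he : k.ker = V₀ := le_antisymm (fun u hu => hcon u hu) h.V₀_le
  obtain ⟨v, hv⟩ := h.exists_not_mem
  have h1 : Nat.card Ξ = q * q := by
    have h2 := Subgroup.index_ker k
    rw [he, h.cV, MonoidHom.range_eq_top.2 h.ksurj] at h2
    rw [h2]
    exact (Nat.card_congr Subgroup.topEquiv.toEquiv).symm
  have h3 := Subgroup.index_mul_card (TV T v).ker
  rw [h1, h.idx_NN v] at h3
  have h4 : (TV T v).flip.ker.index ≤ q := by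
    rw [← h.cW]
    exact Nat.le_of_dvd (Nat.pos_of_ne_zero Subgroup.index_ne_zero_of_finite)
      (Subgroup.index_dvd_of_le (h.W₀_le v))
  have h5 := h.card_NN hv
  have h6 := h.one_lt
  have h7 : (TV T v).flip.ker.index * Nat.card (TV T v).ker ≤ q * Nat.card (TV T v).ker :=
    Nat.mul_le_mul_right _ h4
  have h8 : q * Nat.card (TV T v).ker < q * q := Nat.mul_lt_mul_of_pos_left h5 (by omega)
  omega

theorem sup_eq_top_of_index {A B C : Subgroup V} [A.Normal] (hC : C ≤ A ⊓ B) (hC' : A ⊓ B ≤ C)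
    {q : ℕ} (hA : A.index = q) (hB : B.index = q) (hCi : C.index = q * q) : B ⊔ A = ⊤ := by
  have he : A ⊓ B = C := le_antisymm hC' hC
  have h1 := Subgroup.relIndex_mul_index (inf_le_right : A ⊓ B ≤ B)
  rw [he, hB, hCi] at h1
  have hq : 0 < q := by
    rw [← hA]; exact Nat.pos_of_ne_zero Subgroup.index_ne_zero_of_finite
  have h2 : C.relIndex B = q := Nat.eq_of_mul_eq_mul_right hq h1
  have h3 : A.relIndex B = q := by
    rw [← h2, ← he, Subgroup.inf_relIndex_right]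
  have h4 : A.relIndex (B ⊔ A) = q := by
    rw [Subgroup.relIndex_sup_right, h3]
  have h5 := Subgroup.relIndex_mul_index (le_sup_right : A ≤ B ⊔ A)
  rw [h4, hA] at h5
  rw [← Subgroup.index_eq_one]
  exact Nat.eq_of_mul_eq_mul_left hq (by rw [h5, mul_one])

/-- (L1) -/
theorem LD.self_mem (h : LD β T k ψ V₀ W₀ q) {v : V} (hv : v ∉ k.ker) {w : W}
    (hw : w ∈ (TV T v).flip.ker) (hw₀ : w ∉ W₀) : v ∈ VK T (k v) := by
  have hκ : k v ≠ 1 := hv
  have hv₀ : v ∉ V₀ := fun hv' => hv (h.V₀_le hv')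
  rw [mem_WW] at hw
  have h1 : ∀ y ∈ pp β v, T (k v) w y = 1 := by
    intro y hy
    have h2 := h.jac w v y
    rw [mem_pp.1 hy, hw, one_mul] at h2
    exact inv_eq_one.1 h2.symm
  haveI : (pp β v).Normal := by rw [pp]; infer_instance
  obtain ⟨x, ⟨hx1, hx2⟩, hx⟩ : ∃ x ∈ pp β v ⊓ VK T (k v), x ∉ V₀ := by
    by_contra hcon
    push Not at hcon
    apply hw₀
    rw [← h.hW (k v) hκ]
    have h2 : VK T (k v) ⊔ pp β v = ⊤ := by
      refine sup_eq_top_of_index (C := V₀) ?_ (fun x hx => hcon x hx) (h.idx_pp hv₀)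
        (h.idx_VK hκ) h.cV
      intro x hx
      refine ⟨?_, mem_VK.2 fun w => h.hTV _ _ x hx⟩
      refine h.pp_symm ?_
      rw [mem_pp]
      intro ν
      by_cases hν : ν = 1
      · rw [hν, map_one]; rfl
      · exact (h.hV ν hν x).2 hx v
    intro y
    have hy : y ∈ VK T (k v) ⊔ pp β v := by rw [h2]; exact Subgroup.mem_top y
    obtain ⟨a, ha, b, hb, rfl⟩ := Subgroup.mem_sup_of_normal_right.1 hy
    rw [map_mul, mem_VK.1 ha, h1 b hb, mul_one]
  rw [h.VK_eq hκ hx hx2]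
  exact h.pp_symm hx1

theorem LD.index_ker (h : LD β T k ψ V₀ W₀ q) : k.ker.index = Nat.card Ξ := by
  rw [Subgroup.index_ker, MonoidHom.range_eq_top.2 h.ksurj]
  exact Nat.card_congr Subgroup.topEquiv.toEquiv

/-- (a) -/
theorem LD.exists_psi_ne (h : LD β T k ψ V₀ W₀ q) : ∃ w, ψ w ≠ 1 := by
  by_contra hcon
  push Not at hcon
  have hN : ∀ u ∈ k.ker, (TV T u).ker = ⊤ := by
    intro u hu
    rw [eq_top_iff]
    intro κ _
    rw [mem_NN]
    intro w
    obtain ⟨y, rfl⟩ := h.ksurj κ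
    have h1 := h.jac w u y
    rw [hcon w, map_one, MonoidHom.mem_ker.1 hu, map_one] at h1
    change (1 : ℂˣ) = T (k y) w u * (1 : ℂˣ)⁻¹ at h1
    rw [inv_one, mul_one] at h1
    exact h1.symm
  obtain ⟨κ, hκ⟩ := h.hΞ
  obtain ⟨u, hu, hu₀⟩ := h.ker_ne
  have h1 : k.ker ≤ VK T κ := by
    intro u hu
    rw [mem_VK_iff_NN, hN u hu]
    exact Subgroup.mem_top κ
  have h2 := h.card_NN hu₀
  rw [hN u hu, Nat.card_congr Subgroup.topEquiv.toEquiv, ← h.index_ker] at h2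
  have h3 := Nat.le_of_dvd (Nat.pos_of_ne_zero Subgroup.index_ne_zero_of_finite)
    (Subgroup.index_dvd_of_le h1)
  rw [h.idx_VK hκ] at h3
  omega

/-- (c) -/
theorem LD.le_card (h : LD β T k ψ V₀ W₀ q) : q ≤ Nat.card Ξ := by
  by_cases hex : ∃ v, (TV T v).flip.ker = W₀
  · obtain ⟨v, hv⟩ := hex
    have h1 := h.idx_NN v
    rw [hv, h.cW] at h1
    rw [← h1]
    exact Nat.le_of_dvd Nat.card_pos (Subgroup.index_dvd_card _)
  · exfalso
    push Not at hex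
    have hself : ∀ v, v ∉ k.ker → v ∈ VK T (k v) := by
      intro v hv
      obtain ⟨w, hw, hw₀⟩ : ∃ w ∈ (TV T v).flip.ker, w ∉ W₀ := by
        by_contra hcon
        push Not at hcon
        exact hex v (le_antisymm (fun w hw => hcon w hw) (h.W₀_le v))
      exact h.self_mem hv hw hw₀
    have hU : ∀ v, v ∉ k.ker → k.ker ≤ VK T (k v) := by
      intro v hv u hu
      have hv₀ : v ∉ V₀ := fun hv' => hv (h.V₀_le hv')
      have hku : k (u * v) = k v := by rw [map_mul, MonoidHom.mem_ker.1 hu, one_mul]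
      have huv : u * v ∉ k.ker := by
        rw [MonoidHom.mem_ker, hku]
        exact hv
      have h1 := hself _ huv
      rw [hku] at h1
      have h2 := (VK T (k v)).mul_mem h1 ((VK T (k v)).inv_mem (hself v hv))
      rwa [mul_inv_cancel_right] at h2
    obtain ⟨u, hu, hu₀⟩ := h.ker_ne
    obtain ⟨κ, hκ⟩ := h.hΞ
    obtain ⟨v₁, rfl⟩ := h.ksurj κ
    have h1 : VK T (k v₁) = pp β u := h.VK_eq hκ hu₀ (hU v₁ hκ hu)
    have h2 : pp β u = ⊤ := by
      rw [eq_top_iff]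
      intro v _
      by_cases hv : v ∈ k.ker
      · rw [← h1]; exact hU v₁ hκ hv
      · rw [← h.VK_eq (κ := k v) hv hu₀ (hU v hv hu)]
        exact hself v hv
    have h3 := h.idx_pp hu₀
    rw [h2, Subgroup.index_top] at h3
    have := h.one_lt
    omega

/-- (b) -/
theorem LD.exists_psi_eq (h : LD β T k ψ V₀ W₀ q) : ∃ w, ψ w = 1 ∧ w ∉ W₀ := by
  by_contra hcon
  push Not at hcon
  obtain ⟨u, hu, hu₀⟩ := h.ker_ne
  -- (i)
  have h1 : ∀ u ∈ k.ker, u ∉ V₀ → ∀ w ∈ (TV T u).flip.ker, w ∈ W₀ := by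
    intro u hu hu₀ w hw
    apply hcon
    by_contra hne
    apply hu₀
    rw [← h.hV _ hne]
    intro y
    rw [h.jac, mem_WW.1 hw, MonoidHom.mem_ker.1 hu, map_one]
    change 1 * (1 : ℂˣ)⁻¹ = 1
    rw [inv_one, mul_one]
  -- (ii)
  have h2 : ∀ v, v ∉ V₀ → ∀ w ∈ (TV T v).flip.ker, w ∈ W₀ := by
    intro v hv₀ w hw
    by_contra hw₀
    have hv : v ∉ k.ker := fun hv => hw₀ (h1 v hv hv₀ w hw)
    have hκ : k v ≠ 1 := hv
    have hself := h.self_mem hv hw hw₀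
    have hne : ∀ v' ∈ VK T (k v), v' ∉ V₀ → ∃ w' ∈ (TV T v').flip.ker, w' ∉ W₀ := by
      intro v' hv' hv'₀
      by_contra hc
      push Not at hc
      have e1 : (TV T v').flip.ker = W₀ := le_antisymm (fun w hw => hc w hw) (h.W₀_le v')
      have e2 := h.idx_NN v'
      rw [← h.NN_eq hκ hv₀ hv'₀ hself hv', e1, h.idx_NN v] at e2
      exact hw₀ ((eq_of_le_of_index_eq (h.W₀_le v) e2.symm).ge hw)
    have hk : (VK T (k v)).map k ≤ (TV T v).ker := by
      rintro _ ⟨v', hv', rfl⟩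
      by_cases hv'₀ : v' ∈ V₀
      · rw [h.kV v' hv'₀]; exact Subgroup.one_mem _
      · obtain ⟨w', hw', hw'₀⟩ := hne v' hv' hv'₀
        have hv'k : v' ∉ k.ker := fun hk' => hw'₀ (h1 v' hk' hv'₀ w' hw')
        rw [h.NN_eq hκ hv₀ hv'₀ hself hv', ← mem_VK_iff_NN]
        exact h.self_mem hv'k hw' hw'₀
    have hinf : k.ker ⊓ VK T (k v) = V₀ := by
      refine le_antisymm ?_ ?_
      · rintro v' ⟨hv'k, hv'⟩
        by_contra hv'₀
        obtain ⟨w', hw', hw'₀⟩ := hne v' hv' hv'₀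
        exact hw'₀ (h1 v' hv'k hv'₀ w' hw')
      · intro x hx
        exact ⟨h.V₀_le hx, mem_VK.2 fun w => h.hTV _ _ x hx⟩
    have hcard : Nat.card ((VK T (k v)).map k) = q := by
      rw [← Subgroup.relIndex_ker, ← Subgroup.inf_relIndex_right, hinf]
      have h3 := Subgroup.relIndex_mul_index (hinf ▸ inf_le_right : V₀ ≤ VK T (k v))
      rw [h.idx_VK hκ, h.cV] at h3
      exact Nat.eq_of_mul_eq_mul_right (by have := h.one_lt; omega) h3
    have h4 := Subgroup.card_le_of_le hk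
    have h5 := h.card_NN hv₀
    omega
  -- (iii)
  obtain ⟨w, hw₀⟩ : ∃ w, w ∉ W₀ := by
    by_contra hc
    push Not at hc
    have h3 := h.cW
    rw [Subgroup.index_eq_one.2 (eq_top_iff.2 fun v _ => hc v)] at h3
    have := h.one_lt
    omega
  let F : V →* (V →* ℂˣ) :=
    { toFun := fun y => T (k y) w
      map_one' := by rw [map_one, map_one]; rfl
      map_mul' := fun a b => by rw [map_mul, map_mul]; rfl }
  have hF : ∀ y v, F y v = T (k y) w v := fun _ _ => rfl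
  have h3 := card_pair F
  have h4 : F.ker = k.ker := by
    ext y
    rw [MonoidHom.mem_ker, MonoidHom.mem_ker]
    constructor
    · intro h5
      by_contra hne
      apply hw₀
      rw [← h.hW _ hne]
      exact fun v => DFunLike.congr_fun h5 v
    · intro h5
      apply MonoidHom.ext
      intro v
      rw [hF, h5, map_one]
      rfl
  have h5 : F.flip.ker = V₀ := by
    ext v
    constructor
    · intro h6
      by_contra hv
      refine hw₀ (h2 v hv w ?_)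
      rw [mem_WW]
      intro κ
      obtain ⟨y, rfl⟩ := h.ksurj κ
      exact DFunLike.congr_fun h6 y
    · intro h6
      apply MonoidHom.ext
      intro y
      exact h.hTV _ _ v h6
  rw [h4, h5] at h3
  exact hu₀ ((eq_of_le_of_index_eq h.V₀_le h3.symm).ge hu)

end LD

end Cfsg.Agent.H675.Nd
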