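import Mathlib
import Cfsg.Agent.H675.Nd.HB6
import Cfsg.Agent.H675.Nd.LA
import Cfsg.Agent.H675.Nd.LL
import Cfsg.Agent.OddOrderCharacters.PF9.GaloisClifford

/-!
# Values of linear characters, commutator pairings, characters fully ramified over a subgroup
-/

set_option autoImplicit false
set_option linter.style.haveILetI false
set_option linter.unusedSectionVars false
open Cfsg

namespace Cfsg.Agent.H675.Nd

open Cfsg.Agent.Characters.Core Cfsg.Agent.Characters.Clifford Cfsg.Agent.H672 Cfsg.Agent.H672.RM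
open Cfsg.Agent.H597.FrobA
open scoped commutatorElement

universe u v w

section ev

variable {G : Type u} [Group G] {D : Subgroup G}

open Classical in
/-- The value of a linear character of `D`; `1` off `D`. -/
noncomputable def ev (δ : D →* ℂˣ) (g : G) : ℂˣ := if h : g ∈ D then δ ⟨g, h⟩ else 1

theorem ev_of_mem (δ : D →* ℂˣ) {g : G} (h : g ∈ D) : ev δ g = δ ⟨g, h⟩ := dif_pos h

theorem ev_not_mem (δ : D →* ℂˣ) {g : G} (h : g ∉ D) : ev δ g = 1 := dif_neg h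

theorem ev_mul (δ : D →* ℂˣ) {a b : G} (ha : a ∈ D) (hb : b ∈ D) :
    ev δ (a * b) = ev δ a * ev δ b := by
  rw [ev_of_mem δ ha, ev_of_mem δ hb, ev_of_mem δ (D.mul_mem ha hb), ← map_mul]
  rfl

theorem ev_one (δ : D →* ℂˣ) : ev δ 1 = 1 := by
  rw [ev_of_mem δ D.one_mem]
  exact map_one δ

theorem ev_inv (δ : D →* ℂˣ) {a : G} (ha : a ∈ D) : ev δ a⁻¹ = (ev δ a)⁻¹ := by
  rw [ev_of_mem δ ha, ev_of_mem δ (D.inv_mem ha), ← map_inv]
  rfl

theorem ev_pow (δ : D →* ℂˣ) {a : G} (ha : a ∈ D) (n : ℕ) : ev δ (a ^ n) = (ev δ a) ^ n := by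
  rw [ev_of_mem δ ha, ev_of_mem δ (D.pow_mem ha n), ← map_pow]
  rfl

theorem ev_hmul (δ δ' : D →* ℂˣ) (g : G) : ev (δ * δ') g = ev δ g * ev δ' g := by
  by_cases h : g ∈ D
  · rw [ev_of_mem _ h, ev_of_mem _ h, ev_of_mem _ h, MonoidHom.mul_apply]
  · rw [ev_not_mem _ h, ev_not_mem _ h, ev_not_mem _ h, one_mul]

theorem ev_hone (g : G) : ev (1 : D →* ℂˣ) g = 1 := by
  by_cases h : g ∈ D
  · rw [ev_of_mem _ h]; rfl
  · exact ev_not_mem _ h

theorem ev_hinv (δ : D →* ℂˣ) (g : G) : ev δ⁻¹ g = (ev δ g)⁻¹ := by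
  by_cases h : g ∈ D
  · rw [ev_of_mem _ h, ev_of_mem _ h]; rfl
  · rw [ev_not_mem _ h, ev_not_mem _ h, inv_one]

theorem ev_ext {δ δ' : D →* ℂˣ} (h : ∀ d ∈ D, ev δ d = ev δ' d) : δ = δ' := by
  apply MonoidHom.ext
  rintro ⟨d, hd⟩
  have := h d hd
  rwa [ev_of_mem δ hd, ev_of_mem δ' hd] at this

theorem ev_ne_one {δ : D →* ℂˣ} (h : δ ≠ 1) : ∃ d ∈ D, ev δ d ≠ 1 := by
  by_contra hcon
  push Not at hcon
  exact h (ev_ext fun d hd => (hcon d hd).trans (ev_hone d).symm)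

theorem ev_coe (δ : D →* ℂˣ) (d : D) : ((ev δ (d : G) : ℂˣ) : ℂ) = lf δ d := by
  rw [ev_of_mem δ d.2]
  rfl

/-- stabilizers in terms of `ev` -/
theorem mem_stab_ev [Finite G] {δ : D →* ℂˣ} {g : G} : g ∈ stab (lf δ : D → ℂ) ↔
    g ∈ Subgroup.normalizer (D : Set G) ∧ ∀ d ∈ D, ev δ (g * d * g⁻¹) = ev δ d := by
  rw [mem_stab]
  refine and_congr_right fun hg => ?_
  constructor
  · intro h d hd
    have h1 := congrFun h ⟨d, hd⟩
    rw [tw_apply hg, lf_apply, lf_apply] at h1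
    have h2 : g * d * g⁻¹ ∈ D := conj_mem_of_mem hg ⟨d, hd⟩
    rw [ev_of_mem δ h2, ev_of_mem δ hd]
    exact Units.ext h1
  · intro h
    funext d
    rw [tw_apply hg, lf_apply, lf_apply]
    have h2 : g * d * g⁻¹ ∈ D := conj_mem_of_mem hg d
    have h1 := h d d.2
    rw [ev_of_mem δ h2, ev_of_mem δ d.2] at h1
    exact congrArg Units.val h1

variable [hD : D.Normal]

theorem ev_cl (g : G) (δ : D →* ℂˣ) {d : G} (hd : d ∈ D) :
    ev (cl g δ) d = ev δ (g * d * g⁻¹) := by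
  rw [ev_of_mem _ hd, ev_of_mem _ (hD.conj_mem d hd g), cl_apply]

theorem cl_eq_iff {g : G} {δ : D →* ℂˣ} :
    cl g δ = δ ↔ ∀ d ∈ D, ev δ (g * d * g⁻¹) = ev δ d := by
  constructor
  · intro h d hd
    rw [← ev_cl g δ hd, h]
  · intro h
    apply ev_ext
    intro d hd
    rw [ev_cl g δ hd, h d hd]

theorem ev_conj {g : G} {δ : D →* ℂˣ} (h : cl g δ = δ) {d : G} (hd : d ∈ D) :
    ev δ (g * d * g⁻¹) = ev δ d := cl_eq_iff.1 h d hd

theorem ev_comm_mul_left {δ : D →* ℂˣ} {a a' b : G} (ha : cl a δ = δ) (h1 : ⁅a, b⁆ ∈ D)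
    (h2 : ⁅a', b⁆ ∈ D) : ev δ ⁅a * a', b⁆ = ev δ ⁅a, b⁆ * ev δ ⁅a', b⁆ := by
  have e : ⁅a * a', b⁆ = (a * ⁅a', b⁆ * a⁻¹) * ⁅a, b⁆ := by
    simp only [commutatorElement_def]; group
  rw [e, ev_mul δ (hD.conj_mem _ h2 a) h1, ev_conj ha h2, mul_comm]

theorem ev_comm_mul_right {δ : D →* ℂˣ} {a b b' : G} (hb : cl b δ = δ) (h1 : ⁅a, b⁆ ∈ D)
    (h2 : ⁅a, b'⁆ ∈ D) : ev δ ⁅a, b * b'⁆ = ev δ ⁅a, b⁆ * ev δ ⁅a, b'⁆ := by
  have e : ⁅a, b * b'⁆ = ⁅a, b⁆ * (b * ⁅a, b'⁆ * b⁻¹) := by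
    simp only [commutatorElement_def]; group
  rw [e, ev_mul δ h1 (hD.conj_mem _ h2 b), ev_conj hb h2]

theorem ev_comm_conj {δ : D →* ℂˣ} {g a b : G} (hg : cl g δ = δ) (h : ⁅a, b⁆ ∈ D) :
    ev δ ⁅g * a * g⁻¹, g * b * g⁻¹⁆ = ev δ ⁅a, b⁆ := by
  have e : ⁅g * a * g⁻¹, g * b * g⁻¹⁆ = g * ⁅a, b⁆ * g⁻¹ := by
    simp only [commutatorElement_def]; group
  rw [e, ev_conj hg h]

theorem ev_comm_swap (δ : D →* ℂˣ) {a b : G} (h : ⁅a, b⁆ ∈ D) :
    ev δ ⁅b, a⁆ = (ev δ ⁅a, b⁆)⁻¹ := by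
  rw [← commutatorElement_inv a b, ev_inv δ h]

theorem comm_swap_mem {a b : G} (h : ⁅a, b⁆ ∈ D) : ⁅b, a⁆ ∈ D := by
  rw [← commutatorElement_inv a b]; exact D.inv_mem h

/-- The pairing `(a, b) ↦ δ ⁅a, b⁆`. -/
noncomputable def cpair (A B : Subgroup G) (δ : D →* ℂˣ) (hAB : ∀ a ∈ A, ∀ b ∈ B, ⁅a, b⁆ ∈ D)
    (hA : ∀ a ∈ A, cl a δ = δ) (hB : ∀ b ∈ B, cl b δ = δ) : A →* (B →* ℂˣ) :=
  MonoidHom.mk' (fun a => MonoidHom.mk' (fun b => ev δ ⁅(a : G), (b : G)⁆) (fun b b' =>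
    ev_comm_mul_right (hB b b.2) (hAB a a.2 b b.2) (hAB a a.2 b' b'.2))) (fun a a' => by
      apply MonoidHom.ext
      intro b
      exact ev_comm_mul_left (hA a a.2) (hAB a a.2 b b.2) (hAB a' a'.2 b b.2))

theorem cpair_apply {A B : Subgroup G} {δ : D →* ℂˣ} {hAB : ∀ a ∈ A, ∀ b ∈ B, ⁅a, b⁆ ∈ D}
    {hA : ∀ a ∈ A, cl a δ = δ} {hB : ∀ b ∈ B, cl b δ = δ} (a : A) (b : B) :
    cpair A B δ hAB hA hB a b = ev δ ⁅(a : G), (b : G)⁆ := rfl

theorem coprime_eq_one {c : ℂˣ} {m n : ℕ} (hm : c ^ m = 1) (hn : c ^ n = 1) (h : m.Coprime n) :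
    c = 1 := by
  have := pow_gcd_eq_one.2 ⟨hm, hn⟩
  rwa [h.gcd_eq_one, pow_one] at this

end ev

section onto

variable {G : Type u} [Group G] [Finite G] {B M : Subgroup G} [hB : B.Normal]

/-- Every element of `M` is `⁅g, m⁆` modulo `B`, if `g` acts without fixed points on the abelian
section `M / B`. -/
theorem exists_comm_mul (hMM : ⁅M, M⁆ ≤ B) {g : G}
    (hg : ∀ m ∈ M, g * m * g⁻¹ ∈ M) (hfp : ∀ m ∈ M, g * m * g⁻¹ * m⁻¹ ∈ B → m ∈ B) {m : G}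
    (hm : m ∈ M) : ∃ m' ∈ M, (g * m' * g⁻¹ * m'⁻¹)⁻¹ * m ∈ B := by
  have hcomm : ∀ a ∈ M, ∀ b ∈ M, (a : G ⧸ B) * (b : G ⧸ B) = b * a := by
    intro a ha b hb
    have h1 := hMM (Subgroup.commutator_mem_commutator ha hb)
    rw [← QuotientGroup.eq_one_iff] at h1
    change QuotientGroup.mk' B ⁅a, b⁆ = 1 at h1
    rw [map_commutatorElement, commutatorElement_eq_one_iff_mul_comm] at h1
    exact h1
  let φ : M →* G ⧸ B := MonoidHom.mk' (fun m => ((g * m * g⁻¹ * (m : G)⁻¹ : G) : G ⧸ B)) (by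
    intro a b
    have h1 : (g * ((a * b : M) : G) * g⁻¹ * ((a * b : M) : G)⁻¹ : G) =
        (g * a * g⁻¹) * ((g * b * g⁻¹ * (b : G)⁻¹) * (a : G)⁻¹) := by
      push_cast; group
    have h2 : ((g * b * g⁻¹ * (b : G)⁻¹ : G) : G ⧸ B) * (((a : G)⁻¹ : G) : G ⧸ B) =
        (((a : G)⁻¹ : G) : G ⧸ B) * ((g * b * g⁻¹ * (b : G)⁻¹ : G) : G ⧸ B) :=
      hcomm _ (M.mul_mem (hg b b.2) (M.inv_mem b.2)) _ (M.inv_mem a.2)
    have h3 : ((g * a * g⁻¹ * (a : G)⁻¹ : G) : G ⧸ B) =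
        ((g * a * g⁻¹ : G) : G ⧸ B) * (((a : G)⁻¹ : G) : G ⧸ B) := rfl
    have h4 : (((g * a * g⁻¹) * ((g * b * g⁻¹ * (b : G)⁻¹) * (a : G)⁻¹) : G) : G ⧸ B) =
        ((g * a * g⁻¹ : G) : G ⧸ B) * (((g * b * g⁻¹ * (b : G)⁻¹ : G) : G ⧸ B) *
          (((a : G)⁻¹ : G) : G ⧸ B)) := rfl
    rw [h1, h4, h2, h3]
    exact (mul_assoc _ _ _).symm)
  have hφ : ∀ m : M, φ m = ((g * m * g⁻¹ * (m : G)⁻¹ : G) : G ⧸ B) := fun _ => rfl
  have hker : φ.ker = B.subgroupOf M := by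
    ext m
    rw [MonoidHom.mem_ker, hφ, QuotientGroup.eq_one_iff, Subgroup.mem_subgroupOf]
    constructor
    · exact hfp m m.2
    · intro h
      exact B.mul_mem (hB.conj_mem _ h g) (B.inv_mem h)
  have hle : φ.range ≤ M.map (QuotientGroup.mk' B) := by
    rintro _ ⟨m, rfl⟩
    exact ⟨g * m * g⁻¹ * (m : G)⁻¹, M.mul_mem (hg m m.2) (M.inv_mem m.2), rfl⟩
  have hcard : Nat.card φ.range = Nat.card (M.map (QuotientGroup.mk' B)) := by
    rw [← Subgroup.index_ker, hker]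
    have : (QuotientGroup.mk' B).ker.relIndex M = Nat.card (M.map (QuotientGroup.mk' B)) := by
      rw [Subgroup.relIndex_ker]
    rw [QuotientGroup.ker_mk'] at this
    exact this
  have heq := Subgroup.eq_of_le_of_card_ge hle hcard.ge
  have hm' : (m : G ⧸ B) ∈ φ.range := by
    rw [heq]
    exact ⟨m, hm, rfl⟩
  obtain ⟨m', hm'⟩ := hm'
  rw [hφ, QuotientGroup.eq] at hm'
  exact ⟨m', m'.2, hm'⟩

end onto

section FR

variable {G : Type u} [Group G] [Finite G] {Z T : Subgroup G} {l : Z →* ℂˣ}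

/-- `l` is `T`-invariant, with nondegenerate commutator form on `T / Z`. -/
structure FR (Z T : Subgroup G) (l : Z →* ℂˣ) : Prop where
  le : Z ≤ T
  st : T ≤ stab (lf l : Z → ℂ)
  nd : ∀ x ∈ T, x ∉ Z → ∃ y ∈ T, ⁅y, x⁆ ∈ Z ∧ ev l ⁅y, x⁆ ≠ 1

theorem res_lin (hle : Z ≤ T) (hst : T ≤ stab (lf l : Z → ℂ)) {ξ : T → ℂ}
    (hξ : IsIrrCharacter T ξ) (ho : Over (Subgroup.inclusion hle) ξ (lf l)) (z : Z) :
    ξ (Subgroup.inclusion hle z) = ξ 1 * lf l z := by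
  obtain ⟨c, -, hc⟩ := res_of_inv hle (isIrr_lf l) hst hξ ho
  have h1 := hc 1
  rw [map_one, lf_apply, map_one, Units.val_one, mul_one] at h1
  rw [hc, h1]

/-- elements of `Z` act as scalars -/
theorem lin_mul (hle : Z ≤ T) (hst : T ≤ stab (lf l : Z → ℂ)) {ξ : T → ℂ}
    (hξ : IsIrrCharacter T ξ) (ho : Over (Subgroup.inclusion hle) ξ (lf l)) {z : G} (hz : z ∈ Z)
    (x : T) : ξ (⟨z, hle hz⟩ * x) = (ev l z : ℂ) * ξ x := by
  obtain ⟨c, hc⟩ := OddOrderCharacters.PF9.GaloisClifford.exists_scalar hξ (⟨z, hle hz⟩ : T) (by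
    intro t
    obtain ⟨hn, h1⟩ := mem_stab_ev.1 (hst t.2)
    have h2 : (t : G) * z * (t : G)⁻¹ ∈ Z := conj_mem_of_mem hn ⟨z, hz⟩
    have h3 : (t : G) * z * (t : G)⁻¹ * z⁻¹ ∈ Z := Z.mul_mem h2 (Z.inv_mem hz)
    have h4 := res_lin hle hst hξ ho ⟨_, h3⟩
    have h5 : lf l ⟨_, h3⟩ = 1 := by
      rw [← ev_coe, ev_mul l h2 (Z.inv_mem hz), h1 z hz, ev_inv l hz, mul_inv_cancel,
        Units.val_one]
    rw [h5, mul_one] at h4
    exact h4)
  rw [hc]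
  congr 1
  have h1 := hc 1
  rw [mul_one] at h1
  have h2 := res_lin hle hst hξ ho ⟨z, hz⟩
  have h3 : ξ 1 ≠ 0 := isIrr_apply_one_ne_zero hξ
  have h4 : ξ (Subgroup.inclusion hle ⟨z, hz⟩) = ξ (⟨z, hle hz⟩ : T) := rfl
  rw [h4, h1, mul_comm] at h2
  have h5 := mul_left_cancel₀ h3 h2
  rw [h5, ← ev_coe]

theorem FR.vanish (h : FR Z T l) {ξ : T → ℂ} (hξ : IsIrrCharacter T ξ)
    (ho : Over (Subgroup.inclusion h.le) ξ (lf l)) {x : T} (hx : (x : G) ∉ Z) : ξ x = 0 := by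
  obtain ⟨y, hy, hm, hne⟩ := h.nd x x.2 hx
  have h1 : ξ (⟨y, hy⟩ * x * ⟨y, hy⟩⁻¹) = ξ x := isIrr_isClassFunction hξ x ⟨y, hy⟩
  have e : (⟨y, hy⟩ : T) * x * (⟨y, hy⟩ : T)⁻¹ = ⟨⁅y, (x : G)⁆, h.le hm⟩ * x := by
    apply Subtype.ext
    change y * x * y⁻¹ = ⁅y, (x : G)⁆ * x
    rw [commutatorElement_def]; group
  rw [e, lin_mul h.le h.st hξ ho hm] at h1
  by_contra hne'
  apply hne
  have h2 : ((ev l ⁅y, (x : G)⁆ : ℂˣ) : ℂ) = 1 := by
    have h3 : ((ev l ⁅y, (x : G)⁆ : ℂˣ) : ℂ) * ξ x = 1 * ξ x := by rw [h1, one_mul]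
    exact mul_right_cancel₀ hne' h3
  exact Units.ext h2

theorem FR.deg (h : FR Z T l) {ξ : T → ℂ} (hξ : IsIrrCharacter T ξ)
    (ho : Over (Subgroup.inclusion h.le) ξ (lf l)) : (charDegree ξ) ^ 2 = Z.relIndex T := by
  classical
  letI := Fintype.ofFinite T
  have h1 := H597.Norm.sum_normSq_irr hξ
  have h2 : ∀ t : T, Complex.normSq (ξ t) = if (t : G) ∈ Z then ((charDegree ξ : ℝ)) ^ 2 else 0 := by
    intro t
    by_cases ht : (t : G) ∈ Z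
    · rw [if_pos ht]
      have h3 := res_lin h.le h.st hξ ho ⟨t, ht⟩
      have h4 : ξ (Subgroup.inclusion h.le ⟨t, ht⟩) = ξ t := rfl
      rw [h4] at h3
      rw [h3, map_mul, ← coe_charDegree hξ, Complex.normSq_natCast]
      have h5 : Complex.normSq (lf l ⟨(t : G), ht⟩) = 1 := by
        have h6 : (l ⟨(t : G), ht⟩) ^ Nat.card Z = 1 := by
          rw [← map_pow, pow_card_eq_one', map_one]
        have h7 : ((l ⟨(t : G), ht⟩ : ℂˣ) : ℂ) ^ Nat.card Z = 1 := by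
          rw [← Units.val_pow_eq_pow_val, h6, Units.val_one]
        have h8 := Complex.norm_eq_one_of_pow_eq_one h7 Nat.card_pos.ne'
        rw [lf_apply, Complex.normSq_eq_norm_sq, h8, one_pow]
      rw [h5, mul_one, pow_two]
    · rw [if_neg ht, h.vanish hξ ho ht, map_zero]
  rw [Finset.sum_congr rfl (fun t _ => h2 t), Finset.sum_ite, Finset.sum_const_zero, add_zero,
    Finset.sum_const, nsmul_eq_mul] at h1
  have h3 : (Finset.univ.filter fun t : T => (t : G) ∈ Z).card = Nat.card Z := by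
    rw [← Fintype.card_subtype, ← Nat.card_eq_fintype_card]
    exact Nat.card_congr
      { toFun := fun t => ⟨t.1.1, t.2⟩
        invFun := fun z => ⟨⟨z.1, h.le z.2⟩, z.2⟩
        left_inv := fun _ => rfl
        right_inv := fun _ => rfl }
  rw [h3] at h1
  have h4 : Nat.card Z * charDegree ξ ^ 2 = Nat.card T := by exact_mod_cast h1
  have h5 : Nat.card Z * Z.relIndex T = Nat.card T := by
    have := Subgroup.relIndex_mul_relIndex (⊥ : Subgroup G) Z T bot_le h.le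
    rwa [Subgroup.relIndex_bot_left, Subgroup.relIndex_bot_left] at this
  exact Nat.eq_of_mul_eq_mul_left (Nat.card_pos (α := Z)) (h4.trans h5.symm)

theorem FR.unique (h : FR Z T l) {ξ ξ' : T → ℂ} (hξ : IsIrrCharacter T ξ)
    (ho : Over (Subgroup.inclusion h.le) ξ (lf l)) (hξ' : IsIrrCharacter T ξ')
    (ho' : Over (Subgroup.inclusion h.le) ξ' (lf l)) : ξ = ξ' := by
  funext t
  by_cases ht : (t : G) ∈ Z
  · have h3 := res_lin h.le h.st hξ ho ⟨t, ht⟩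
    have h3' := res_lin h.le h.st hξ' ho' ⟨t, ht⟩
    have h4 : ξ (Subgroup.inclusion h.le ⟨t, ht⟩) = ξ t := rfl
    have h4' : ξ' (Subgroup.inclusion h.le ⟨t, ht⟩) = ξ' t := rfl
    rw [h4] at h3
    rw [h4'] at h3'
    have h5 : charDegree ξ = charDegree ξ' := by
      have h6 := h.deg hξ ho
      rw [← h.deg hξ' ho'] at h6
      exact Nat.pow_left_injective two_ne_zero h6
    rw [h3, h3', ← coe_charDegree hξ, ← coe_charDegree hξ', h5]
  · rw [h.vanish hξ ho ht, h.vanish hξ' ho' ht]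

theorem FR.stab (h : FR Z T l) {ξ : T → ℂ} (hξ : IsIrrCharacter T ξ)
    (ho : Over (Subgroup.inclusion h.le) ξ (lf l)) {g : G} (hg : g ∈ RM.stab (lf l : Z → ℂ))
    (hgT : g ∈ Subgroup.normalizer (T : Set G)) : g ∈ RM.stab ξ := by
  refine ⟨hgT, ?_⟩
  refine h.unique (isIrr_tw hgT hξ) ?_ hξ ho
  have h1 := (over_tw_tw h.le hg.1 hgT ξ (lf l)).2 ho
  rwa [hg.2] at h1

end FR

section cliff2

variable {G : Type u} [Group G] [Finite G] {K T U : Subgroup G} {θ : K → ℂ}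

theorem Inert.eq_of_over (h : Inert K T U θ) {ψ ψ' : U → ℂ} (hψ : IsIrrCharacter U ψ)
    (hψ' : IsIrrCharacter U ψ') {η : T → ℂ} (hη : IsIrrCharacter T η)
    (ho : Over (Subgroup.inclusion h.KT) η θ) (h1 : Over (Subgroup.inclusion h.TU) ψ η)
    (h2 : Over (Subgroup.inclusion h.TU) ψ' η) : ψ = ψ' := by
  classical
  letI := Fintype.ofFinite U
  letI := Fintype.ofFinite (T.subgroupOf U)
  have e1 := eq_indFun_of_over _ (h.irr_ind hη ho) hψ ((h.over_sub_iff ψ η).2 h1)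
  have e2 := eq_indFun_of_over _ (h.irr_ind hη ho) hψ' ((h.over_sub_iff ψ' η).2 h2)
  rw [e1, e2]

/-- Adjusting an element of `stab ψ` to an element of `stab μ`, `ψ` over `μ`. -/
theorem exists_mul_stab' (hKU : K ≤ U) (hU : U ≤ Subgroup.normalizer (K : Set G))
    (hθ : IsIrrCharacter K θ) {ψ : U → ℂ} (hψ : IsIrrCharacter U ψ)
    (ho : Over (Subgroup.inclusion hKU) ψ θ) {g : G} (hg : g ∈ stab ψ)
    (hgK : g ∈ Subgroup.normalizer (K : Set G)) : ∃ n ∈ U, g * n ∈ stab θ := by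
  have h1 : Over (Subgroup.inclusion hKU) ψ (tw K g θ) := by
    rw [← hg.2]
    exact (over_tw_tw hKU hgK hg.1 ψ θ).2 ho
  obtain ⟨n, hn, h2⟩ := exists_tw_of_over hKU hU hψ hθ (isIrr_tw hgK hθ) ho h1
  refine ⟨n⁻¹, U.inv_mem hn, Subgroup.mul_mem _ hgK (Subgroup.inv_mem _ (hU hn)), ?_⟩
  rw [tw_mul hgK (Subgroup.inv_mem _ (hU hn)), h2, ← tw_mul (hU hn)
    (Subgroup.inv_mem _ (hU hn)), mul_inv_cancel, tw_one]

theorem stab_of_inv (hKU : K ≤ U) (hU : U ≤ stab θ)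
    (hθ : IsIrrCharacter K θ) {ψ : U → ℂ} (hψ : IsIrrCharacter U ψ)
    (ho : Over (Subgroup.inclusion hKU) ψ θ) {g : G} (hg : g ∈ stab ψ)
    (hgK : g ∈ Subgroup.normalizer (K : Set G)) : g ∈ stab θ := by
  obtain ⟨n, hn, h⟩ := exists_mul_stab' hKU (hU.trans (stab_le θ)) hθ hψ ho hg hgK
  have := (stab θ).mul_mem h ((stab θ).inv_mem (hU hn))
  rwa [mul_inv_cancel_right] at this

end cliff2

section omega

variable {G : Type u} [Group G] [Finite G] {P : Subgroup G} [hP : P.Normal]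

/-- Degrees over a character of `P`, `G / P` cyclic. -/
theorem GTc (ha : Anti G) (hc : IsCyclic (G ⧸ P)) {ω : P → ℂ} (hω : IsIrrCharacter P ω)
    (h1 : (stab ω).index * charDegree ω ≠ 1) :
    (∃ ψ : G → ℂ, IsIrrCharacter G ψ ∧ Over P.subtype ψ ω ∧
      charDegree ψ = (stab ω).index * charDegree ω) ∧
    (∀ ψ : G → ℂ, IsIrrCharacter G ψ → Over P.subtype ψ ω →
      charDegree ψ = (stab ω).index * charDegree ω) := by
  obtain ⟨χ, hχ, hext⟩ := ext_cyc (N := P) (M := P) (T := stab ω)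
    (le_stab' hω) hc (fun t _ => Iff.rfl) hω le_rfl
  obtain ⟨h2, h3, -⟩ := GT ha hω hχ hext h1
  exact ⟨h2, h3⟩

theorem mul_ne_one {ω : P → ℂ} (h : charDegree ω ≠ 1) : (stab ω).index * charDegree ω ≠ 1 :=
  fun e => h (Nat.eq_one_of_mul_eq_one_left e)

/-- The antichain condition for characters of `P`. -/
theorem anti_omega (ha : Anti G) (hc : IsCyclic (G ⧸ P)) {ω ω' : P → ℂ} (hω : IsIrrCharacter P ω)
    (hω' : IsIrrCharacter P ω') (h1 : charDegree ω ≠ 1) (h2 : charDegree ω ∣ charDegree ω')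
    (h3 : stab ω' ≤ stab ω) : stab ω' = stab ω ∧ charDegree ω = charDegree ω' := by
  have hne : charDegree ω' ≠ 1 := fun e => h1 (Nat.dvd_one.1 (e ▸ h2))
  obtain ⟨⟨ψ, hψ, -, hd⟩, -⟩ := GTc ha hc hω (mul_ne_one h1)
  obtain ⟨⟨ψ', hψ', -, hd'⟩, -⟩ := GTc ha hc hω' (mul_ne_one hne)
  have h4 := Subgroup.index_dvd_of_le h3
  have h5 := ha ψ ψ' hψ hψ' (by rw [hd]; exact mul_ne_one h1)
    (by rw [hd, hd']; exact Nat.mul_dvd_mul h4 h2)
  rw [hd, hd'] at h5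
  obtain ⟨c, hc1⟩ := h4
  obtain ⟨d, hd1⟩ := h2
  have hp1 := index_pos (stab ω)
  have hp2 := charDegree_pos hω
  have h6 : (stab ω).index * charDegree ω * (c * d) = (stab ω).index * charDegree ω * 1 := by
    rw [mul_one]
    conv_rhs => rw [h5, hc1, hd1]
    ring
  have h7 := Nat.eq_of_mul_eq_mul_left (Nat.mul_pos hp1 hp2) h6
  have h8 := Nat.eq_one_of_mul_eq_one_right h7
  have h9 := Nat.eq_one_of_mul_eq_one_left h7
  rw [h8, mul_one] at hc1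
  rw [h9, mul_one] at hd1
  exact ⟨eq_of_le_of_index_eq h3 hc1, hd1.symm⟩

/-- The stabilizer of a nonlinear character of `P` is not contained in `P`. -/
theorem out_omega (ha : Anti G) (hc : IsCyclic (G ⧸ P))
    (hf : ∃ χ : G → ℂ, IsIrrCharacter G χ ∧ charDegree χ = P.index) (hPt : P ≠ ⊤) {ω : P → ℂ}
    (hω : IsIrrCharacter P ω) (h1 : charDegree ω ≠ 1) : ∃ g ∈ stab ω, g ∉ P := by
  by_contra hcon
  push Not at hcon
  have hle : stab ω ≤ P := hcon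
  have he : stab ω = P := le_antisymm hle (le_stab' hω)
  obtain ⟨χ, hχ, hd⟩ := hf
  obtain ⟨⟨ψ, hψ, -, hd'⟩, -⟩ := GTc ha hc hω (mul_ne_one h1)
  rw [he] at hd'
  have h2 := ha χ ψ hχ hψ (by rw [hd]; exact ne_top_index hPt)
    (by rw [hd, hd']; exact dvd_mul_right _ _)
  rw [hd, hd'] at h2
  apply h1
  exact Nat.eq_of_mul_eq_mul_left (index_pos P) (by rw [← h2, mul_one])

end omega

end Cfsg.Agent.H675.Nd
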