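import Mathlib
import Cfsg.Agent.H675.Nd.PG6

/-!
# The Sylow subgroup: Case II, levels one and two
-/

set_option autoImplicit false
set_option linter.style.haveILetI false
set_option linter.unusedSectionVars false
open Cfsg

namespace Cfsg.Agent.H675.Nd

open Cfsg.Agent.Characters.Core Cfsg.Agent.Characters.Clifford Cfsg.Agent.H672 Cfsg.Agent.H672.RM
open Cfsg.Agent.H597.FrobA
open scoped commutatorElement

universe u v w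

section gen

variable {G : Type u} [Group G] [Finite G] {P K : Subgroup G} [hP : P.Normal] [hK : K.Normal]
  {p : ℕ}

/-- A character of level `n + 1` fixed by `g ∉ P` acting trivially on level `n` is trivial. -/
theorem PS.mu_one (h : PS P K p) {n : ℕ} {μ : L P (n + 1) →* ℂˣ}
    (hμ : ∀ k ∈ L P (n + 1 + 1), ev μ k = 1) {g : G} (hgP : g ∉ P) (hg : cl g μ = μ)
    (hI : ∀ ν : L P n →* ℂˣ, (∀ k ∈ L P (n + 1), ev ν k = 1) → cl g ν = ν)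
    (hC : ∀ z ∈ L P n, ∀ c ∈ CC P, ⁅z, c⁆ ∈ L P (n + 1 + 1)) : μ = 1 := by
  have h0 : ∀ z ∈ L P n, z⁻¹ * (g * z * g⁻¹) ∈ L P (n + 1) := fun z hz => triv_L hI hz
  have h1 : ∀ e ∈ EE P, ∀ z ∈ L P n, ev μ ⁅e, z⁆ = 1 := by
    intro e he z hz
    refine pair_fix (A := EE P) (B0 := L P 1) hg (fun a ha => P_fix hμ (EE_le ha))
      (fun a ha => mem_L_succ' P (EE_le ha) hz) (fun a ha => (EE_normal).conj_mem a ha g) ?_
      L1_le_EE (fun b hb => hμ _ (L_anti P (by omega)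
        (comm_L P 1 n (Subgroup.commutator_mem_commutator hb hz))))
      (fun a ha => h.ontoE le_rfl hgP (fun m hm => (EE_normal).conj_mem m hm g) ha) e he
    intro a ha
    have h2 := h0 z hz
    have h3 := mem_L_succ' P (EE_le ha) h2
    have e : g * z * g⁻¹ = z * (z⁻¹ * (g * z * g⁻¹)) := by group
    rw [e, ev_comm_mul_right (P_fix hμ (L_le P n hz)) (mem_L_succ' P (EE_le ha) hz)
      (L_anti P (Nat.le_succ _) h3), hμ _ h3, mul_one]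
  apply ev_ext
  intro d hd
  rw [ev_hone]
  have hle : ⁅L P n, P⁆ ≤ L P (n + 1) := le_rfl
  refine ev_comm_sub (S := L P n) (T := P) (D := L P (n + 1)) (δ := μ) hle ?_ d hd
  intro z hz x hx
  obtain ⟨e, he, c, hc, rfl⟩ := h.exists_EC hx
  rw [ev_comm_mul_right (P_fix hμ (EE_le he)) (mem_L_succ P hz (EE_le he))
    (mem_L_succ P hz (CC_le hc)), hμ _ (hC z hz c hc), mul_one,
    ev_comm_swap μ (mem_L_succ' P (EE_le he) hz), h1 e he z hz, inv_one]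

theorem PS.hS_of (h : PS P K p) {n : ℕ}
    (hconst : ∀ ν ν' : L P n →* ℂˣ, (∀ k ∈ L P (n + 1), ev ν k = 1) →
      (∀ k ∈ L P (n + 1), ev ν' k = 1) → ν ≠ 1 → ν' ≠ 1 →
      stab (lf ν : L P n → ℂ) = stab (lf ν' : L P n → ℂ))
    (hC : ∀ z ∈ L P n, ∀ c ∈ CC P, ⁅z, c⁆ ∈ L P (n + 1 + 1)) {μ : L P (n + 1) →* ℂˣ}
    (hμ : ∀ k ∈ L P (n + 1 + 1), ev μ k = 1) (hμ1 : μ ≠ 1) :
    ∀ g, g ∉ P → cl g μ = μ → ∀ ν : L P n →* ℂˣ, (∀ k ∈ L P (n + 1), ev ν k = 1) →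
      cl g ν = ν → ν = 1 := by
  intro g hgP hg ν hν hgν
  by_contra hν1
  apply hμ1
  refine h.mu_one hμ hgP hg ?_ hC
  intro ν' hν'
  by_cases h1 : ν' = 1
  · rw [h1, cl_hone]
  · rw [← mem_stab_iff, hconst ν' ν hν' hν h1 hν1]
    exact mem_stab_iff.2 hgν

/-- `T_μ = {x ∈ P : μ([x, γ_n]) = 1}` -/
def TT {n : ℕ} (μ : L P (n + 1) →* ℂˣ) (hμ : ∀ k ∈ L P (n + 1 + 1), ev μ k = 1) : Subgroup G :=
  rd P (L P n) μ (fun _ ha => P_fix hμ ha) (fun _ ha _ hb => mem_L_succ' P ha hb)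

variable {n : ℕ} {μ : L P (n + 1) →* ℂˣ} {hμ : ∀ k ∈ L P (n + 1 + 1), ev μ k = 1}

theorem mem_TT {x : G} : x ∈ TT μ hμ ↔ x ∈ P ∧ ∀ z ∈ L P n, ev μ ⁅x, z⁆ = 1 := Iff.rfl

theorem TT_le : TT μ hμ ≤ P := fun _ h => h.1

theorem TT_nrm : stab (lf μ : L P (n + 1) → ℂ) ≤ Subgroup.normalizer (TT μ hμ : Set G) :=
  fun g hg => rd_nrm (mem_nrm P g) (mem_nrm _ g) (mem_stab_iff.1 hg)

theorem CC_le_TT (hC : ∀ z ∈ L P n, ∀ c ∈ CC P, ⁅z, c⁆ ∈ L P (n + 1 + 1)) : CC P ≤ TT μ hμ :=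
  fun c hc => ⟨CC_le hc, fun z hz => hμ _ (comm_swap_mem (hC z hz c hc))⟩

theorem ev_conj_ext {δ : L P n →* ℂˣ} (hδ : ∀ b ∈ L P (n + 1), ev δ b = ev μ b) {x z : G}
    (hx : x ∈ P) (hz : z ∈ L P n) : ev (cl x δ) z = ev μ ⁅x, z⁆ * ev δ z := by
  have e : x * z * x⁻¹ = ⁅x, z⁆ * z := by rw [commutatorElement_def]; group
  have hm : ⁅x, z⁆ ∈ L P (n + 1) := mem_L_succ' P hx hz
  rw [ev_cl x δ hz, e, ev_mul δ (L_anti P (Nat.le_succ n) hm) hz, hδ _ hm]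

/-- `T_μ` is the inertia group in `P` of an extension of `μ`. -/
theorem TT_iff {δ : L P n →* ℂˣ} (hδ : ∀ b ∈ L P (n + 1), ev δ b = ev μ b) {x : G}
    (hx : x ∈ P) : cl x δ = δ ↔ x ∈ TT μ hμ := by
  rw [mem_TT]
  constructor
  · intro h
    refine ⟨hx, fun z hz => ?_⟩
    have h1 := ev_conj_ext hδ hx hz
    rw [h] at h1
    exact (mul_eq_right.1 h1.symm)
  · rintro ⟨-, h⟩
    apply ev_ext
    intro z hz
    rw [ev_conj_ext hδ hx hz, h z hz, one_mul]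

theorem stab_ext_le {δ : L P n →* ℂˣ} (hδ : ∀ b ∈ L P (n + 1), ev δ b = ev μ b) :
    stab (lf δ : L P n → ℂ) ≤ stab (lf μ : L P (n + 1) → ℂ) := by
  intro g hg
  rw [mem_stab_iff] at hg ⊢
  apply ev_ext
  intro d hd
  have hd' := (inferInstance : (L P (n + 1)).Normal).conj_mem d hd g
  rw [ev_cl g μ hd, ← hδ _ hd', ← hδ _ hd]
  exact ev_conj hg (L_anti P (Nat.le_succ n) hd)

/-- Extension of `μ` to `γ_n`. -/
theorem exists_ext_L (hn : 1 ≤ n) (hμ : ∀ k ∈ L P (n + 1 + 1), ev μ k = 1) :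
    ∃ δ : L P n →* ℂˣ, ∀ b ∈ L P (n + 1), ev δ b = ev μ b := by
  have hle : L P (n + 1) ≤ L P n := L_anti P (Nat.le_succ n)
  have hcc : ⁅L P n, L P n⁆ ≤ L P (n + 1 + 1) := (comm_L P n n).trans (L_anti P (by omega))
  obtain ⟨l, hl⟩ := exists_lin_ext hle μ (hcc.trans (L_anti P (Nat.le_succ _))) (by
    intro z hz
    exact (ev_of_mem μ _).symm.trans (hμ z (hcc hz)))
  refine ⟨l, fun b hb => ?_⟩
  rw [ev_of_mem l (hle hb), ev_of_mem μ hb]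
  exact hl ⟨b, hb⟩

/-- Adjusting an element fixing `μ` by an element of `P` so that it fixes an extension. -/
theorem PS.exists_adj (h : PS P K p) (hn : 1 ≤ n) (hμ : ∀ k ∈ L P (n + 1 + 1), ev μ k = 1)
    (hμ1 : μ ≠ 1)
    (hS : ∀ g, g ∉ P → cl g μ = μ → ∀ ν : L P n →* ℂˣ, (∀ k ∈ L P (n + 1), ev ν k = 1) →
      cl g ν = ν → ν = 1) {δ : L P n →* ℂˣ} (hδ : ∀ b ∈ L P (n + 1), ev δ b = ev μ b) {g : G}
    (hg : cl g μ = μ) : ∃ x ∈ P, cl (g * x⁻¹) δ = δ := by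
  have hν : ∀ k ∈ L P (n + 1), ev (cl g δ * δ⁻¹) k = 1 := by
    intro k hk
    have hk' := (inferInstance : (L P (n + 1)).Normal).conj_mem k hk g
    rw [ev_hmul, ev_hinv, ev_cl g δ (L_anti P (Nat.le_succ n) hk), hδ _ hk', hδ _ hk,
      ev_conj hg hk, mul_inv_cancel]
  obtain ⟨x, hx, hx'⟩ := h.exists_x hn hμ hμ1 hS hν
  refine ⟨x, hx, ?_⟩
  have h1 : cl g δ = cl x δ := by
    apply ev_ext
    intro z hz
    rw [ev_conj_ext hδ hx hz, ← hx' z hz, ev_hmul, ev_hinv, inv_mul_cancel_right]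
  rw [cl_mul, h1, ← cl_mul, mul_inv_cancel, cl_one]

end gen

/-- The hypothesis in Case II. -/
structure PC {G : Type u} [Group G] [Finite G] (P K : Subgroup G) [P.Normal] [K.Normal] (p : ℕ) :
    Prop extends PS P K p where
  no : ∀ ν : L P 1 →* ℂˣ, (∀ k ∈ L P 2, ev ν k = 1) → (∀ g, cl g ν = ν) → ν = 1

section lev1

variable {G : Type u} [Group G] [Finite G] {P K : Subgroup G} [hP : P.Normal] [hK : K.Normal]
  {p : ℕ}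

theorem PC.ev_CC (h : PC P K p) {ν : L P 1 →* ℂˣ} (hν : ∀ k ∈ L P 2, ev ν k = 1) {c c' : G}
    (hc : c ∈ CC P) (hc' : c' ∈ CC P) : ev ν ⁅c, c'⁆ = 1 := by
  obtain ⟨y, ν', hν', rfl⟩ := h.surj h.no hν
  rw [ev_hmul, ev_hinv, CC_conj_comm hc hc' y hν', mul_inv_cancel]

theorem PC.CC_CC (h : PC P K p) {c c' : G} (hc : c ∈ CC P) (hc' : c' ∈ CC P) :
    ⁅c, c'⁆ ∈ L P 2 :=
  sep_L (CC_comm hc c') fun _ hν => h.ev_CC hν hc hc'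

theorem PC.P_CC (h : PC P K p) {x c : G} (hx : x ∈ P) (hc : c ∈ CC P) : ⁅x, c⁆ ∈ L P 2 := by
  obtain ⟨e, he, c', hc', rfl⟩ := h.exists_EC hx
  have h1 : ⁅e * c', c⁆ = (e * ⁅c', c⁆ * e⁻¹) * ⁅e, c⁆ := by
    simp only [commutatorElement_def]; group
  rw [h1]
  exact (L P 2).mul_mem ((inferInstance : (L P 2).Normal).conj_mem _ (h.CC_CC hc' hc) e)
    (h.EC_comm he hc)

theorem PC.Zn_eq (h : PC P K p) {ν : L P 1 →* ℂˣ} {hν : ∀ k ∈ L P 2, ev ν k = 1} (hν1 : ν ≠ 1) :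
    Zn ν hν = CC P :=
  le_antisymm (h.Zn_le_CC hν1) fun _ hc => (h.mem_Zn_CC hc).2 fun _ hc' => h.ev_CC hν hc hc'

theorem PC.deg1 (h : PC P K p) {ν : L P 1 →* ℂˣ} (hν : ∀ k ∈ L P 2, ev ν k = 1) (hν1 : ν ≠ 1)
    {ω : P → ℂ} (hω : IsIrrCharacter P ω)
    (ho : Over (Subgroup.inclusion (L_le P 1)) ω (lf ν)) :
    (charDegree ω) ^ 2 = (CC P).relIndex P := by
  rw [deg_nu (hν := hν) hω ho, h.Zn_eq hν1]

theorem PC.const1 (h : PC P K p) (ν ν' : L P 1 →* ℂˣ) (hν : ∀ k ∈ L P 2, ev ν k = 1)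
    (hν' : ∀ k ∈ L P 2, ev ν' k = 1) (h1 : ν ≠ 1) (h1' : ν' ≠ 1) :
    stab (lf ν : L P 1 → ℂ) = stab (lf ν' : L P 1 → ℂ) := by
  refine h.stab_const le_rfl ?_ ?_ hν hν' h1 h1'
  · intro ν ν' hν hν' h1 h1' ω ω' hω hω' ho ho'
    have e := h.deg1 hν h1 hω ho
    rw [← h.deg1 hν' h1' hω' ho'] at e
    exact Nat.pow_left_injective two_ne_zero e
  · intro ν hν h1 ω hω ho
    exact h.stab_nu (hν := hν) h1 hω ho

theorem PC.hS2 (h : PC P K p) {μ : L P 2 →* ℂˣ} (hμ : ∀ k ∈ L P 3, ev μ k = 1) (hμ1 : μ ≠ 1) :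
    ∀ g, g ∉ P → cl g μ = μ → ∀ ν : L P 1 →* ℂˣ, (∀ k ∈ L P 2, ev ν k = 1) →
      cl g ν = ν → ν = 1 :=
  h.hS_of h.const1 (fun _ hz _ hc => h.L1_CC hz hc) hμ hμ1

end lev1

section lev2

variable {G : Type u} [Group G] [Finite G] {P K : Subgroup G} [hP : P.Normal] [hK : K.Normal]
  {p : ℕ} {μ : L P 2 →* ℂˣ} {hμ : ∀ k ∈ L P 3, ev μ k = 1}

theorem PC.C_le_T (h : PC P K p) : CC P ≤ TT (n := 1) μ hμ :=
  CC_le_TT fun _ hz _ hc => h.L1_CC hz hc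

theorem PC.T_comm (h : PC P K p) (hμ1 : μ ≠ 1) {x y : G} (hx : x ∈ TT (n := 1) μ hμ)
    (hy : y ∈ TT (n := 1) μ hμ) : ⁅x, y⁆ ∈ L P 2 := by
  refine h.rad_L le_rfl hμ hμ1 (h.hS2 hμ hμ1) (mem_L_one P hx.1 hy.1) ?_
  intro v hv
  have h1 := jac (P := P) (a := 0) (b := 0) (c := 0) (n := 2) (by omega) hx.1 hy.1 hv hμ
  rw [hy.2 _ (mem_L_one P hv hx.1), hx.2 _ (mem_L_one P hy.1 hv), mul_one, mul_one] at h1
  rw [ev_comm_swap μ (mem_L_succ' P hv (mem_L_one P hx.1 hy.1)), h1, inv_one]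

/-- The radical of the form on `T_μ`. -/
def ZT (h : PC P K p) (μ : L P 2 →* ℂˣ) (hμ : ∀ k ∈ L P 3, ev μ k = 1) (hμ1 : μ ≠ 1) :
    Subgroup G :=
  rd (TT (n := 1) μ hμ) (TT (n := 1) μ hμ) μ (fun _ ha => P_fix hμ ha.1)
    (fun _ ha _ hb => h.T_comm hμ1 ha hb)

theorem mem_ZT {h : PC P K p} {hμ1 : μ ≠ 1} {x : G} : x ∈ ZT h μ hμ hμ1 ↔
    x ∈ TT (n := 1) μ hμ ∧ ∀ y ∈ TT (n := 1) μ hμ, ev μ ⁅x, y⁆ = 1 := Iff.rfl

theorem PC.L1_le_T (h : PC P K p) : L P 1 ≤ TT (n := 1) μ hμ := L1_le_CC.trans h.C_le_T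

theorem PC.L1_le_ZT (h : PC P K p) {hμ1 : μ ≠ 1} : L P 1 ≤ ZT h μ hμ hμ1 := by
  intro z hz
  refine ⟨h.L1_le_T hz, fun y hy => ?_⟩
  rw [ev_comm_swap μ (mem_L_succ' P hy.1 hz), hy.2 z hz, inv_one]

theorem PC.ZT_nrm (h : PC P K p) {hμ1 : μ ≠ 1} :
    stab (lf μ : L P 2 → ℂ) ≤ Subgroup.normalizer (ZT h μ hμ hμ1 : Set G) := fun _ hg =>
  rd_nrm (TT_nrm hg) (TT_nrm hg) (mem_stab_iff.1 hg)

theorem PC.ZT_inf (h : PC P K p) {hμ1 : μ ≠ 1} : ZT h μ hμ hμ1 ⊓ EE P ≤ L P 1 := by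
  have h12 : L P 2 ≤ L P 1 := L_anti P (by omega)
  obtain ⟨δ, hδ⟩ := exists_ext_L (n := 1) le_rfl hμ
  have hZT : ZT h μ hμ hμ1 ≤ TT (n := 1) μ hμ := fun _ hx => hx.1
  have hZP : ZT h μ hμ hμ1 ⊓ EE P ≤ P := inf_le_left.trans (hZT.trans TT_le)
  have hBZ : L P 1 ≤ ZT h μ hμ hμ1 ⊓ EE P := le_inf h.L1_le_ZT L1_le_EE
  have hDμ : stab (lf δ : L P 1 → ℂ) ≤ stab (lf μ : L P 2 → ℂ) := stab_ext_le (n := 1) hδ
  have hnrm : stab (lf μ : L P 2 → ℂ) ≤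
      Subgroup.normalizer ((ZT h μ hμ hμ1 ⊓ EE P : Subgroup G) : Set G) := fun g hg =>
    mem_nrm_inf (h.ZT_nrm hg) (mem_nrm _ g)
  have hcc : ∀ a ∈ ZT h μ hμ hμ1 ⊓ EE P, ∀ b ∈ ZT h μ hμ hμ1 ⊓ EE P, ⁅a, b⁆ ∈ L P 2 :=
    fun a ha b hb => h.T_comm hμ1 (hZT ha.1) (hZT hb.1)
  have hZZ : ⁅ZT h μ hμ hμ1 ⊓ EE P, ZT h μ hμ hμ1 ⊓ EE P⁆ ≤ L P 2 :=
    Subgroup.commutator_le.2 hcc
  refine rad_le (Q := TT (n := 1) μ hμ) (D := stab (lf δ : L P 1 → ℂ)) hBZ δ le_rfl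
    (hDμ.trans hnrm) ?_ (hZZ.trans h12) ?_ ?_ ?_ ?_
  · intro a ha b hb
    rw [← TT_iff (n := 1) hδ (cyc_comm h.cyc a b), ← mem_stab_iff]
    exact (stab (lf δ : L P 1 → ℂ)).mul_mem (Subgroup.mul_mem _ (Subgroup.mul_mem _ ha hb)
      (Subgroup.inv_mem _ ha)) (Subgroup.inv_mem _ hb)
  · intro z hz
    refine (ev_of_mem δ _).symm.trans ?_
    rw [hδ z (hZZ hz)]
    exact ev_comm_sub hZZ (fun a ha b hb => ha.1.2 b (hZT hb.1)) z hz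
  · intro l hl g hg
    rw [mem_stab_ev]
    refine ⟨hnrm (P_le_stab hμ hg.1), fun d hd => ?_⟩
    have e : g * d * g⁻¹ = ⁅g, d⁆ * d := by rw [commutatorElement_def]; group
    have hm : ⁅g, d⁆ ∈ L P 2 := h.T_comm hμ1 hg (hZT hd.1)
    have hm1 : ⁅g, d⁆ ∈ L P 1 := h12 hm
    have h1 : ev l ⁅g, d⁆ = ev δ ⁅g, d⁆ := by
      rw [ev_of_mem l (hBZ hm1), ev_of_mem δ hm1]
      exact hl ⟨_, hm1⟩
    rw [e, ev_mul l (hBZ hm1) hd, h1, hδ _ hm, ev_comm_swap μ (comm_swap_mem hm),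
      hd.1.2 g hg, inv_one, one_mul]
  · intro l hl
    obtain ⟨ω, hω, ho⟩ := exists_over_incl hZP (isIrr_lf l)
    have hB2 : L P 2 ≤ ZT h μ hμ hμ1 ⊓ EE P := h12.trans hBZ
    have ho' : Over (Subgroup.inclusion (L_le P 2)) ω (lf μ) :=
      over_trans hB2 hZP hω (isIrr_lf l) (isIrr_lf μ) ho (over_of_ext hB2 (isIrr_lf μ)
        fun k => congrArg Units.val (by
          have h1 := hl (Subgroup.inclusion h12 k)
          have h2 := hδ k k.2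
          rw [ev_of_mem δ (h12 k.2), ev_of_mem μ k.2] at h2
          exact h1.trans h2))
    obtain ⟨g, hg, hgP⟩ := h.out (by omega) hμ1 hω ho'
    have hgμ := stab_le_nu hμ hω ho' hg
    obtain ⟨x, hx, hgx⟩ := exists_mul_stab' hZP ((P_le_stab hμ).trans hnrm) (isIrr_lf l) hω ho hg
      (hnrm hgμ)
    have hgxP : g * x ∉ P := fun h1 => hgP (by
      have := P.mul_mem h1 (P.inv_mem hx)
      rwa [mul_inv_cancel_right] at this)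
    refine ⟨g * x, ?_, fun h1 => hgxP h1.1, hgx⟩
    rw [mem_stab_iff]
    apply ev_ext
    intro d hd
    have h2 := (mem_stab_ev.1 hgx).2 d (hBZ hd)
    have hd' := (inferInstance : (L P 1).Normal).conj_mem d hd (g * x)
    rw [ev_cl _ δ hd]
    have h3 : ∀ b ∈ L P 1, ev l b = ev δ b := by
      intro b hb
      rw [ev_of_mem l (hBZ hb), ev_of_mem δ hb]
      exact hl ⟨b, hb⟩
    rw [← h3 _ hd', ← h3 _ hd]
    exact h2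
  · intro g hg hgT z hz hc
    have hgP : g ∉ P := fun hgP => hgT ((TT_iff (n := 1) hδ hgP).1 (mem_stab_iff.1 hg))
    exact h.fpE hz.2 hgP (by rw [commutatorElement_def]; exact hc)

theorem PC.ZT_le (h : PC P K p) {hμ1 : μ ≠ 1} : ZT h μ hμ hμ1 ≤ CC P := by
  obtain ⟨g, hgP, hg⟩ := h.exists_fix (by omega) hμ1 hμ
  intro z hz
  have h1 : g * z⁻¹ * g⁻¹ ∈ ZT h μ hμ hμ1 :=
    conj_mem_of_mem (h.ZT_nrm (mem_stab_iff.2 hg)) ⟨z⁻¹, Subgroup.inv_mem _ hz⟩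
  have h2 : ⁅z, g⁆ ∈ ZT h μ hμ hμ1 := by
    have e : ⁅z, g⁆ = z * (g * z⁻¹ * g⁻¹) := by rw [commutatorElement_def]; group
    rw [e]
    exact Subgroup.mul_mem _ hz h1
  exact mem_CC.2 ⟨hz.1.1, h.zl le_rfl (L_le P 1) hz.1.1 hgP (h.ZT_inf ⟨h2, mem_EE hz.1.1⟩)⟩

/-- No invariant characters at level two. -/
theorem PC.no2 (h : PC P K p) (hμ : ∀ k ∈ L P 3, ev μ k = 1) (hinv : ∀ g, cl g μ = μ) :
    μ = 1 := by
  by_contra hμ1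
  by_cases h1 : ∀ ν : L P 1 →* ℂˣ, (∀ k ∈ L P 2, ev ν k = 1) → ν = 1
  · apply hμ1
    have := h.L_bot h1
    apply ev_ext
    intro d hd
    have hd1 : d ∈ L P 1 := L_anti P (by omega : 1 ≤ 2) hd
    rw [this, Subgroup.mem_bot] at hd1
    rw [hd1, ev_one, ev_one]
  · push Not at h1
    obtain ⟨ν, hν, hν1⟩ := h1
    obtain ⟨g, hgP, hg⟩ := h.exists_fix le_rfl hν1 hν
    exact hν1 (h.hS2 hμ hμ1 g hgP (hinv g) ν hν hg)

theorem PC.conj_comm2 (h : PC P K p) {c c' : G} (hc : c ∈ CC P) (hc' : c' ∈ CC P) (g : G)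
    (hμ : ∀ k ∈ L P 3, ev μ k = 1) : ev (cl g μ) ⁅c, c'⁆ = ev μ ⁅c, c'⁆ := by
  have hm : ⁅c, c'⁆ ∈ L P 2 := h.CC_CC hc hc'
  rw [ev_cl g μ hm]
  have e : g * ⁅c, c'⁆ * g⁻¹ = ⁅g * c * g⁻¹, g * c' * g⁻¹⁆ := by
    simp only [commutatorElement_def]; group
  obtain ⟨d, hd, hd'⟩ := CC_conj hc g
  obtain ⟨b, hb, hb'⟩ := CC_conj hc' g
  have h1 : ⁅c, b⁆ ∈ L P 3 := comm_swap_mem (h.L1_CC hb hc)
  have h2 : ⁅d, c' * b⁆ ∈ L P 3 := h.L1_CC hd ((CC P).mul_mem hc' (L1_le_CC hb))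
  have h12 : L P 3 ≤ L P 2 := L_anti P (by omega)
  have h3 : ⁅c, c' * b⁆ ∈ L P 2 := h.CC_CC hc ((CC P).mul_mem hc' (L1_le_CC hb))
  rw [e, hd', hb', ev_comm_mul_left (P_fix hμ (CC_le hc)) h3 (h12 h2), hμ _ h2, mul_one,
    ev_comm_mul_right (P_fix hμ (CC_le hc')) hm (h12 h1), hμ _ h1, mul_one]

theorem PC.ev_CC2 (h : PC P K p) (hμ : ∀ k ∈ L P 3, ev μ k = 1) {c c' : G}
    (hc : c ∈ CC P) (hc' : c' ∈ CC P) : ev μ ⁅c, c'⁆ = 1 := by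
  obtain ⟨y, μ', hμ', rfl⟩ := h.surj (n := 2) (fun μ hμ hinv => h.no2 hμ hinv) hμ
  rw [ev_hmul, ev_hinv, h.conj_comm2 hc hc' y hμ', mul_inv_cancel]

theorem PC.C_le_ZT (h : PC P K p) {hμ1 : μ ≠ 1} : CC P ≤ ZT h μ hμ hμ1 := by
  obtain ⟨g, hgP, hg⟩ := h.exists_fix (by omega) hμ1 hμ
  have key : ∀ c ∈ CC P, ∀ e ∈ TT (n := 1) μ hμ ⊓ EE P, ev μ ⁅e, c⁆ = 1 := by
    intro c hc e he
    obtain ⟨d, hd, hgc⟩ := CC_conj hc g
    have hgA : ∀ a ∈ TT (n := 1) μ hμ ⊓ EE P, g * a * g⁻¹ ∈ TT (n := 1) μ hμ ⊓ EE P :=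
      fun a ha => ⟨conj_mem_of_mem (TT_nrm (mem_stab_iff.2 hg)) ⟨a, ha.1⟩,
        (EE_normal).conj_mem a ha.2 g⟩
    refine pair_fix (A := TT (n := 1) μ hμ ⊓ EE P) (B0 := L P 1) hg (fun a ha => P_fix hμ ha.1.1)
      (fun a ha => h.T_comm hμ1 ha.1 (h.C_le_T hc)) hgA ?_ (le_inf h.L1_le_T L1_le_EE)
      (fun b hb => hμ _ (h.L1_CC hb hc)) (fun a ha => h.ontoE inf_le_right hgP hgA ha) e he
    intro a ha
    rw [hgc, ev_comm_mul_right (P_fix hμ (CC_le hc)) (h.T_comm hμ1 ha.1 (h.C_le_T hc))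
      (mem_L_succ' P ha.1.1 hd), ha.1.2 d hd, mul_one]
  intro c hc
  refine ⟨h.C_le_T hc, fun y hy => ?_⟩
  obtain ⟨e, he, c', hc', rfl⟩ := h.exists_EC hy.1
  have heT : e ∈ TT (n := 1) μ hμ := by
    have := Subgroup.mul_mem _ hy (Subgroup.inv_mem _ (h.C_le_T (hμ := hμ) hc'))
    rwa [mul_inv_cancel_right] at this
  rw [ev_comm_mul_right (P_fix hμ (EE_le he)) (h.T_comm hμ1 (h.C_le_T hc) heT)
    (h.CC_CC hc hc'), h.ev_CC2 hμ hc hc', mul_one,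
    ev_comm_swap μ (h.T_comm hμ1 heT (h.C_le_T hc)), key c hc e ⟨heT, he⟩, inv_one]

theorem PC.ZT_eq (h : PC P K p) {hμ1 : μ ≠ 1} : ZT h μ hμ hμ1 = CC P :=
  le_antisymm h.ZT_le h.C_le_ZT

end lev2

end Cfsg.Agent.H675.Nd
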