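import Mathlib
import Cfsg.Agent.H675.Nd.PG7

/-!
# The Sylow subgroup: Case II, characters of level two
-/

set_option autoImplicit false
set_option linter.style.haveILetI false
set_option linter.unusedSectionVars false
open Cfsg

namespace Cfsg.Agent.H675.Nd

open Cfsg.Agent.Characters.Core Cfsg.Agent.Characters.Clifford Cfsg.Agent.H672 Cfsg.Agent.H672.RM
open Cfsg.Agent.H597.FrobA
open scoped commutatorElement

universe u v w

section lev2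

variable {G : Type u} [Group G] [Finite G] {P K : Subgroup G} [hP : P.Normal] [hK : K.Normal]
  {p : ℕ} {μ : L P 2 →* ℂˣ} {hμ : ∀ k ∈ L P 3, ev μ k = 1}

theorem L2_le_CC : L P 2 ≤ CC P := (L_anti P (by omega : 1 ≤ 2)).trans L1_le_CC

theorem PC.exists_lam2 (h : PC P K p) (hμ : ∀ k ∈ L P 3, ev μ k = 1) {ω : P → ℂ}
    (hω : IsIrrCharacter P ω) (ho : Over (Subgroup.inclusion (L_le P 2)) ω (lf μ)) :
    ∃ l : CC P →* ℂˣ, Over (Subgroup.inclusion CC_le) ω (lf l) ∧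
      ∀ b ∈ L P 2, ev l b = ev μ b := by
  have h1 : ⁅CC P, CC P⁆ ≤ L P 2 := Subgroup.commutator_le.2 fun a ha b hb => h.CC_CC ha hb
  exact exists_lin_under L2_le_CC CC_le (P_le_stab hμ) h1
    (ev_comm_sub h1 fun a ha b hb => h.ev_CC2 hμ ha hb) hω ho

theorem PC.ev_TC (h : PC P K p) (hμ1 : μ ≠ 1) {x c : G} (hx : x ∈ TT (n := 1) μ hμ)
    (hc : c ∈ CC P) : ev μ ⁅x, c⁆ = 1 := by
  have h1 := (h.C_le_ZT (hμ := hμ) (hμ1 := hμ1) hc).2 x hx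
  rw [ev_comm_swap μ (comm_swap_mem (h.P_CC hx.1 hc)), h1, inv_one]

theorem PC.T_iff (h : PC P K p) (hμ1 : μ ≠ 1) {l : CC P →* ℂˣ}
    (hl : ∀ b ∈ L P 2, ev l b = ev μ b) {x : G} (hx : x ∈ P) :
    cl x l = l ↔ x ∈ TT (n := 1) μ hμ := by
  rw [cl_eq_iff]
  have key : ∀ c ∈ CC P, ev l (x * c * x⁻¹) = ev μ ⁅x, c⁆ * ev l c := by
    intro c hc
    have e : x * c * x⁻¹ = ⁅x, c⁆ * c := by rw [commutatorElement_def]; group
    have hm := h.P_CC hx hc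
    rw [e, ev_mul l (L2_le_CC hm) hc, hl _ hm]
  constructor
  · intro h1
    refine ⟨hx, fun z hz => ?_⟩
    have h2 := h1 z (L1_le_CC hz)
    rw [key z (L1_le_CC hz)] at h2
    exact mul_eq_right.1 h2
  · intro h1 c hc
    rw [key c hc, h.ev_TC hμ1 h1 hc, one_mul]

theorem PC.inert2 (h : PC P K p) (hμ1 : μ ≠ 1) {l : CC P →* ℂˣ}
    (hl : ∀ b ∈ L P 2, ev l b = ev μ b) : Inert (CC P) (TT (n := 1) μ hμ) P (lf l : CC P → ℂ) := by
  refine ⟨CC_le, le_nrm _ _, isIrr_lf l, ?_⟩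
  ext x
  rw [Subgroup.mem_inf, mem_stab_iff]
  constructor
  · intro hx
    exact ⟨hx.1, (h.T_iff hμ1 hl hx.1).2 hx⟩
  · rintro ⟨hx, h1⟩
    exact (h.T_iff hμ1 hl hx).1 h1

theorem PC.FR2 (h : PC P K p) (hμ1 : μ ≠ 1) {l : CC P →* ℂˣ}
    (hl : ∀ b ∈ L P 2, ev l b = ev μ b) : FR (CC P) (TT (n := 1) μ hμ) l := by
  refine ⟨h.C_le_T, (h.inert2 hμ1 hl).Tstab, fun x hx hxC => ?_⟩
  by_contra hcon
  push Not at hcon
  apply hxC
  rw [← h.ZT_eq (hμ := hμ) (hμ1 := hμ1)]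
  refine ⟨hx, fun y hy => ?_⟩
  have hm : ⁅y, x⁆ ∈ L P 2 := h.T_comm hμ1 hy hx
  rw [ev_comm_swap μ hm, ← hl _ hm, hcon y hy (L2_le_CC hm), inv_one]

theorem PC.deg2 (h : PC P K p) (hμ : ∀ k ∈ L P 3, ev μ k = 1) (hμ1 : μ ≠ 1) {ω : P → ℂ}
    (hω : IsIrrCharacter P ω) (ho : Over (Subgroup.inclusion (L_le P 2)) ω (lf μ)) :
    (charDegree ω) ^ 2 = Nat.card (LK (L P 1) (L P 2)) * (CC P).relIndex P := by
  obtain ⟨l, hol, hl⟩ := h.exists_lam2 hμ hω ho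
  have hI := h.inert2 (hμ := hμ) hμ1 hl
  have hF := h.FR2 (hμ := hμ) hμ1 hl
  obtain ⟨η, hη, hηl, -, hd⟩ := hI.exists_eta hω hol
  have h1 := hF.deg hη hηl
  have h2 : (TT (n := 1) μ hμ).relIndex P = Nat.card (LK (L P 1) (L P 2)) :=
    h.rd_index (n := 1) le_rfl hμ hμ1 (h.hS2 hμ hμ1)
  have h3 := Subgroup.relIndex_mul_relIndex (CC P) (TT (n := 1) μ hμ) P h.C_le_T TT_le
  rw [hd, mul_pow, h1, ← h3, h2]
  ring

theorem PC.unique2 (h : PC P K p) (hμ : ∀ k ∈ L P 3, ev μ k = 1) (hμ1 : μ ≠ 1) {l : CC P →* ℂˣ}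
    (hl : ∀ b ∈ L P 2, ev l b = ev μ b) {ω ω' : P → ℂ} (hω : IsIrrCharacter P ω)
    (hω' : IsIrrCharacter P ω') (ho : Over (Subgroup.inclusion CC_le) ω (lf l))
    (ho' : Over (Subgroup.inclusion CC_le) ω' (lf l)) : ω = ω' := by
  have hI := h.inert2 (hμ := hμ) hμ1 hl
  have hF := h.FR2 (hμ := hμ) hμ1 hl
  obtain ⟨η, hη, hηl, hηω, -⟩ := hI.exists_eta hω ho
  obtain ⟨η', hη', hηl', hηω', -⟩ := hI.exists_eta hω' ho'
  have e := hF.unique hη hηl hη' hηl'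
  subst e
  exact hI.eq_of_over hω hω' hη hηl hηω hηω'

theorem PC.stab2 (h : PC P K p) (hμ : ∀ k ∈ L P 3, ev μ k = 1) (hμ1 : μ ≠ 1) {ω : P → ℂ}
    (hω : IsIrrCharacter P ω) (ho : Over (Subgroup.inclusion (L_le P 2)) ω (lf μ)) :
    stab ω = stab (lf μ : L P 2 → ℂ) := by
  refine le_antisymm (stab_le_nu hμ hω ho) fun g hg => ?_
  obtain ⟨l, hol, hl⟩ := h.exists_lam2 hμ hω ho
  -- the restriction of `l` to `γ₂`
  let δ : L P 1 →* ℂˣ := l.comp (Subgroup.inclusion L1_le_CC)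
  have hδl : ∀ b ∈ L P 1, ev δ b = ev l b := by
    intro b hb
    rw [ev_of_mem δ hb, ev_of_mem l (L1_le_CC hb)]
    rfl
  have hδ : ∀ b ∈ L P 2, ev δ b = ev μ b := by
    intro b hb
    rw [hδl b (L_anti P (by omega : 1 ≤ 2) hb), hl b hb]
  obtain ⟨x, hx, hgx⟩ := h.exists_adj (n := 1) le_rfl hμ hμ1 (h.hS2 hμ hμ1) hδ
    (mem_stab_iff.1 hg)
  have key := h.pair_coprime (δ := δ) (A := stab (lf δ : L P 1 → ℂ)) (B := CC P)
    (fun a ha => mem_stab_iff.1 ha)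
    (fun b hb => (TT_iff (n := 1) hδ (CC_le hb)).2 (h.C_le_T (hμ := hμ) hb)) CC_le
    (fun a _ b hb => CC_comm' hb a) (fun a ha haP b hb => by
      rw [hδ _ (h.P_CC haP hb)]
      exact h.ev_TC (hμ := hμ) hμ1 ((TT_iff (n := 1) (hμ := hμ) hδ haP).1 (mem_stab_iff.1 ha))
        hb)
  have h1 : cl (g * x⁻¹) l = l := by
    rw [cl_eq_iff]
    intro c hc
    have e : (g * x⁻¹) * c * (g * x⁻¹)⁻¹ = ⁅g * x⁻¹, c⁆ * c := by
      rw [commutatorElement_def]; group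
    have hm : ⁅g * x⁻¹, c⁆ ∈ L P 1 := CC_comm' hc _
    rw [e, ev_mul l (L1_le_CC hm) hc, ← hδl _ hm, key _ (mem_stab_iff.2 hgx) c hc, one_mul]
  have h2 : g * x⁻¹ ∈ stab ω := by
    refine ⟨mem_nrm P _, ?_⟩
    refine h.unique2 hμ hμ1 hl (isIrr_tw (mem_nrm P _) hω) hω ?_ hol
    have h3 := (over_tw_tw CC_le (mem_nrm (CC P) (g * x⁻¹)) (mem_nrm P (g * x⁻¹)) ω (lf l)).2 hol
    have h4 := mem_stab_iff.2 h1
    rwa [h4.2] at h3
  have h5 := (stab ω).mul_mem h2 (le_stab' hω hx)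
  rwa [inv_mul_cancel_right] at h5

theorem PC.const2 (h : PC P K p) (μ μ' : L P 2 →* ℂˣ) (hμ : ∀ k ∈ L P 3, ev μ k = 1)
    (hμ' : ∀ k ∈ L P 3, ev μ' k = 1) (h1 : μ ≠ 1) (h1' : μ' ≠ 1) :
    stab (lf μ : L P 2 → ℂ) = stab (lf μ' : L P 2 → ℂ) := by
  refine h.stab_const (n := 2) (by omega) ?_ ?_ hμ hμ' h1 h1'
  · intro ν ν' hν hν' h1 h1' ω ω' hω hω' ho ho'
    have e := h.deg2 hν h1 hω ho
    rw [← h.deg2 hν' h1' hω' ho'] at e
    exact Nat.pow_left_injective two_ne_zero e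
  · intro ν hν h1 ω hω ho
    exact h.stab2 hν h1 hω ho

theorem PC.L2_CC (h : PC P K p) {z c : G} (hz : z ∈ L P 2) (hc : c ∈ CC P) : ⁅z, c⁆ ∈ L P 4 := by
  have hPC : ⁅P, CC P⁆ ≤ L P 2 := by
    rw [Subgroup.commutator_le]
    exact fun x hx c hc => h.P_CC hx hc
  have hLC : ⁅L P 1, CC P⁆ ≤ L P 3 := by
    rw [Subgroup.commutator_le]
    exact fun x hx c hc => h.L1_CC hx hc
  have h1 : ⁅⁅L P 1, P⁆, CC P⁆ ≤ L P 4 := by
    refine tsl ((Subgroup.commutator_mono hPC le_rfl).trans (comm_L P 2 1)) ?_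
    rw [Subgroup.commutator_comm (CC P)]
    exact (Subgroup.commutator_mono hLC le_rfl).trans (comm_L P 3 0)
  exact h1 (Subgroup.commutator_mem_commutator hz hc)

theorem PC.hS3 (h : PC P K p) {μ : L P 3 →* ℂˣ} (hμ : ∀ k ∈ L P 4, ev μ k = 1) (hμ1 : μ ≠ 1) :
    ∀ g, g ∉ P → cl g μ = μ → ∀ ν : L P 2 →* ℂˣ, (∀ k ∈ L P 3, ev ν k = 1) →
      cl g ν = ν → ν = 1 :=
  h.hS_of (n := 2) h.const2 (fun _ hz _ hc => h.L2_CC hz hc) hμ hμ1

end lev2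

section counts

variable {G : Type u} [Group G] [Finite G] {P K : Subgroup G} [hP : P.Normal] [hK : K.Normal]
  {p : ℕ}

/-- The commutator forms of level one. -/
noncomputable def B1 (P : Subgroup G) [P.Normal] :
    LK (L P 1) (L P 2) →* (P →* (P →* ℂˣ)) :=
  MonoidHom.mk' (fun ν => cpair P P ν.1 (fun _ ha _ hb => mem_L_one P ha hb)
    (fun _ ha => P_fix ((mem_LK_ev (L_anti P (by omega))).1 ν.2) ha)
    (fun _ ha => P_fix ((mem_LK_ev (L_anti P (by omega))).1 ν.2) ha)) (by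
      intro ν ν'
      apply MonoidHom.ext
      intro x
      apply MonoidHom.ext
      intro y
      exact ev_hmul ν.1 ν'.1 _)

theorem B1_apply (ν : LK (L P 1) (L P 2)) (x y : P) : B1 P ν x y = ev ν.1 ⁅(x : G), (y : G)⁆ :=
  rfl

theorem LK_ev {n : ℕ} (ν : LK (L P n) (L P (n + 1))) : ∀ k ∈ L P (n + 1), ev ν.1 k = 1 :=
  (mem_LK_ev (L_anti P (Nat.le_succ n))).1 ν.2

theorem ne_one_coe {A B : Subgroup G} [A.Normal] [B.Normal] {ν : LK A B} (h : ν ≠ 1) :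
    (ν : A →* ℂˣ) ≠ 1 := fun e => h (Subtype.ext e)

theorem PC.B1_rad (h : PC P K p) (ν : LK (L P 1) (L P 2)) (hν : ν ≠ 1) (x : P) :
    (∀ y, B1 P ν x y = 1) ↔ x ∈ (CC P).subgroupOf P := by
  rw [Subgroup.mem_subgroupOf, ← h.Zn_eq (hν := LK_ev ν) (ne_one_coe hν)]
  constructor
  · intro h1
    exact ⟨x.2, fun y hy => h1 ⟨y, hy⟩⟩
  · intro h1 y
    exact h1.2 y y.2

theorem PS.CC_ne (h : PS P K p) : CC P ≠ P := by
  intro e
  obtain ⟨x, hx, hx'⟩ := h.E_ne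
  exact hx' (h.EC_inf hx (by rw [e]; exact EE_le hx))

theorem PS.exists_p (h : PS P K p) {n : ℕ} (hne : ∃ ν : LK (L P n) (L P (n + 1)), ν ≠ 1) :
    ∃ ν : LK (L P n) (L P (n + 1)), ν ≠ 1 ∧ ν ^ p = 1 := by
  haveI := Fact.mk h.pr
  haveI := finite_lin (L P n)
  obtain ⟨ν, hν⟩ := hne
  obtain ⟨k, hk⟩ := IsPGroup.iff_card.1 h.pg
  have h1 : ν ^ (p ^ k) = 1 := by
    apply Subtype.ext
    apply MonoidHom.ext
    intro d
    have h2 : (ν.1 d) ^ (p ^ k) = 1 := by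
      rw [← map_pow]
      have h3 : d ^ (p ^ k) = 1 := by
        apply Subtype.ext
        change (d : G) ^ (p ^ k) = 1
        rw [← hk]
        exact congrArg Subtype.val (pow_card_eq_one' (x := (⟨d, L_le P n d.2⟩ : P)))
      rw [h3, map_one]
    exact h2
  -- the order of `ν` is a nontrivial power of `p`
  obtain ⟨j, -, hj⟩ := (Nat.dvd_prime_pow h.pr).1 (orderOf_dvd_of_pow_eq_one h1)
  have hj0 : j ≠ 0 := by
    rintro rfl
    rw [pow_zero, orderOf_eq_one_iff] at hj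
    exact hν hj
  obtain ⟨i, rfl⟩ := Nat.exists_eq_succ_of_ne_zero hj0
  refine ⟨ν ^ (p ^ i), ?_, ?_⟩
  · intro h2
    have h3 := orderOf_dvd_of_pow_eq_one h2
    rw [hj] at h3
    have h4 := Nat.le_of_dvd (pow_pos h.pr.pos _) h3
    exact absurd h4 (not_le.2 (Nat.pow_lt_pow_right h.pr.one_lt (Nat.lt_succ_self i)))
  · have h5 : p ^ i * p = orderOf ν := by rw [hj, Nat.succ_eq_add_one, pow_succ]
    rw [← pow_mul, h5, pow_orderOf_eq_one]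

/-- **Lemma A applied**: `|Λ|² ≤ |P : C|`. -/
theorem PC.sq_le (h : PC P K p) (hne : ∃ ν : LK (L P 1) (L P 2), ν ≠ 1) :
    Nat.card (LK (L P 1) (L P 2)) ^ 2 ≤ (CC P).relIndex P := by
  haveI := Fact.mk h.pr
  haveI := finite_lin (L P 1)
  refine lemA (B1 P) (h.exists_p hne) ?_ ((CC P).subgroupOf P) h.B1_rad ?_
  · intro ν x
    rw [B1_apply, commutatorElement_self, ev_one]
  · intro e
    rw [Subgroup.subgroupOf_eq_top] at e
    exact h.CC_ne (le_antisymm CC_le e)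

/-- Isotropic subgroups. -/
theorem PC.iso_le (h : PC P K p) {ν : L P 1 →* ℂˣ} (hν : ∀ k ∈ L P 2, ev ν k = 1) (hν1 : ν ≠ 1)
    {T : Subgroup G} (hT : T ≤ P) (hC : CC P ≤ T) (hTT : ∀ a ∈ T, ∀ b ∈ T, ev ν ⁅a, b⁆ = 1) :
    (CC P).relIndex P ≤ (T.relIndex P) ^ 2 := by
  have hA : ∀ a ∈ P, cl a ν = ν := fun a ha => P_fix hν ha
  have hAT : ∀ a ∈ T, cl a ν = ν := fun a ha => P_fix hν (hT ha)
  have hAB : ∀ a ∈ P, ∀ b ∈ T, ⁅a, b⁆ ∈ L P 1 := fun a ha b hb => mem_L_one P ha (hT hb)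
  have hBA : ∀ a ∈ T, ∀ b ∈ P, ⁅a, b⁆ ∈ L P 1 := fun a ha b hb => mem_L_one P (hT ha) hb
  have h1 := rd_dual (A := P) (B := T) (δ := ν) (hA := hA) (hAB := hAB) hAT hBA
  have h2 : rd T P ν hAT hBA = CC P := by
    rw [← h.Zn_eq (hν := hν) hν1]
    ext x
    rw [mem_rd, mem_Zn]
    constructor
    · rintro ⟨h3, h4⟩
      exact ⟨hT h3, h4⟩
    · rintro ⟨h3, h4⟩
      refine ⟨hC ?_, h4⟩
      rw [← h.Zn_eq (hν := hν) hν1]
      exact ⟨h3, h4⟩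
  rw [h2] at h1
  have h3 : T ≤ rd P T ν hA hAB := fun x hx => ⟨hT hx, fun b hb => hTT x hx b hb⟩
  have h4 := Subgroup.relIndex_mul_relIndex T (rd P T ν hA hAB) P h3 rd_le
  have h5 := Subgroup.relIndex_mul_relIndex (CC P) T P hC hT
  rw [← h5, ← h1, pow_two]
  refine Nat.mul_le_mul_right _ ?_
  rw [← h4]
  exact Nat.le_mul_of_pos_left _ (index_pos (T.subgroupOf (rd P T ν hA hAB)))

/-- `|P : C| = q²`. -/
theorem PC.q_sq (h : PC P K p) {μ : L P 2 →* ℂˣ} (hμ : ∀ k ∈ L P 3, ev μ k = 1) (hμ1 : μ ≠ 1) :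
    (CC P).relIndex P = Nat.card (LK (L P 1) (L P 2)) ^ 2 := by
  have hne : ∃ ν : LK (L P 1) (L P 2), ν ≠ 1 := by
    by_contra hcon
    push Not at hcon
    have h1 : L P 1 = ⊥ := h.L_bot fun ν hν =>
      congrArg Subtype.val (hcon ⟨ν, (mem_LK_ev (L_anti P (by omega))).2 hν⟩)
    apply hμ1
    apply ev_ext
    intro d hd
    have hd1 : d ∈ L P 1 := L_anti P (by omega : 1 ≤ 2) hd
    rw [h1, Subgroup.mem_bot] at hd1
    rw [hd1, ev_one, ev_one]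
  refine le_antisymm ?_ (h.sq_le hne)
  obtain ⟨ν, hν⟩ := hne
  have h2 : (TT (n := 1) μ hμ).relIndex P = Nat.card (LK (L P 1) (L P 2)) :=
    h.rd_index (n := 1) le_rfl hμ hμ1 (h.hS2 hμ hμ1)
  rw [← h2]
  exact h.iso_le (LK_ev ν) (ne_one_coe hν) TT_le h.C_le_T fun a ha b hb =>
    LK_ev ν _ (h.T_comm hμ1 ha hb)

end counts

end Cfsg.Agent.H675.Nd
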