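import Mathlib
import Cfsg.Agent.H675.Nd.PG8

/-!
# The Sylow subgroup: Case II, the data of level three
-/

set_option autoImplicit false
set_option linter.style.haveILetI false
set_option linter.unusedSectionVars false
open Cfsg

namespace Cfsg.Agent.H675.Nd

open Cfsg.Agent.Characters.Core Cfsg.Agent.Characters.Clifford Cfsg.Agent.H672 Cfsg.Agent.H672.RM
open Cfsg.Agent.H597.FrobA
open scoped commutatorElement

universe u v w

section lev3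

variable {G : Type u} [Group G] [Finite G] {P K : Subgroup G} [hP : P.Normal] [hK : K.Normal]
  {p : ℕ}

/-- The commutator forms of level two. -/
noncomputable def T2 (P : Subgroup G) [P.Normal] :
    LK (L P 2) (L P 3) →* (L P 1 →* (P →* ℂˣ)) :=
  MonoidHom.mk' (fun κ => cpair (L P 1) P κ.1 (fun _ ha _ hb => mem_L_succ P ha hb)
    (fun _ ha => P_fix (LK_ev κ) (L_le P 1 ha)) (fun _ ha => P_fix (LK_ev κ) ha)) (by
      intro κ κ'
      apply MonoidHom.ext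
      intro x
      apply MonoidHom.ext
      intro y
      exact ev_hmul κ.1 κ'.1 _)

theorem T2_apply (κ : LK (L P 2) (L P 3)) (w : L P 1) (v : P) :
    T2 P κ w v = ev κ.1 ⁅(w : G), (v : G)⁆ := rfl

variable {μ : L P 3 →* ℂˣ}

/-- `y ↦ μ([·, y])` -/
noncomputable def km (μ : L P 3 →* ℂˣ) (hμ : ∀ k ∈ L P 4, ev μ k = 1) :
    P →* LK (L P 2) (L P 3) :=
  (cpair (L P 2) P μ (fun _ ha _ hb => mem_L_succ P ha hb)
    (fun _ ha => P_fix hμ (L_le P 2 ha)) (fun _ ha => P_fix hμ ha)).flip.codRestrict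
      (LK (L P 2) (L P 3)) (by
        intro y k _ hk
        exact hμ _ (mem_L_succ P hk y.2))

theorem km_apply {hμ : ∀ k ∈ L P 4, ev μ k = 1} (y : P) {z : G} (hz : z ∈ L P 2) :
    ev (km μ hμ y).1 z = ev μ ⁅z, (y : G)⁆ := by
  rw [ev_of_mem _ hz]
  rfl

theorem comm_11 {a b : G} (ha : a ∈ L P 1) (hb : b ∈ L P 1) : ⁅a, b⁆ ∈ L P 3 :=
  comm_L P 1 1 (Subgroup.commutator_mem_commutator ha hb)

theorem comm_12 {a b : G} (ha : a ∈ L P 1) (hb : b ∈ L P 2) : ⁅a, b⁆ ∈ L P 4 :=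
  comm_L P 1 2 (Subgroup.commutator_mem_commutator ha hb)

/-- `w ↦ μ([w, ·])` -/
noncomputable def psm (μ : L P 3 →* ℂˣ) (hμ : ∀ k ∈ L P 4, ev μ k = 1) :
    L P 1 →* LK (L P 1) (L P 2) :=
  (cpair (L P 1) (L P 1) μ (fun _ ha _ hb => comm_11 ha hb)
    (fun _ ha => P_fix hμ (L_le P 1 ha)) (fun _ ha => P_fix hμ (L_le P 1 ha))).codRestrict
      (LK (L P 1) (L P 2)) (by
        intro w k _ hk
        exact hμ _ (comm_12 w.2 hk))

theorem psm_apply {hμ : ∀ k ∈ L P 4, ev μ k = 1} (w : L P 1) {z : G} (hz : z ∈ L P 1) :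
    ev (psm μ hμ w).1 z = ev μ ⁅(w : G), z⁆ := by
  rw [ev_of_mem _ hz]
  rfl

theorem PC.exists_κ (h : PC P K p) (hμ1 : μ ≠ 1) :
    ∃ κ : LK (L P 2) (L P 3), κ ≠ 1 := by
  by_contra hcon
  push Not at hcon
  have h1 : L P 2 = ⊥ := h.L_bot fun ν hν =>
    congrArg Subtype.val (hcon ⟨ν, (mem_LK_ev (L_anti P (by omega))).2 hν⟩)
  apply hμ1
  apply ev_ext
  intro d hd
  have hd1 : d ∈ L P 2 := L_anti P (by omega : 2 ≤ 3) hd
  rw [h1, Subgroup.mem_bot] at hd1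
  rw [hd1, ev_one, ev_one]

theorem PC.one_lt_q (h : PC P K p) {κ : LK (L P 2) (L P 3)} (hκ : κ ≠ 1) :
    1 < Nat.card (LK (L P 1) (L P 2)) := by
  haveI := finite_lin (L P 1)
  have h1 := h.q_sq (LK_ev κ) (ne_one_coe hκ)
  have h2 : (CC P).relIndex P ≠ 1 := by
    intro e
    rw [Subgroup.relIndex_eq_one] at e
    exact h.CC_ne (le_antisymm CC_le e)
  have h3 : 0 < Nat.card (LK (L P 1) (L P 2)) := Nat.card_pos
  by_contra hcon
  have h4 : Nat.card (LK (L P 1) (L P 2)) = 1 := by omega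
  rw [h4, one_pow] at h1
  exact h2 h1

theorem PC.idx_pp (h : PC P K p) {v : P} (hv : (v : G) ∉ CC P) :
    (pp (B1 P) v).index = Nat.card (LK (L P 1) (L P 2)) := by
  haveI := finite_lin (L P 1)
  have h1 := card_pair ((B1 P).flip v)
  have h2 : ((B1 P).flip v).ker = ⊥ := by
    rw [eq_bot_iff]
    intro ν hν
    rw [Subgroup.mem_bot]
    by_contra hν1
    apply hv
    rw [← Subgroup.mem_subgroupOf, ← h.B1_rad ν hν1]
    intro y
    exact DFunLike.congr_fun hν y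
  rw [h2, Subgroup.index_bot] at h1
  exact h1.symm

theorem PC.T_eq (h : PC P K p) {v : P} (hv : (v : G) ∉ CC P) {κ : LK (L P 2) (L P 3)} (hκ : κ ≠ 1)
    (hvT : (v : G) ∈ TT (n := 1) κ.1 (LK_ev κ)) :
    (TT (n := 1) κ.1 (LK_ev κ)).subgroupOf P = pp (B1 P) v := by
  haveI := finite_lin (L P 1)
  have hκ1 := ne_one_coe hκ
  have h1 : (TT (n := 1) κ.1 (LK_ev κ)).subgroupOf P ≤ pp (B1 P) v := by
    intro y hy
    rw [Subgroup.mem_subgroupOf] at hy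
    rw [mem_pp]
    intro ν
    exact LK_ev ν _ (h.T_comm hκ1 hvT hy)
  have h2 : (TT (n := 1) κ.1 (LK_ev κ)).relIndex P = Nat.card (LK (L P 1) (L P 2)) :=
    h.rd_index (n := 1) le_rfl (LK_ev κ) hκ1 (h.hS2 (LK_ev κ) hκ1)
  refine eq_of_le_of_index_eq h1 ?_
  rw [h.idx_pp hv]
  exact h2

theorem PC.hN (h : PC P K p) {κ₁ : LK (L P 2) (L P 3)} (hκ₁ : κ₁ ≠ 1) {v : P}
    (hv : (v : G) ∉ CC P) :
    Nat.card {κ : LK (L P 2) (L P 3) // ∀ w, T2 P κ w v = 1} <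
      Nat.card (LK (L P 1) (L P 2)) := by
  haveI := finite_lin (L P 1)
  haveI := finite_lin (L P 2)
  let N : Subgroup (LK (L P 2) (L P 3)) := (TV (T2 P) v).ker
  have hN : ∀ κ, κ ∈ N ↔ ∀ w, T2 P κ w v = 1 := fun κ => mem_NN
  have hcard : Nat.card {κ : LK (L P 2) (L P 3) // ∀ w, T2 P κ w v = 1} = Nat.card N :=
    Nat.card_congr (Equiv.subtypeEquivRight fun κ => (hN κ).symm)
  rw [hcard]
  by_cases h0 : ∀ κ ∈ N, κ = 1
  · have h1 : N = ⊥ := by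
      rw [eq_bot_iff]
      exact fun κ hκ => Subgroup.mem_bot.2 (h0 κ hκ)
    rw [h1, Subgroup.card_bot]
    exact h.one_lt_q hκ₁
  push Not at h0
  obtain ⟨κ₀, hκ₀, hκ₀1⟩ := h0
  have hvT : ∀ κ ∈ N, (v : G) ∈ TT (n := 1) κ.1 (LK_ev κ) := by
    intro κ hκ
    rw [hN] at hκ
    refine ⟨v.2, fun z hz => ?_⟩
    have h1 : ev κ.1 ⁅z, (v : G)⁆ = 1 := hκ ⟨z, hz⟩
    rw [ev_comm_swap κ.1 (mem_L_succ P hz v.2), h1, inv_one]
  set T₀ := TT (n := 1) κ₀.1 (LK_ev κ₀) with hT₀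
  have hκ₀' := ne_one_coe hκ₀1
  have hvT₀ : (v : G) ∈ T₀ := hvT κ₀ hκ₀
  have hcomm : ∀ y ∈ T₀, ⁅(v : G), y⁆ ∈ L P 2 := fun y hy => h.T_comm hκ₀' hvT₀ hy
  let φ : N →* (T₀ →* ℂˣ) := MonoidHom.mk' (fun κ => MonoidHom.mk' (fun y => ev κ.1.1 ⁅(v : G), (y : G)⁆)
    (fun y y' => ev_comm_mul_right (P_fix (LK_ev κ.1) y.2.1) (hcomm y y.2) (hcomm y' y'.2)))
    (by
      intro κ κ'
      apply MonoidHom.ext
      intro y
      exact ev_hmul κ.1.1 κ'.1.1 _)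
  have hφ : ∀ (κ : N) (y : T₀), φ κ y = ev κ.1.1 ⁅(v : G), (y : G)⁆ := fun _ _ => rfl
  have h1 := card_pair φ
  have h2 : φ.ker = ⊥ := by
    rw [eq_bot_iff]
    intro κ hκ
    rw [Subgroup.mem_bot]
    by_contra hκ1
    have hκ1' : κ.1 ≠ 1 := fun e => hκ1 (Subtype.ext e)
    apply hv
    rw [← h.ZT_eq (hμ := LK_ev κ.1) (hμ1 := ne_one_coe hκ1')]
    refine ⟨hvT κ.1 κ.2, fun y hy => ?_⟩
    have h3 : y ∈ T₀ := by
      have e1 := h.T_eq hv hκ1' (hvT κ.1 κ.2)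
      rw [← h.T_eq hv hκ₀1 hvT₀] at e1
      have h4 : (⟨y, hy.1⟩ : P) ∈ (TT (n := 1) κ.1.1 (LK_ev κ.1)).subgroupOf P := hy
      rw [e1] at h4
      exact h4
    exact DFunLike.congr_fun hκ ⟨y, h3⟩
  rw [h2, Subgroup.index_bot] at h1
  rw [h1]
  have h5 : (CC P).subgroupOf T₀ ≤ φ.flip.ker := by
    intro c hc
    rw [Subgroup.mem_subgroupOf] at hc
    rw [MonoidHom.mem_ker]
    apply MonoidHom.ext
    intro κ
    change ev κ.1.1 ⁅(v : G), (c : G)⁆ = 1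
    by_cases hκ1 : κ.1 = 1
    · rw [hκ1]
      exact ev_hone _
    · exact h.ev_TC (ne_one_coe hκ1) (hvT κ.1 κ.2) hc
  have h6 : (⟨v, hvT₀⟩ : T₀) ∈ φ.flip.ker := by
    rw [MonoidHom.mem_ker]
    apply MonoidHom.ext
    intro κ
    change ev κ.1.1 ⁅(v : G), (v : G)⁆ = 1
    rw [commutatorElement_self, ev_one]
  have h7 : ((CC P).subgroupOf T₀).index = Nat.card (LK (L P 1) (L P 2)) := by
    have h8 : T₀.relIndex P = Nat.card (LK (L P 1) (L P 2)) :=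
      h.rd_index (n := 1) le_rfl (LK_ev κ₀) hκ₀' (h.hS2 (LK_ev κ₀) hκ₀')
    have h9 := Subgroup.relIndex_mul_relIndex (CC P) T₀ P h.C_le_T TT_le
    rw [h.q_sq (LK_ev κ₀) hκ₀', h8, pow_two] at h9
    exact Nat.eq_of_mul_eq_mul_right (Nat.card_pos) h9
  rw [← h7]
  refine lt_of_le_of_ne (Nat.le_of_dvd (index_pos _) (Subgroup.index_dvd_of_le h5)) ?_
  intro e
  apply hv
  have e2 := eq_of_le_of_index_eq h5 e.symm
  rw [← e2, Subgroup.mem_subgroupOf] at h6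
  exact h6

/-- **The data of Lemma L.** -/
theorem PC.LD (h : PC P K p) (hμ : ∀ k ∈ L P 4, ev μ k = 1) (hμ1 : μ ≠ 1) :
    LD (B1 P) (T2 P) (km μ hμ) (psm μ hμ) ((CC P).subgroupOf P) ((L P 2).subgroupOf (L P 1))
      (Nat.card (LK (L P 1) (L P 2))) := by
  obtain ⟨κ₁, hκ₁⟩ := h.exists_κ hμ1
  refine
    { alt := fun ν x => ?_
      hV := h.B1_rad
      hW := fun κ hκ w => ?_
      hTV := fun κ w v hv => LK_ev κ _ (h.L1_CC w.2 hv)
      cΛ := rfl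
      cW := (card_LKL 1).symm
      cV := ?_
      iso := fun κ hκ x y hx hy ν => ?_
      hN := fun v hv => h.hN hκ₁ hv
      ksurj := fun κ => ?_
      kV := fun v hv => ?_
      jac := fun w v y => ?_
      hΞ := ⟨κ₁, hκ₁⟩ }
  · rw [B1_apply, commutatorElement_self, ev_one]
  · constructor
    · intro h1
      exact h.rad_L (n := 1) le_rfl (LK_ev κ) (ne_one_coe hκ) (h.hS2 (LK_ev κ) (ne_one_coe hκ))
        w.2 fun x hx => h1 ⟨x, hx⟩
    · intro h1 v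
      exact LK_ev κ _ (mem_L_succ P h1 v.2)
  · have h1 := h.q_sq (LK_ev κ₁) (ne_one_coe hκ₁)
    rw [pow_two] at h1
    exact h1
  · have hT : ∀ x : P, (∀ w, T2 P κ w x = 1) → (x : G) ∈ TT (n := 1) κ.1 (LK_ev κ) := by
      intro x hx
      refine ⟨x.2, fun z hz => ?_⟩
      have h1 : ev κ.1 ⁅z, (x : G)⁆ = 1 := hx ⟨z, hz⟩
      rw [ev_comm_swap κ.1 (mem_L_succ P hz x.2), h1, inv_one]
    exact LK_ev ν _ (h.T_comm (ne_one_coe hκ) (hT x hx) (hT y hy))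
  · obtain ⟨x, hx, hx'⟩ := h.exists_x (n := 2) (by omega) hμ hμ1 (h.hS3 hμ hμ1) (LK_ev κ)
    refine ⟨⟨x⁻¹, P.inv_mem hx⟩, ?_⟩
    apply Subtype.ext
    apply ev_ext
    intro z hz
    rw [km_apply _ hz, hx' z hz]
    change ev μ ⁅z, x⁻¹⁆ = _
    rw [ev_comm_inv_right (P_fix hμ hx) (mem_L_succ P hz hx) (mem_L_succ P hz (P.inv_mem hx)),
      ev_comm_swap μ (mem_L_succ P hz hx)]
  · apply Subtype.ext
    apply ev_ext
    intro z hz
    have hv' : (v : G) ∈ CC P := hv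
    rw [km_apply _ hz, hμ _ (h.L2_CC hz hv')]
    exact (ev_hone z).symm
  · have hvy : ⁅(v : G), (y : G)⁆ ∈ L P 1 := mem_L_one P v.2 y.2
    have hwv : ⁅(w : G), (v : G)⁆ ∈ L P 2 := mem_L_succ P w.2 v.2
    have hwy : ⁅(w : G), (y : G)⁆ ∈ L P 2 := mem_L_succ P w.2 y.2
    rw [B1_apply, T2_apply, T2_apply, psm_apply _ hvy, km_apply _ hwv, km_apply _ hwy]
    have h1 := jac (P := P) (a := 0) (b := 0) (c := 1) (n := 3) (by omega) v.2 y.2 w.2 hμ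
    have hyw : ⁅(y : G), (w : G)⁆ = ⁅(w : G), (y : G)⁆⁻¹ := (commutatorElement_inv _ _).symm
    have m1 : ⁅(v : G), ⁅(w : G), (y : G)⁆⁆ ∈ L P 3 := mem_L_succ' P v.2 hwy
    have m2 : ⁅(v : G), ⁅(w : G), (y : G)⁆⁻¹⁆ ∈ L P 3 := mem_L_succ' P v.2 ((L P 2).inv_mem hwy)
    rw [hyw, ev_comm_inv_right (P_fix hμ (L_le P 2 hwy)) m1 m2,
      ← ev_comm_swap μ m1, ev_comm_swap μ (mem_L_succ P hwv y.2), mul_assoc] at h1
    rw [eq_inv_of_mul_eq_one_left h1, mul_inv, inv_inv]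
end lev3

end Cfsg.Agent.H675.Nd
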