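import Mathlib
import Cfsg.Agent.H675.Nd.PG9

/-!
# The Sylow subgroup: Case II, no level three
-/

set_option autoImplicit false
set_option linter.style.haveILetI false
set_option linter.unusedSectionVars false
open Cfsg

namespace Cfsg.Agent.H675.Nd

open Cfsg.Agent.Characters.Core Cfsg.Agent.Characters.Clifford Cfsg.Agent.H672 Cfsg.Agent.H672.RM
open Cfsg.Agent.H597.FrobA
open scoped commutatorElement

universe u v w

section lev3

variable {G : Type u} [Group G] [Finite G] {P K : Subgroup G} [hP : P.Normal] [hK : K.Normal]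
  {p : ℕ} {μ : L P 3 →* ℂˣ}

/-- Stabilizers of level one fix the characters of level three. -/
theorem PC.S1_le (h : PC P K p) (hμ : ∀ k ∈ L P 4, ev μ k = 1) {a : G}
    (ha : ∀ ν : L P 1 →* ℂˣ, (∀ k ∈ L P 2, ev ν k = 1) → cl a ν = ν) : cl a μ = μ := by
  haveI := finite_lin (L P 1)
  haveI := finite_lin (L P 2)
  by_contra hcon
  have hκ1 : cl a μ * μ⁻¹ ≠ 1 := fun e => hcon (lin_mul_inv_eq_one e)
  have hκ : ∀ k ∈ L P 4, ev (cl a μ * μ⁻¹) k = 1 := by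
    intro k hk
    rw [ev_hmul, ev_hinv, ev_cl a μ (L_anti P (by omega : 3 ≤ 4) hk), hμ k hk, inv_one, mul_one]
    exact hμ _ ((inferInstance : (L P 4).Normal).conj_mem k hk a)
  obtain ⟨w, hw⟩ := (h.LD hκ hκ1).exists_psi_ne
  apply hw
  apply Subtype.ext
  apply ev_ext
  intro z hz
  rw [psm_apply w hz]
  have h0 := triv_L ha w.2
  have h0' := triv_L ha hz
  have hm : ⁅(w : G), z⁆ ∈ L P 3 := comm_11 w.2 hz
  have e : a * ⁅(w : G), z⁆ * a⁻¹ = ⁅(w : G) * ((w : G)⁻¹ * (a * w * a⁻¹)),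
      z * (z⁻¹ * (a * z * a⁻¹))⁆ := by
    simp only [commutatorElement_def]; group
  have h12 : L P 2 ≤ L P 1 := L_anti P (by omega)
  have h34 : L P 4 ≤ L P 3 := L_anti P (by omega)
  have hzb : z * (z⁻¹ * (a * z * a⁻¹)) ∈ L P 1 := (L P 1).mul_mem hz (h12 h0')
  have m1 : ⁅(w : G), z⁻¹ * (a * z * a⁻¹)⁆ ∈ L P 4 := comm_12 w.2 h0'
  have m2 : ⁅(w : G)⁻¹ * (a * w * a⁻¹), z * (z⁻¹ * (a * z * a⁻¹))⁆ ∈ L P 4 :=
    comm_swap_mem (comm_12 hzb h0)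
  rw [ev_hmul, ev_hinv, ev_cl a μ hm, e,
    ev_comm_mul_left (P_fix hμ (L_le P 1 w.2)) (comm_11 w.2 hzb) (h34 m2), hμ _ m2, mul_one,
    ev_comm_mul_right (P_fix hμ (L_le P 1 hz)) hm (h34 m1), hμ _ m1, mul_one, mul_inv_cancel]
  exact (ev_hone z).symm

theorem PC.L1_le_T3 (_h : PC P K p) {hμ : ∀ k ∈ L P 4, ev μ k = 1} :
    L P 1 ≤ TT (n := 2) μ hμ := fun _ hw =>
  ⟨L_le P 1 hw, fun _ hz => hμ _ (comm_12 hw hz)⟩

theorem PC.C_le_T3 (h : PC P K p) {hμ : ∀ k ∈ L P 4, ev μ k = 1} : CC P ≤ TT (n := 2) μ hμ :=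
  CC_le_TT fun _ hz _ hc => h.L2_CC hz hc

/-- The degree of a character of level three is large. -/
theorem PC.deg3 (h : PC P K p) (hμ : ∀ k ∈ L P 4, ev μ k = 1) (hμ1 : μ ≠ 1) {ω : P → ℂ}
    (hω : IsIrrCharacter P ω) (ho : Over (Subgroup.inclusion (L_le P 3)) ω (lf μ)) :
    Nat.card (LK (L P 1) (L P 2)) < charDegree ω := by
  haveI := finite_lin (L P 1)
  haveI := finite_lin (L P 2)
  have h22 : ⁅L P 2, L P 2⁆ ≤ L P 4 := (comm_L P 2 2).trans (L_anti P (by omega))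
  have h34 : L P 4 ≤ L P 3 := L_anti P (by omega)
  have h23 : L P 3 ≤ L P 2 := L_anti P (by omega)
  obtain ⟨δ, hoδ, hδ⟩ := exists_lin_under (T := P) h23 (L_le P 2) (P_le_stab hμ)
    (h22.trans h34) (fun z hz => hμ z (h22 hz)) hω ho
  have hI : Inert (L P 2) (TT (n := 2) μ hμ) P (lf δ : L P 2 → ℂ) := by
    refine ⟨L_le P 2, le_nrm _ _, isIrr_lf δ, ?_⟩
    ext x
    rw [Subgroup.mem_inf, mem_stab_iff]
    constructor
    · intro hx
      exact ⟨hx.1, (TT_iff (n := 2) hδ hx.1).2 hx⟩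
    · rintro ⟨hx, h1⟩
      exact (TT_iff (n := 2) hδ hx).1 h1
  obtain ⟨η, hη, hηδ, -, hd⟩ := hI.exists_eta hω hoδ
  have h2 : (TT (n := 2) μ hμ).relIndex P = Nat.card (LK (L P 2) (L P 3)) :=
    h.rd_index (n := 2) (by omega) hμ hμ1 (h.hS3 hμ hμ1)
  have h3 := (h.LD hμ hμ1).le_card
  have h4 : charDegree η ≠ 1 := by
    intro h5
    obtain ⟨e, rfl⟩ := exists_hom_of_degree_one hη h5
    obtain ⟨w, hw⟩ := (h.LD hμ hμ1).exists_psi_ne
    apply hw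
    apply Subtype.ext
    apply ev_ext
    intro z hz
    rw [psm_apply w hz]
    have hm : ⁅(w : G), z⁆ ∈ L P 3 := comm_11 w.2 hz
    have h6 := res_lin hI.KT hI.Tstab hη hηδ ⟨_, h23 hm⟩
    have h7 : lf e (Subgroup.inclusion hI.KT ⟨_, h23 hm⟩) = 1 := by
      have h8 : Subgroup.inclusion hI.KT ⟨_, h23 hm⟩ =
          ⁅(⟨w, h.L1_le_T3 w.2⟩ : TT (n := 2) μ hμ), ⟨z, h.L1_le_T3 hz⟩⁆ := rfl
      rw [h8, lf_apply, map_commutatorElement, commutatorElement_eq_one_iff_mul_comm.2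
        (mul_comm _ _), Units.val_one]
    have h9 : lf e 1 = 1 := by rw [lf_apply, map_one, Units.val_one]
    rw [h7, h9, one_mul, ← ev_coe] at h6
    have h10 : ev δ ⁅(w : G), z⁆ = 1 := Units.ext h6.symm
    rw [← hδ _ hm, h10]
    exact (ev_hone z).symm
  have h5 : 0 < charDegree η := charDegree_pos hη
  have h6 : 0 < Nat.card (LK (L P 1) (L P 2)) := Nat.card_pos
  rw [hd, h2]
  calc Nat.card (LK (L P 1) (L P 2)) < Nat.card (LK (L P 1) (L P 2)) * 2 := by omega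
    _ ≤ Nat.card (LK (L P 2) (L P 3)) * charDegree η := Nat.mul_le_mul h3 (by omega)

theorem PC.big (h : PC P K p) (hμ : ∀ k ∈ L P 4, ev μ k = 1) (hμ1 : μ ≠ 1) {ω : P → ℂ}
    (hω : IsIrrCharacter P ω) (ho : Over (Subgroup.inclusion (L_le P 3)) ω (lf μ))
    {ν : L P 1 →* ℂˣ} (hν : ∀ k ∈ L P 2, ev ν k = 1) (hν1 : ν ≠ 1) :
    ∃ g ∈ stab ω, g ∉ stab (lf ν : L P 1 → ℂ) := by
  by_contra hcon
  push Not at hcon
  obtain ⟨κ₁, hκ₁⟩ := h.exists_κ hμ1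
  obtain ⟨ω₁, hω₁, ho₁⟩ := exists_over_incl (L_le P 1) (isIrr_lf ν)
  have h1 := h.deg1 hν hν1 hω₁ ho₁
  rw [h.q_sq (LK_ev κ₁) (ne_one_coe hκ₁)] at h1
  have h2 : charDegree ω₁ = Nat.card (LK (L P 1) (L P 2)) := Nat.pow_left_injective two_ne_zero h1
  have h3 := h.deg3 hμ hμ1 hω ho
  rw [← h2] at h3
  have h4 : charDegree ω₁ ∣ charDegree ω := by
    rcases pow_dvd_or (h.deg_pow hω₁) (h.deg_pow hω) with h5 | h5
    · exact h5
    · exact absurd (Nat.le_of_dvd (charDegree_pos hω₁) h5) (not_le.2 h3)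
  have h5 := (anti_omega h.anti h.cyc hω₁ hω (over_nonlin le_rfl hν1 hω₁ ho₁) h4 (by
    rw [h.stab_nu (hν := hν) hν1 hω₁ ho₁]
    exact hcon)).2
  exact absurd h5 (ne_of_lt h3)

/-- **There is no level three.** -/
theorem PC.L3_bot (h : PC P K p) : L P 3 = ⊥ := by
  apply h.L_bot
  intro μ hμ
  by_contra hμ1
  haveI := finite_lin (L P 1)
  haveI := finite_lin (L P 2)
  have hLD := h.LD hμ hμ1
  -- a nontrivial character of level one
  obtain ⟨w₀, hw₀⟩ := hLD.exists_psi_ne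
  set ν : L P 1 →* ℂˣ := (psm μ hμ w₀).1 with hνdef
  have hν : ∀ k ∈ L P 2, ev ν k = 1 := LK_ev (psm μ hμ w₀)
  have hν1 : ν ≠ 1 := ne_one_coe hw₀
  have hall : ∀ a, a ∈ stab (lf ν : L P 1 → ℂ) → ∀ ν' : L P 1 →* ℂˣ,
      (∀ k ∈ L P 2, ev ν' k = 1) → cl a ν' = ν' := by
    intro a ha ν' hν'
    by_cases h1 : ν' = 1
    · rw [h1, cl_hone]
    · rw [← mem_stab_iff, h.const1 ν' ν hν' hν h1 hν1]
      exact ha
  have hnone : ∀ a, a ∉ stab (lf ν : L P 1 → ℂ) → ∀ ν' : L P 1 →* ℂˣ,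
      (∀ k ∈ L P 2, ev ν' k = 1) → cl a ν' = ν' → ν' = 1 := by
    intro a ha ν' hν' h2
    by_contra h1
    apply ha
    rw [← h.const1 ν' ν hν' hν h1 hν1]
    exact mem_stab_iff.2 h2
  have hPS : P ≤ stab (lf ν : L P 1 → ℂ) := P_le_stab hν
  obtain ⟨δ, hδ⟩ := exists_ext_L (n := 2) (by omega) hμ
  have h12 : L P 2 ≤ L P 1 := L_anti P (by omega)
  have h23 : L P 3 ≤ L P 2 := L_anti P (by omega)
  have h34 : L P 4 ≤ L P 3 := L_anti P (by omega)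
  have hA : ∀ a ∈ L P 1, cl a μ = μ := fun a ha => P_fix hμ (L_le P 1 ha)
  have hAB : ∀ a ∈ L P 1, ∀ b ∈ L P 1, ⁅a, b⁆ ∈ L P 3 := fun a ha b hb => comm_11 ha hb
  set R := rd (L P 1) (L P 1) μ hA hAB with hR
  have hBR : L P 2 ≤ R := fun b hb =>
    ⟨h12 hb, fun w hw => hμ _ (comm_swap_mem (comm_12 hw hb))⟩
  have hR1 : R ≤ L P 1 := rd_le
  have hDμ : stab (lf δ : L P 2 → ℂ) ≤ stab (lf μ : L P 3 → ℂ) := stab_ext_le (n := 2) hδ
  have hμR : stab (lf μ : L P 3 → ℂ) ≤ Subgroup.normalizer (R : Set G) := fun g hg =>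
    rd_nrm (mem_nrm _ g) (mem_nrm _ g) (mem_stab_iff.1 hg)
  have hfix1 : ∀ b ∈ L P 1, cl b δ = δ := fun b hb =>
    (TT_iff (n := 2) (hμ := hμ) hδ (L_le P 1 hb)).2 (h.L1_le_T3 hb)
  have hfixC : ∀ b ∈ CC P, cl b δ = δ := fun b hb =>
    (TT_iff (n := 2) (hμ := hμ) hδ (CC_le hb)).2 (h.C_le_T3 hb)
  -- commutators with elements of `S₁`
  have hcS : ∀ a ∈ stab (lf ν : L P 1 → ℂ), ∀ z ∈ L P 1, ⁅a, z⁆ ∈ L P 2 := by
    intro a ha z hz
    have h1 := triv_L (hall a ha) hz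
    have e : ⁅a, z⁆ = z * (z⁻¹ * (a * z * a⁻¹)) * z⁻¹ := by
      rw [commutatorElement_def]; group
    rw [e]
    exact (inferInstance : (L P 2).Normal).conj_mem _ h1 z
  -- elements `a₀` and `g₁`
  obtain ⟨a₀, ha₀P, ha₀S, ha₀δ⟩ : ∃ a, a ∉ P ∧ a ∈ stab (lf ν : L P 1 → ℂ) ∧ cl a δ = δ := by
    obtain ⟨a, haP, ha⟩ := h.exists_fix le_rfl hν1 hν
    have haS := mem_stab_iff.2 ha
    have haμ := h.S1_le hμ (hall a haS)
    obtain ⟨x, hx, hx'⟩ := h.exists_adj (n := 2) (by omega) hμ hμ1 (h.hS3 hμ hμ1) hδ haμ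
    refine ⟨a * x⁻¹, fun h1 => haP ?_, Subgroup.mul_mem _ haS (Subgroup.inv_mem _ (hPS hx)), hx'⟩
    have := P.mul_mem h1 hx
    rwa [inv_mul_cancel_right] at this
  have hnotS : ∀ {g x : G}, g ∉ stab (lf ν : L P 1 → ℂ) → x ∈ P →
      g * x ∉ stab (lf ν : L P 1 → ℂ) := by
    intro g x hg hx h1
    apply hg
    have := Subgroup.mul_mem _ h1 (Subgroup.inv_mem _ (hPS hx))
    rwa [mul_inv_cancel_right] at this
  obtain ⟨g₁, hg₁S, hg₁δ⟩ : ∃ g, g ∉ stab (lf ν : L P 1 → ℂ) ∧ cl g δ = δ := by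
    obtain ⟨ω, hω, ho⟩ := exists_over_incl (L_le P 2) (isIrr_lf δ)
    have ho' : Over (Subgroup.inclusion (L_le P 3)) ω (lf μ) :=
      over_trans h23 (L_le P 2) hω (isIrr_lf δ) (isIrr_lf μ) ho (over_of_ext h23 (isIrr_lf μ)
        fun k => congrArg Units.val (by
          have h2 := hδ k k.2
          rw [ev_of_mem δ (h23 k.2), ev_of_mem μ k.2] at h2
          exact h2))
    obtain ⟨g, hg, hgS⟩ := h.big hμ hμ1 hω ho' hν hν1
    obtain ⟨x, hx, hgx⟩ := exists_mul_stab' (L_le P 2) (le_nrm _ _) (isIrr_lf δ) hω ho hg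
      (mem_nrm _ g)
    exact ⟨g * x, hnotS hgS hx, mem_stab_iff.1 hgx⟩
  -- vanishing on `T' ∩ E`
  have keyE : ∀ z ∈ R, ∀ e ∈ TT (n := 2) μ hμ ⊓ EE P, ev δ ⁅e, z⁆ = 1 := by
    intro z hz e he
    have hTfix : ∀ a ∈ TT (n := 2) μ hμ ⊓ EE P, cl a δ = δ := fun a ha =>
      (TT_iff (n := 2) (hμ := hμ) hδ ha.1.1).2 ha.1
    have hgA : ∀ a ∈ TT (n := 2) μ hμ ⊓ EE P, a₀ * a * a₀⁻¹ ∈ TT (n := 2) μ hμ ⊓ EE P :=
      fun a ha => ⟨conj_mem_of_mem (TT_nrm (hDμ (mem_stab_iff.2 ha₀δ))) ⟨a, ha.1⟩,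
        (EE_normal).conj_mem a ha.2 a₀⟩
    have hAc : ∀ a ∈ TT (n := 2) μ hμ ⊓ EE P, ⁅a, z⁆ ∈ L P 2 := fun a ha =>
      mem_L_succ' P ha.1.1 (hR1 hz)
    refine pair_fix (A := TT (n := 2) μ hμ ⊓ EE P) (B0 := L P 1) ha₀δ hTfix hAc hgA ?_
      (le_inf h.L1_le_T3 L1_le_EE) ?_ (fun a ha => h.ontoE inf_le_right ha₀P hgA ha) e he
    · intro a ha
      have h1 := triv_L (hall a₀ ha₀S) (hR1 hz)
      have h2 : ⁅a, z⁻¹ * (a₀ * z * a₀⁻¹)⁆ ∈ L P 3 := mem_L_succ' P ha.1.1 h1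
      have e1 : a₀ * z * a₀⁻¹ = z * (z⁻¹ * (a₀ * z * a₀⁻¹)) := by group
      rw [e1, ev_comm_mul_right (hfix1 z (hR1 hz)) (hAc a ha) (h23 h2), hδ _ h2, ha.1.2 _ h1,
        mul_one]
    · intro b hb
      rw [hδ _ (comm_11 hb (hR1 hz)), ev_comm_swap μ (comm_11 (hR1 hz) hb), hz.2 b hb, inv_one]
  -- vanishing on `C`
  have keyC : ∀ c ∈ CC P, ∀ z ∈ R, ev δ ⁅z, c⁆ = 1 := by
    intro c hc z hz
    obtain ⟨d, hd, hgc⟩ := CC_conj hc g₁
    have hAc : ∀ a ∈ R, ⁅a, c⁆ ∈ L P 2 := fun a ha => h23 (h.L1_CC (hR1 ha) hc)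
    have hgA : ∀ a ∈ R, g₁ * a * g₁⁻¹ ∈ R := fun a ha =>
      conj_mem_of_mem (hμR (hDμ (mem_stab_iff.2 hg₁δ))) ⟨a, ha⟩
    refine pair_fix (A := R) (B0 := L P 2) hg₁δ (fun a ha => hfix1 a (hR1 ha)) hAc hgA ?_ hBR ?_ ?_
      z hz
    · intro a ha
      have h2 : ⁅a, d⁆ ∈ L P 3 := comm_11 (hR1 ha) hd
      rw [hgc, ev_comm_mul_right (hfixC c hc) (hAc a ha) (h23 h2), hδ _ h2, ha.2 d hd, mul_one]
    · intro b hb
      have h2 := h.L2_CC hb hc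
      rw [hδ _ (h34 h2), hμ _ h2]
    · intro a ha
      exact exists_comm_mul (B := L P 2) (M := R)
        ((Subgroup.commutator_mono hR1 hR1).trans ((comm_L P 1 1).trans h23)) hgA
        (fun m hm hc => fp_L (hnone g₁ hg₁S) (hR1 hm) hc) ha
  -- vanishing of the pairing between `D ∩ S₁` and `R`
  have key : ∀ a ∈ stab (lf δ : L P 2 → ℂ) ⊓ stab (lf ν : L P 1 → ℂ), ∀ z ∈ R,
      ev δ ⁅a, z⁆ = 1 := by
    refine h.pair_coprime (fun a ha => mem_stab_iff.1 ha.1) (fun b hb => hfix1 b (hR1 hb))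
      (hR1.trans (L_le P 1)) (fun a ha b hb => hcS a ha.2 b (hR1 hb)) ?_
    intro a ha haP z hz
    have haT : a ∈ TT (n := 2) μ hμ := (TT_iff (n := 2) hδ haP).1 (mem_stab_iff.1 ha.1)
    obtain ⟨e, he, c, hc, rfl⟩ := h.exists_EC haP
    have heT : e ∈ TT (n := 2) μ hμ := by
      have := Subgroup.mul_mem _ haT (Subgroup.inv_mem _ (h.C_le_T3 (hμ := hμ) hc))
      rwa [mul_inv_cancel_right] at this
    have m1 : ⁅c, z⁆ ∈ L P 3 := comm_swap_mem (h.L1_CC (hR1 hz) hc)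
    rw [ev_comm_mul_left ((TT_iff (n := 2) (hμ := hμ) hδ (EE_le he)).2 heT)
      (mem_L_succ' P (EE_le he) (hR1 hz)) (h23 m1), keyE z hz e ⟨heT, he⟩, one_mul,
      ev_comm_swap δ (h23 (h.L1_CC (hR1 hz) hc)), keyC c hc z hz, inv_one]
  -- the conclusion
  have hZZ : ⁅R, R⁆ ≤ L P 3 := (Subgroup.commutator_mono hR1 hR1).trans (comm_L P 1 1)
  have hfin : R ≤ L P 2 := by
    refine rad_le (Q := stab (lf δ : L P 2 → ℂ) ⊓ stab (lf ν : L P 1 → ℂ))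
      (D := stab (lf δ : L P 2 → ℂ)) hBR δ le_rfl (hDμ.trans hμR) ?_ (hZZ.trans h23) ?_ ?_ ?_ ?_
    · intro a ha b hb
      refine ⟨Subgroup.mul_mem _ (Subgroup.mul_mem _ (Subgroup.mul_mem _ ha hb)
        (Subgroup.inv_mem _ ha)) (Subgroup.inv_mem _ hb), hPS (cyc_comm h.cyc a b)⟩
    · intro z hz
      refine (ev_of_mem δ _).symm.trans ?_
      rw [hδ z (hZZ hz)]
      exact ev_comm_sub hZZ (fun a ha b hb => ha.2 b (hR1 hb)) z hz
    · intro l hl g hg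
      rw [mem_stab_ev]
      refine ⟨hμR (hDμ hg.1), fun d hd => ?_⟩
      have e : g * d * g⁻¹ = ⁅g, d⁆ * d := by rw [commutatorElement_def]; group
      have hm : ⁅g, d⁆ ∈ L P 2 := hcS g hg.2 d (hR1 hd)
      have h1 : ev l ⁅g, d⁆ = ev δ ⁅g, d⁆ := by
        rw [ev_of_mem l (hBR hm), ev_of_mem δ hm]
        exact hl ⟨_, hm⟩
      rw [e, ev_mul l (hBR hm) hd, h1, key g hg d hd, one_mul]
    · intro l hl
      have hRP : R ≤ P := hR1.trans (L_le P 1)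
      have hl' : ∀ b ∈ L P 2, ev l b = ev δ b := by
        intro b hb
        rw [ev_of_mem l (hBR hb), ev_of_mem δ hb]
        exact hl ⟨b, hb⟩
      obtain ⟨ω, hω, ho⟩ := exists_over_incl hRP (isIrr_lf l)
      have h3R : L P 3 ≤ R := h23.trans hBR
      have ho' : Over (Subgroup.inclusion (L_le P 3)) ω (lf μ) :=
        over_trans h3R hRP hω (isIrr_lf l) (isIrr_lf μ) ho (over_of_ext h3R (isIrr_lf μ)
          fun k => congrArg Units.val (by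
            have h2 := hδ k k.2
            rw [← hl' _ (h23 k.2), ev_of_mem l (h3R k.2), ev_of_mem μ k.2] at h2
            exact h2))
      obtain ⟨g, hg, hgS⟩ := h.big hμ hμ1 hω ho' hν hν1
      have hgμ := stab_le_nu hμ hω ho' hg
      obtain ⟨x, hx, hgx⟩ := exists_mul_stab' hRP ((P_le_stab hμ).trans hμR) (isIrr_lf l) hω ho
        hg (hμR hgμ)
      refine ⟨g * x, ?_, fun h1 => hnotS hgS hx h1.2, hgx⟩
      rw [mem_stab_iff]
      apply ev_ext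
      intro d hd
      have h2 := (mem_stab_ev.1 hgx).2 d (hBR hd)
      have hd' := (inferInstance : (L P 2).Normal).conj_mem d hd (g * x)
      rw [ev_cl _ δ hd, ← hl' _ hd', ← hl' _ hd]
      exact h2
    · intro g hg hgQ z hz hc
      exact fp_L (hnone g fun h1 => hgQ ⟨hg, h1⟩) (hR1 hz) hc
  obtain ⟨w, hw, hw'⟩ := hLD.exists_psi_eq
  apply hw'
  rw [Subgroup.mem_subgroupOf]
  refine hfin ⟨w.2, fun z hz => ?_⟩
  rw [← psm_apply (hμ := hμ) w hz, hw]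
  exact ev_hone z

end lev3

end Cfsg.Agent.H675.Nd
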