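import Mathlib
import Cfsg.Agent.H675.Nd.PG2

/-!
# The Sylow subgroup: the second term of the lower central series
-/

set_option autoImplicit false
set_option linter.style.haveILetI false
set_option linter.unusedSectionVars false
open Cfsg

namespace Cfsg.Agent.H675.Nd

open Cfsg.Agent.Characters.Core Cfsg.Agent.Characters.Clifford Cfsg.Agent.H672 Cfsg.Agent.H672.RM
open Cfsg.Agent.H597.FrobA
open scoped commutatorElement

universe u v w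

section rd

variable {G : Type u} [Group G] {D : Subgroup G} [hD : D.Normal]

/-- The annihilator in `A` of `B` for the pairing given by `δ`. -/
def rd (A B : Subgroup G) (δ : D →* ℂˣ) (hA : ∀ a ∈ A, cl a δ = δ)
    (hAB : ∀ a ∈ A, ∀ b ∈ B, ⁅a, b⁆ ∈ D) : Subgroup G where
  carrier := {a | a ∈ A ∧ ∀ b ∈ B, ev δ ⁅a, b⁆ = 1}
  one_mem' := ⟨A.one_mem, fun b _ => by rw [commutatorElement_one_left, ev_one]⟩
  mul_mem' := fun {a a'} ha ha' => by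
    refine ⟨A.mul_mem ha.1 ha'.1, fun b hb => ?_⟩
    rw [ev_comm_mul_left (hA a ha.1) (hAB a ha.1 b hb) (hAB a' ha'.1 b hb), ha.2 b hb, ha'.2 b hb,
      one_mul]
  inv_mem' := fun {a} ha => by
    refine ⟨A.inv_mem ha.1, fun b hb => ?_⟩
    have h1 : ev δ ⁅a * a⁻¹, b⁆ = 1 := by
      rw [mul_inv_cancel, commutatorElement_one_left, ev_one]
    rw [ev_comm_mul_left (hA a ha.1) (hAB a ha.1 b hb) (hAB _ (A.inv_mem ha.1) b hb), ha.2 b hb,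
      one_mul] at h1
    exact h1

variable {A B : Subgroup G} {δ : D →* ℂˣ} {hA : ∀ a ∈ A, cl a δ = δ}
  {hAB : ∀ a ∈ A, ∀ b ∈ B, ⁅a, b⁆ ∈ D}

theorem mem_rd {a : G} : a ∈ rd A B δ hA hAB ↔ a ∈ A ∧ ∀ b ∈ B, ev δ ⁅a, b⁆ = 1 := Iff.rfl

theorem rd_le : rd A B δ hA hAB ≤ A := fun _ h => h.1

theorem rd_relIndex (hB : ∀ b ∈ B, cl b δ = δ) :
    (rd A B δ hA hAB).relIndex A = (cpair A B δ hAB hA hB).ker.index := by
  have e : (cpair A B δ hAB hA hB).ker = (rd A B δ hA hAB).subgroupOf A := by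
    ext a
    rw [MonoidHom.mem_ker, Subgroup.mem_subgroupOf, mem_rd]
    constructor
    · intro h
      exact ⟨a.2, fun b hb => DFunLike.congr_fun h ⟨b, hb⟩⟩
    · intro h
      apply MonoidHom.ext
      intro b
      exact h.2 b b.2
  rw [e]
  rfl

theorem rd_dual [Finite G] (hB : ∀ b ∈ B, cl b δ = δ) (hBA : ∀ b ∈ B, ∀ a ∈ A, ⁅b, a⁆ ∈ D) :
    (rd A B δ hA hAB).relIndex A = (rd B A δ hB hBA).relIndex B := by
  rw [rd_relIndex hB, rd_relIndex hA, card_pair]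
  congr 1
  ext b
  rw [MonoidHom.mem_ker, MonoidHom.mem_ker]
  constructor
  · intro h
    apply MonoidHom.ext
    intro a
    have h1 : ev δ ⁅(a : G), (b : G)⁆ = 1 := DFunLike.congr_fun h a
    change ev δ ⁅(b : G), (a : G)⁆ = 1
    rw [ev_comm_swap δ (hAB a a.2 b b.2), h1, inv_one]
  · intro h
    apply MonoidHom.ext
    intro a
    have h1 : ev δ ⁅(b : G), (a : G)⁆ = 1 := DFunLike.congr_fun h a
    change ev δ ⁅(a : G), (b : G)⁆ = 1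
    rw [ev_comm_swap δ (hBA b b.2 a a.2), h1, inv_one]

theorem mem_nrm_of {S : Subgroup G} {g : G} (h1 : ∀ x ∈ S, g * x * g⁻¹ ∈ S)
    (h2 : ∀ x ∈ S, g⁻¹ * x * g ∈ S) : g ∈ Subgroup.normalizer (S : Set G) := by
  rw [Subgroup.mem_normalizer_iff]
  intro x
  refine ⟨h1 x, fun h => ?_⟩
  have := h2 _ h
  have e : g⁻¹ * (g * x * g⁻¹) * g = x := by group
  rwa [e] at this

theorem cl_inv_fix {g : G} (h : cl g δ = δ) : cl g⁻¹ δ = δ := fix_inv_iff.2 h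

theorem rd_conj {g : G} (hgA : g ∈ Subgroup.normalizer (A : Set G))
    (hgB : g ∈ Subgroup.normalizer (B : Set G)) (hg : cl g δ = δ) :
    ∀ x ∈ rd A B δ hA hAB, g * x * g⁻¹ ∈ rd A B δ hA hAB := by
  intro x hx
  refine ⟨conj_mem_of_mem hgA ⟨x, hx.1⟩, fun b hb => ?_⟩
  have h1 : g⁻¹ * b * g⁻¹⁻¹ ∈ B := conj_mem_of_mem (Subgroup.inv_mem _ hgB) ⟨b, hb⟩
  rw [inv_inv] at h1
  have e : b = g * (g⁻¹ * b * g) * g⁻¹ := by group
  rw [e, ev_comm_conj hg (hAB x hx.1 _ h1), hx.2 _ h1]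

theorem rd_nrm {g : G} (hgA : g ∈ Subgroup.normalizer (A : Set G))
    (hgB : g ∈ Subgroup.normalizer (B : Set G)) (hg : cl g δ = δ) :
    g ∈ Subgroup.normalizer ((rd A B δ hA hAB : Subgroup G) : Set G) := by
  refine mem_nrm_of (rd_conj hgA hgB hg) ?_
  have h1 := rd_conj (hA := hA) (hAB := hAB) (Subgroup.inv_mem _ hgA) (Subgroup.inv_mem _ hgB)
    (cl_inv_fix hg)
  intro x hx
  have := h1 x hx
  rwa [inv_inv] at this

theorem mem_nrm_inf {S T : Subgroup G} {g : G} (h1 : g ∈ Subgroup.normalizer (S : Set G))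
    (h2 : g ∈ Subgroup.normalizer (T : Set G)) :
    g ∈ Subgroup.normalizer ((S ⊓ T : Subgroup G) : Set G) := by
  rw [Subgroup.mem_normalizer_iff] at h1 h2 ⊢
  intro x
  rw [Subgroup.mem_inf, Subgroup.mem_inf, ← h1 x, ← h2 x]

theorem ev_comm_sub {S T D : Subgroup G} {δ : D →* ℂˣ} (hST : ⁅S, T⁆ ≤ D)
    (h : ∀ a ∈ S, ∀ b ∈ T, ev δ ⁅a, b⁆ = 1) : ∀ z ∈ ⁅S, T⁆, ev δ z = 1 := by
  have h2 : ⁅S, T⁆ ≤ (δ.ker).map D.subtype := by
    rw [Subgroup.commutator_le]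
    intro a ha b hb
    have hm : ⁅a, b⁆ ∈ D := hST (Subgroup.commutator_mem_commutator ha hb)
    refine ⟨⟨⁅a, b⁆, hm⟩, ?_, rfl⟩
    rw [SetLike.mem_coe, MonoidHom.mem_ker, ← ev_of_mem δ hm]
    exact h a ha b hb
  intro z hz
  obtain ⟨y, hy, rfl⟩ := h2 hz
  rw [SetLike.mem_coe, MonoidHom.mem_ker] at hy
  rw [← hy]
  exact ev_of_mem δ y.2

end rd

section lev2

variable {G : Type u} [Group G] [Finite G] {P K : Subgroup G} [hP : P.Normal] [hK : K.Normal]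
  {p : ℕ} {ν : L P 1 →* ℂˣ}

/-- The radical of the form on `P` given by `ν ∈ Lin(γ₂/γ₃)`. -/
def Zn (ν : L P 1 →* ℂˣ) (hν : ∀ k ∈ L P 2, ev ν k = 1) : Subgroup G :=
  rd P P ν (fun _ ha => P_fix hν ha) (fun _ ha _ hb => mem_L_one P ha hb)

theorem mem_Zn {hν : ∀ k ∈ L P 2, ev ν k = 1} {x : G} :
    x ∈ Zn ν hν ↔ x ∈ P ∧ ∀ y ∈ P, ev ν ⁅x, y⁆ = 1 := Iff.rfl

theorem Zn_le {hν : ∀ k ∈ L P 2, ev ν k = 1} : Zn ν hν ≤ P := fun _ h => h.1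

theorem L1_le_Zn {hν : ∀ k ∈ L P 2, ev ν k = 1} : L P 1 ≤ Zn ν hν := fun _ hx =>
  ⟨L_le P 1 hx, fun _ hy => hν _ (mem_L_succ P hx hy)⟩

theorem Zn_nrm {hν : ∀ k ∈ L P 2, ev ν k = 1} :
    stab (lf ν : L P 1 → ℂ) ≤ Subgroup.normalizer (Zn ν hν : Set G) := fun g hg =>
  rd_nrm (mem_nrm P g) (mem_nrm P g) (mem_stab_iff.1 hg)

theorem Zn_st {hν : ∀ k ∈ L P 2, ev ν k = 1} {l : Zn ν hν →* ℂˣ}
    (hl : ∀ b ∈ L P 1, ev l b = ev ν b) : P ≤ stab (lf l : Zn ν hν → ℂ) := by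
  intro x hx
  rw [mem_stab_ev]
  refine ⟨Zn_nrm (P_le_stab hν hx), fun d hd => ?_⟩
  have e : x * d * x⁻¹ = ⁅x, d⁆ * d := by rw [commutatorElement_def]; group
  have hm : ⁅x, d⁆ ∈ L P 1 := mem_L_one P hx hd.1
  rw [e, ev_mul l (L1_le_Zn hm) hd, hl _ hm, ev_comm_swap ν (comm_swap_mem hm), hd.2 x hx, inv_one,
    one_mul]

theorem Zn_FR {hν : ∀ k ∈ L P 2, ev ν k = 1} {l : Zn ν hν →* ℂˣ}
    (hl : ∀ b ∈ L P 1, ev l b = ev ν b) : FR (Zn ν hν) P l := by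
  refine ⟨Zn_le, Zn_st hl, fun x hx hxZ => ?_⟩
  by_contra hcon
  push Not at hcon
  apply hxZ
  refine ⟨hx, fun y hy => ?_⟩
  have hm : ⁅y, x⁆ ∈ L P 1 := mem_L_one P hy hx
  rw [ev_comm_swap ν hm, ← hl _ hm, hcon y hy (L1_le_Zn hm), inv_one]

theorem Zn_ZZ {hν : ∀ k ∈ L P 2, ev ν k = 1} : ∀ z ∈ ⁅Zn ν hν, Zn ν hν⁆, ev ν z = 1 :=
  ev_comm_sub (Subgroup.commutator_mono Zn_le Zn_le) fun _ ha _ hb => ha.2 _ hb.1

/-- A linear character of `Z_ν` below `ω`. -/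
theorem exists_lam {hν : ∀ k ∈ L P 2, ev ν k = 1} {ω : P → ℂ} (hω : IsIrrCharacter P ω)
    (ho : Over (Subgroup.inclusion (L_le P 1)) ω (lf ν)) :
    ∃ l : Zn ν hν →* ℂˣ, Over (Subgroup.inclusion Zn_le) ω (lf l) ∧
      ∀ b ∈ L P 1, ev l b = ev ν b :=
  exists_lin_under L1_le_Zn Zn_le (P_le_stab hν) (Subgroup.commutator_mono Zn_le Zn_le)
    Zn_ZZ hω ho

theorem deg_nu {hν : ∀ k ∈ L P 2, ev ν k = 1} {ω : P → ℂ} (hω : IsIrrCharacter P ω)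
    (ho : Over (Subgroup.inclusion (L_le P 1)) ω (lf ν)) :
    (charDegree ω) ^ 2 = (Zn ν hν).relIndex P := by
  obtain ⟨l, hl, hl'⟩ := exists_lam (hν := hν) hω ho
  exact (Zn_FR hl').deg hω hl

theorem PS.Zn_inf (h : PS P K p) {hν : ∀ k ∈ L P 2, ev ν k = 1} (hν1 : ν ≠ 1) :
    Zn ν hν ⊓ EE P ≤ L P 1 := by
  have hZP : Zn ν hν ⊓ EE P ≤ P := inf_le_left.trans Zn_le
  have hBZ : L P 1 ≤ Zn ν hν ⊓ EE P := le_inf L1_le_Zn L1_le_EE
  have hnrm : stab (lf ν : L P 1 → ℂ) ≤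
      Subgroup.normalizer ((Zn ν hν ⊓ EE P : Subgroup G) : Set G) := fun g hg =>
    mem_nrm_inf (Zn_nrm hg) (mem_nrm _ g)
  have hst : ∀ l : (Zn ν hν ⊓ EE P : Subgroup G) →* ℂˣ,
      (∀ b : L P 1, l (Subgroup.inclusion hBZ b) = ν b) →
      P ≤ stab (lf l : (Zn ν hν ⊓ EE P : Subgroup G) → ℂ) := by
    intro l hl x hx
    rw [mem_stab_ev]
    refine ⟨hnrm (P_le_stab hν hx), fun d hd => ?_⟩
    have e : x * d * x⁻¹ = ⁅x, d⁆ * d := by rw [commutatorElement_def]; group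
    have hm : ⁅x, d⁆ ∈ L P 1 := mem_L_one P hx hd.1.1
    have h1 : ev l ⁅x, d⁆ = ev ν ⁅x, d⁆ := by
      rw [ev_of_mem l (hBZ hm), ev_of_mem ν hm]
      exact hl ⟨_, hm⟩
    rw [e, ev_mul l (hBZ hm) hd, h1, ev_comm_swap ν (comm_swap_mem hm), hd.1.2 x hx, inv_one,
      one_mul]
  refine rad_le (Q := P) (D := stab (lf ν : L P 1 → ℂ)) hBZ ν le_rfl hnrm
    (fun a _ b _ => cyc_comm h.cyc a b) (Subgroup.commutator_mono hZP hZP) ?_
    (fun l hl g hg => hst l hl hg) ?_ ?_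
  · intro z hz
    exact (ev_of_mem ν _).symm.trans
      (Zn_ZZ (hν := hν) z (Subgroup.commutator_mono inf_le_left inf_le_left hz))
  · intro l hl
    obtain ⟨ω, hω, ho⟩ := exists_over_incl hZP (isIrr_lf l)
    have ho' : Over (Subgroup.inclusion (L_le P 1)) ω (lf ν) :=
      over_trans hBZ hZP hω (isIrr_lf l) (isIrr_lf ν) ho (over_of_ext hBZ (isIrr_lf ν)
        fun k => congrArg Units.val (hl k))
    obtain ⟨g, hg, hgP⟩ := h.out le_rfl hν1 hω ho'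
    have hgν := stab_le_nu hν hω ho' hg
    exact ⟨g, hgν, hgP, stab_of_inv hZP (hst l hl) (isIrr_lf l) hω ho hg (hnrm hgν)⟩
  · intro g _ hgP z hz hc
    exact h.fpE hz.2 hgP (by rw [commutatorElement_def]; exact hc)

theorem PS.Zn_le_CC (h : PS P K p) {hν : ∀ k ∈ L P 2, ev ν k = 1} (hν1 : ν ≠ 1) :
    Zn ν hν ≤ CC P := by
  obtain ⟨g, hgP, hg⟩ := h.exists_fix le_rfl hν1 hν
  intro z hz
  have h1 : g * z⁻¹ * g⁻¹ ∈ Zn ν hν :=
    conj_mem_of_mem (Zn_nrm (mem_stab_iff.2 hg)) ⟨z⁻¹, Subgroup.inv_mem _ hz⟩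
  have h2 : ⁅z, g⁆ ∈ Zn ν hν := by
    have e : ⁅z, g⁆ = z * (g * z⁻¹ * g⁻¹) := by rw [commutatorElement_def]; group
    rw [e]
    exact Subgroup.mul_mem _ hz h1
  exact mem_CC.2 ⟨hz.1, h.zl le_rfl (L_le P 1) hz.1 hgP (h.Zn_inf hν1 ⟨h2, mem_EE hz.1⟩)⟩

/-- `ν([E, C]) = 1`. -/
theorem PS.ev_EC (h : PS P K p) (hν : ∀ k ∈ L P 2, ev ν k = 1) {e c : G} (he : e ∈ EE P)
    (hc : c ∈ CC P) : ev ν ⁅e, c⁆ = 1 := by
  by_cases hν1 : ν = 1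
  · rw [hν1, ev_hone]
  obtain ⟨g, hgP, hg⟩ := h.exists_fix le_rfl hν1 hν
  obtain ⟨d, hd, hgc⟩ := CC_conj hc g
  refine pair_fix (A := EE P) (B0 := L P 1) hg (fun a ha => P_fix hν (EE_le ha))
    (fun a ha => mem_L_one P (EE_le ha) (CC_le hc)) (fun a ha => (EE_normal).conj_mem a ha g) ?_
    L1_le_EE (fun b hb => hν _ (mem_L_succ P hb (CC_le hc)))
    (fun a ha => h.ontoE le_rfl hgP (fun m hm => (EE_normal).conj_mem m hm g) ha) e he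
  intro a ha
  have h1 := mem_L_succ' P (EE_le ha) hd
  rw [hgc, ev_comm_mul_right (P_fix hν (CC_le hc)) (mem_L_one P (EE_le ha) (CC_le hc))
    (L_anti P (Nat.le_succ 1) h1), hν _ h1, mul_one]

theorem PS.stab_nu (h : PS P K p) {hν : ∀ k ∈ L P 2, ev ν k = 1} (hν1 : ν ≠ 1) {ω : P → ℂ}
    (hω : IsIrrCharacter P ω) (ho : Over (Subgroup.inclusion (L_le P 1)) ω (lf ν)) :
    stab ω = stab (lf ν : L P 1 → ℂ) := by
  refine le_antisymm (stab_le_nu hν hω ho) ?_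
  obtain ⟨l, hl, hl'⟩ := exists_lam (hν := hν) hω ho
  intro g hg
  refine (Zn_FR hl').stab hω hl ?_ (mem_nrm P g)
  have hm : ∀ a ∈ stab (lf ν : L P 1 → ℂ), ∀ b ∈ Zn ν hν, ⁅a, b⁆ ∈ L P 1 := fun a _ b hb =>
    CC_comm' (h.Zn_le_CC hν1 hb) a
  have key := h.pair_coprime (δ := ν) (A := stab (lf ν : L P 1 → ℂ)) (B := Zn ν hν)
    (fun a ha => mem_stab_iff.1 ha) (fun b hb => P_fix hν hb.1) Zn_le hm (fun a _ haP b hb => by
      rw [ev_comm_swap ν (mem_L_one P hb.1 haP), hb.2 a haP, inv_one])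
  rw [mem_stab_ev]
  refine ⟨Zn_nrm hg, fun d hd => ?_⟩
  have e : g * d * g⁻¹ = ⁅g, d⁆ * d := by rw [commutatorElement_def]; group
  rw [e, ev_mul l (L1_le_Zn (hm g hg d hd)) hd, hl' _ (hm g hg d hd), key g hg d hd, one_mul]

end lev2

end Cfsg.Agent.H675.Nd
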