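import Mathlib
import Cfsg.Agent.H675.Nd.PH1

/-!
# Case I for the group; Case II: characters of the Sylow subgroup
-/

set_option autoImplicit false
set_option linter.style.haveILetI false
set_option linter.unusedSectionVars false
open Cfsg

namespace Cfsg.Agent.H675.Nd

open Cfsg.Agent.Characters.Core Cfsg.Agent.Characters.Clifford Cfsg.Agent.H672 Cfsg.Agent.H672.RM
open Cfsg.Agent.H597.FrobA
open scoped commutatorElement

universe u v w

section plev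

variable {G : Type u} [Group G] [Finite G] {P K : Subgroup G} [hP : P.Normal] [hK : K.Normal]
  {p : ℕ}

/-- In Case II a nonlinear character has level one or two. -/
theorem PC.cases (h : PC P K p) {ω : P → ℂ} (hω : IsIrrCharacter P ω) (h1 : charDegree ω ≠ 1) :
    (∃ ν : L P 1 →* ℂˣ, ν ≠ 1 ∧ (∀ k ∈ L P 2, ev ν k = 1) ∧
      Over (Subgroup.inclusion (L_le P 1)) ω (lf ν)) ∨
    (∃ μ : L P 2 →* ℂˣ, μ ≠ 1 ∧ (∀ k ∈ L P 3, ev μ k = 1) ∧
      Over (Subgroup.inclusion (L_le P 2)) ω (lf μ)) := by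
  obtain ⟨n, hn, ν, hν1, hν, ho⟩ := h.exists_level hω h1
  rcases Nat.lt_or_ge n 3 with h3 | h3
  · obtain rfl | rfl : n = 1 ∨ n = 2 := by omega
    · exact Or.inl ⟨ν, hν1, hν, ho⟩
    · exact Or.inr ⟨ν, hν1, hν, ho⟩
  · exfalso
    apply hν1
    apply ev_ext
    intro d hd
    have h2 : d ∈ L P 3 := L_anti P h3 hd
    rw [h.L3_bot, Subgroup.mem_bot] at h2
    rw [h2, ev_one, ev_one]

/-- In Case II there are at most two values of `|G : stab ω| ω(1)`. -/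
theorem PC.two (h : PC P K p) : ∃ d₁ d₂ : ℕ, ∀ ω : P → ℂ, IsIrrCharacter P ω →
    charDegree ω ≠ 1 → (stab ω).index * charDegree ω = d₁ ∨
      (stab ω).index * charDegree ω = d₂ := by
  classical
  have hd1 : ∃ d₁ : ℕ, ∀ ω : P → ℂ, IsIrrCharacter P ω → ∀ ν : L P 1 →* ℂˣ, ν ≠ 1 →
      (∀ k ∈ L P 2, ev ν k = 1) → Over (Subgroup.inclusion (L_le P 1)) ω (lf ν) →
      (stab ω).index * charDegree ω = d₁ := by
    by_cases hex : ∃ ω₀ : P → ℂ, IsIrrCharacter P ω₀ ∧ ∃ ν₀ : L P 1 →* ℂˣ, ν₀ ≠ 1 ∧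
      (∀ k ∈ L P 2, ev ν₀ k = 1) ∧ Over (Subgroup.inclusion (L_le P 1)) ω₀ (lf ν₀)
    · obtain ⟨ω₀, hω₀, ν₀, hν₀1, hν₀, ho₀⟩ := hex
      refine ⟨(stab ω₀).index * charDegree ω₀, fun ω hω ν hν1 hν ho => ?_⟩
      have e := h.deg1 hν hν1 hω ho
      rw [← h.deg1 hν₀ hν₀1 hω₀ ho₀] at e
      rw [Nat.pow_left_injective two_ne_zero e, h.stab_nu (hν := hν) hν1 hω ho,
        h.stab_nu (hν := hν₀) hν₀1 hω₀ ho₀, h.const1 ν ν₀ hν hν₀ hν1 hν₀1]
    · push Not at hex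
      exact ⟨0, fun ω hω ν hν1 hν ho => absurd ho (hex ω hω ν hν1 hν)⟩
  have hd2 : ∃ d₂ : ℕ, ∀ ω : P → ℂ, IsIrrCharacter P ω → ∀ ν : L P 2 →* ℂˣ, ν ≠ 1 →
      (∀ k ∈ L P 3, ev ν k = 1) → Over (Subgroup.inclusion (L_le P 2)) ω (lf ν) →
      (stab ω).index * charDegree ω = d₂ := by
    by_cases hex : ∃ ω₀ : P → ℂ, IsIrrCharacter P ω₀ ∧ ∃ ν₀ : L P 2 →* ℂˣ, ν₀ ≠ 1 ∧
      (∀ k ∈ L P 3, ev ν₀ k = 1) ∧ Over (Subgroup.inclusion (L_le P 2)) ω₀ (lf ν₀)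
    · obtain ⟨ω₀, hω₀, ν₀, hν₀1, hν₀, ho₀⟩ := hex
      refine ⟨(stab ω₀).index * charDegree ω₀, fun ω hω ν hν1 hν ho => ?_⟩
      have e := h.deg2 hν hν1 hω ho
      rw [← h.deg2 hν₀ hν₀1 hω₀ ho₀] at e
      rw [Nat.pow_left_injective two_ne_zero e, h.stab2 hν hν1 hω ho,
        h.stab2 hν₀ hν₀1 hω₀ ho₀, h.const2 ν ν₀ hν hν₀ hν1 hν₀1]
    · push Not at hex
      exact ⟨0, fun ω hω ν hν1 hν ho => absurd ho (hex ω hω ν hν1 hν)⟩
  obtain ⟨d₁, hd1⟩ := hd1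
  obtain ⟨d₂, hd2⟩ := hd2
  refine ⟨d₁, d₂, fun ω hω h1 => ?_⟩
  rcases h.cases hω h1 with ⟨ν, hν1, hν, ho⟩ | ⟨ν, hν1, hν, ho⟩
  · exact Or.inl (hd1 ω hω ν hν1 hν ho)
  · exact Or.inr (hd2 ω hω ν hν1 hν ho)

theorem PS.one_lt_C (h : PS P K p) : 1 < (CC P).relIndex P := by
  have h2 : (CC P).relIndex P ≠ 1 := by
    intro e
    rw [Subgroup.relIndex_eq_one] at e
    exact h.CC_ne (le_antisymm CC_le e)
  have h3 : 0 < (CC P).relIndex P := index_pos _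
  omega

theorem PC.lt1 (h : PC P K p) {ν : L P 1 →* ℂˣ} (hν : ∀ k ∈ L P 2, ev ν k = 1) (hν1 : ν ≠ 1)
    {ω : P → ℂ} (hω : IsIrrCharacter P ω)
    (ho : Over (Subgroup.inclusion (L_le P 1)) ω (lf ν)) : charDegree ω < (CC P).relIndex P := by
  have h1 := h.deg1 hν hν1 hω ho
  have h2 := h.one_lt_C
  rw [← h1] at h2 ⊢
  have h3 : 1 < charDegree ω := by
    by_contra hcon
    have h4 : charDegree ω ≤ 1 := by omega
    have h5 : charDegree ω ^ 2 ≤ 1 ^ 2 := Nat.pow_le_pow_left h4 2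
    omega
  nlinarith

theorem PC.lt2 (h : PC P K p) {μ : L P 2 →* ℂˣ} (hμ : ∀ k ∈ L P 3, ev μ k = 1) (hμ1 : μ ≠ 1)
    {ω : P → ℂ} (hω : IsIrrCharacter P ω)
    (ho : Over (Subgroup.inclusion (L_le P 2)) ω (lf μ)) : charDegree ω < (CC P).relIndex P := by
  have h1 := h.deg2 hμ hμ1 hω ho
  have h2 := h.one_lt_C
  rw [h.q_sq hμ hμ1] at h1 h2 ⊢
  set q := Nat.card (LK (L P 1) (L P 2))
  have h3 : 1 < q := by
    by_contra hcon
    have h4 : q ≤ 1 := by omega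
    have h5 : q ^ 2 ≤ 1 ^ 2 := Nat.pow_le_pow_left h4 2
    omega
  by_contra hcon
  have h4 : q ^ 2 ≤ charDegree ω := not_lt.1 hcon
  have h5 : (q ^ 2) ^ 2 ≤ charDegree ω ^ 2 := Nat.pow_le_pow_left h4 2
  rw [h1] at h5
  have h6 : 0 < q ^ 3 := pow_pos (by omega) 3
  have e1 : (q ^ 2) ^ 2 = q * q ^ 3 := by ring
  have e2 : q * q ^ 2 = 1 * q ^ 3 := by ring
  rw [e1, e2] at h5
  have h7 := Nat.le_of_mul_le_mul_right h5 h6
  omega

/-- Commuting elements of `E`. -/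
theorem PS.E_not_comm (h : PS P K p) (hne : L P 1 ≠ ⊥)
    (hE : ∀ e ∈ EE P, ∀ e' ∈ EE P, e * e' = e' * e) : False := by
  apply hne
  apply h.L_bot
  intro ν hν
  by_contra hν1
  obtain ⟨e, he, he'⟩ := h.E_ne
  apply he'
  refine h.Zn_inf (hν := hν) hν1 ⟨⟨EE_le he, fun y hy => ?_⟩, he⟩
  obtain ⟨e', he', c, hc, rfl⟩ := h.exists_EC hy
  rw [ev_comm_mul_right (P_fix hν (EE_le he')) (mem_L_one P (EE_le he) (EE_le he'))
    (mem_L_one P (EE_le he) (CC_le hc)), h.ev_EC hν he hc, mul_one,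
    commutatorElement_eq_one_iff_mul_comm.2 (hE e he e' he'), ev_one]

/-- A cyclic last term, `p = 2`: an invariant character. -/
theorem PS.inv_of_cyc (h : PS P K 2) {n : ℕ} (hbot : L P n ≠ ⊥) {z : G} (hz : z ∈ L P n)
    (hgen : ∀ d ∈ L P n, ∃ k : ℤ, d = z ^ k) :
    ∃ ν : L P n →* ℂˣ, ν ≠ 1 ∧ (∀ k ∈ L P (n + 1), ev ν k = 1) ∧ ∀ g, cl g ν = ν := by
  have hle : L P (n + 1) ≤ L P n := L_anti P (Nat.le_succ n)
  have hex : ∃ ν : LK (L P n) (L P (n + 1)), ν ≠ 1 := by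
    by_contra hcon
    push Not at hcon
    exact hbot (h.L_bot fun ν hν => congrArg Subtype.val (hcon ⟨ν, (mem_LK_ev hle).2 hν⟩))
  obtain ⟨ν, hν1, hν2⟩ := h.exists_p hex
  have hz2 : ∀ (l : L P n →* ℂˣ), (∀ d ∈ L P n, ev l d * ev l d = 1) → l ≠ 1 → ev l z = -1 := by
    intro l hl hl1
    have h1 : ev l z ≠ 1 := by
      intro h2
      apply hl1
      apply ev_ext
      intro d hd
      obtain ⟨k, rfl⟩ := hgen d hd
      rw [ev_hone, ev_of_mem l hd]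
      rw [ev_of_mem l hz] at h2
      have e : (⟨z ^ k, hd⟩ : L P n) = ⟨z, hz⟩ ^ k := rfl
      rw [e, map_zpow, h2, one_zpow]
    have h3 := hl z hz
    have h4 : ((ev l z : ℂˣ) : ℂ) * (ev l z : ℂˣ) = 1 := by
      rw [← Units.val_mul, h3, Units.val_one]
    rcases mul_self_eq_one_iff.1 h4 with h5 | h5
    · exact absurd (Units.ext h5) h1
    · exact Units.ext h5
  have hν' : ν.1 ≠ 1 := ne_one_coe hν1
  have hsq : ∀ d ∈ L P n, ev ν.1 d * ev ν.1 d = 1 := by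
    intro d _
    have h1 : ν * ν = 1 := by rw [← pow_two]; exact hν2
    have h2 := congrArg (fun l : LK (L P n) (L P (n + 1)) => ev l.1 d) h1
    change ev (ν.1 * ν.1) d = ev 1 d at h2
    rw [ev_hmul, ev_hone] at h2
    exact h2
  refine ⟨ν.1, hν', LK_ev ν, fun g => ?_⟩
  have hg1 : cl g ν.1 ≠ 1 := by
    intro e
    apply hν'
    have h1 := congrArg (cl g⁻¹) e
    rwa [← cl_mul, mul_inv_cancel, cl_one, cl_hone] at h1
  have h3 := hz2 _ hsq hν'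
  have h4 := hz2 (cl g ν.1) (fun d hd => by
    rw [ev_cl g ν.1 hd]
    exact hsq _ ((inferInstance : (L P n).Normal).conj_mem d hd g)) hg1
  apply ev_ext
  intro d hd
  obtain ⟨k, rfl⟩ := hgen d hd
  rw [ev_of_mem _ hz] at h3 h4
  have e : (⟨z ^ k, hd⟩ : L P n) = ⟨z, hz⟩ ^ k := rfl
  rw [ev_of_mem _ hd, ev_of_mem _ hd, e, map_zpow, map_zpow, h3, h4]

end plev

section glev

variable {G : Type u} [Group G] [Finite G] {N K H : Subgroup G} [hN : N.Normal] [hK : K.Normal]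
  [hH : H.Normal] {p : ℕ}

/-- **Case I for `G`**: one degree divisible by `p`. -/
theorem G_caseI (ha : Anti G) (hp : p.Prime) (hF : FrobQ K N p) (hHK : H ≤ K)
    (hcop : (Nat.card H).Coprime p) (hidx : ∃ k, H.relIndex N = p ^ k)
    {ν₁ : L (N.map (QuotientGroup.mk' H)) 1 →* ℂˣ}
    (hν₁ : ∀ k ∈ L (N.map (QuotientGroup.mk' H)) 2, ev ν₁ k = 1)
    (hne : ν₁ ≠ 1) (hinv : ∀ g, cl g ν₁ = ν₁) :
    ∃ m, ∀ χ : G → ℂ, IsIrrCharacter G χ → p ∣ charDegree χ → charDegree χ = m := by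
  have hHN : H ≤ N := hHK.trans hF.lt.le
  have hc := cyc_of_frobQ hF
  have hPS := PS_quot ha hp hF hHK hidx
  obtain ⟨hst, heq⟩ := hPS.caseI hν₁ hne hinv
  obtain ⟨ω₀, hω₀, ho₀⟩ := exists_over_incl (L_le (N.map (QuotientGroup.mk' H)) 1) (isIrr_lf ν₁)
  have hω₀1 : charDegree ω₀ ≠ 1 := over_nonlin le_rfl hne hω₀ ho₀
  obtain ⟨χ₀, hχ₀, hd₀⟩ := exists_deg_quot ha hc hω₀ hω₀1
  rw [hst ω₀ hω₀ hω₀1, Subgroup.index_top, one_mul] at hd₀
  refine ⟨charDegree ω₀, fun χ hχ hd => ?_⟩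
  obtain ⟨θ, hθ, ho⟩ := exists_under (f := H.subtype) hχ
  by_cases hNθ : N ≤ stab θ
  · obtain ⟨ω, hω, hω1, e⟩ := caseA ha hp hF hHN hcop hidx hχ hd hθ ho hNθ
    rw [e, hst ω hω hω1, Subgroup.index_top, one_mul]
    exact heq ω ω₀ hω hω₀ hω1 hω₀1
  · obtain ⟨k, hk⟩ := hidx
    obtain ⟨-, hab, -, hdeg⟩ := inertia_of_not ha hc hHN (by rw [hk]; exact hcop.pow_right k)
      (exists_index_degree hF) hF.ne_top hθ hNθ
    have hHT : H ≤ N ⊓ stab θ := le_inf hHN (le_stab' hθ)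
    have h1 := deg_le_relIndex (T := N ⊓ stab θ) (N := N) inf_le_left hHT
      ((Subgroup.commutator_mono inf_le_right inf_le_right).trans hab)
      (isIrr_map (QuotientGroup.mk' H) N hω₀) (by
        intro k
        rw [Function.comp_apply, Function.comp_apply, map_one]
        congr 1
        apply Subtype.ext
        change ((k : G) : G ⧸ H) = 1
        exact (QuotientGroup.eq_one_iff _).2 k.2)
    rw [charDegree_map] at h1
    have h2 : (N ⊓ stab θ).relIndex N ∣ p ^ k := by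
      rw [← hk]
      exact Dvd.intro_left _ (Subgroup.relIndex_mul_relIndex H (N ⊓ stab θ) N hHT inf_le_left)
    obtain ⟨i, -, hi⟩ := (Nat.dvd_prime_pow hp).1 h2
    have h3 : charDegree ω₀ ∣ (N ⊓ stab θ).relIndex N := by
      rcases pow_dvd_or (hPS.deg_pow hω₀) ⟨i, hi⟩ with h4 | h4
      · exact h4
      · have h5 := Nat.le_antisymm h1 (Nat.le_of_dvd (charDegree_pos hω₀) h4)
        rw [h5]
    have h4 : (N ⊓ stab θ).relIndex N = (stab θ).relIndex N := by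
      rw [inf_comm, Subgroup.inf_relIndex_right]
    have h5 : (stab θ).relIndex N ∣ (stab θ).index := by
      rw [← Subgroup.relIndex_top_right]
      exact relIndex_dvd_relIndex le_top le_top
    rw [h4] at h3
    have h6 := ha χ₀ χ hχ₀ hχ (by rw [hd₀]; exact hω₀1)
      (by rw [hd₀, hdeg χ hχ ho]; exact (h3.trans h5).mul_right _)
    rw [← h6, hd₀]

end glev

end Cfsg.Agent.H675.Nd
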