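import Mathlib
import Cfsg.Agent.H675.Nd.PH3

/-!
# Case II for the group: conclusion
-/

set_option autoImplicit false
set_option linter.style.haveILetI false
set_option linter.unusedSectionVars false
open Cfsg

namespace Cfsg.Agent.H675.Nd

open Cfsg.Agent.Characters.Core Cfsg.Agent.Characters.Clifford Cfsg.Agent.H672 Cfsg.Agent.H672.RM
open Cfsg.Agent.H597.FrobA
open scoped commutatorElement

universe u v w

variable {G : Type u} [Group G] [Finite G] {N K H : Subgroup G} [hN : N.Normal] [hK : K.Normal]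
  [hH : H.Normal] {p : ℕ}

/-- A complement of `H` in `N`. -/
theorem exists_compl (hHN : H ≤ N) (hcop : (Nat.card H).Coprime (H.relIndex N)) :
    ∃ S : Subgroup G, S ≤ N ∧ (∀ s ∈ S, s ∈ H → s = 1) ∧
      (∀ n ∈ N, ∃ h ∈ H, ∃ s ∈ S, n = h * s) ∧ Nat.card S = H.relIndex N := by
  have hcard : Nat.card (H.subgroupOf N) = Nat.card H :=
    Nat.card_congr (Subgroup.subgroupOfEquivOfLe hHN).toEquiv
  obtain ⟨S', hS'⟩ := Subgroup.exists_right_complement'_of_coprime (N := H.subgroupOf N)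
    (by rw [hcard]; exact hcop)
  refine ⟨S'.map N.subtype, ?_, ?_, ?_, ?_⟩
  · rintro _ ⟨s, -, rfl⟩
    exact s.2
  · rintro _ ⟨s, hs, rfl⟩ h
    have h1 : s ∈ H.subgroupOf N ⊓ S' := ⟨h, hs⟩
    rw [hS'.disjoint.eq_bot, Subgroup.mem_bot] at h1
    rw [h1]
    rfl
  · intro n hn
    have h1 : (⟨n, hn⟩ : N) ∈ H.subgroupOf N ⊔ S' := by
      rw [hS'.sup_eq_top]
      exact Subgroup.mem_top _
    obtain ⟨h, hh, s, hs, e⟩ := Subgroup.mem_sup_of_normal_left.1 h1
    exact ⟨h, hh, s, ⟨s, hs, rfl⟩, (congrArg Subtype.val e).symm⟩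
  · rw [Nat.card_congr (S'.equivMapOfInjective N.subtype N.subtype_injective).symm.toEquiv,
      ← hS'.symm.index_eq_card]
    rfl

/-- **Case II**: `N` centralizes the `p`-complement. -/
theorem caseII_J [Group.IsSolvable G] (ha : Anti G) (hp : p.Prime) (hF : FrobQ K N p)
    (hHN : H ≤ N) (hcop : (Nat.card H).Coprime p) (hidx : ∃ k, H.relIndex N = p ^ k)
    (hna : ¬ ⁅N, N⁆ ≤ H)
    (h : PC (N.map (QuotientGroup.mk' H)) (K.map (QuotientGroup.mk' H)) p) : ⁅H, N⁆ = ⊥ := by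
  classical
  haveI := Fact.mk hp
  by_contra hJ
  obtain ⟨k, hk⟩ := hidx
  obtain ⟨S, hSN, hSH, hdec, hScard⟩ := exists_compl hHN (by rw [hk]; exact hcop.pow_right k)
  set π := QuotientGroup.mk' H with hπd
  have hπ1 : ∀ {g : G}, π g = 1 ↔ g ∈ H := fun {g} => QuotientGroup.eq_one_iff g
  have hlift : ∀ d ∈ N.map π, ∃ s ∈ S, π s = d := by
    rintro _ ⟨n, hn, rfl⟩
    obtain ⟨a, ha', s, hs, rfl⟩ := hdec n hn
    refine ⟨s, hs, ?_⟩
    rw [map_mul, hπ1.2 ha', one_mul]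
  have hJH : ⁅H, N⁆ ≤ H := Subgroup.commutator_le_left H N
  set Q : Subgroup G := S ⊓ (EE (N.map π)).comap π with hQ
  have hpS : ∀ s ∈ S, s ^ (p ^ k) = 1 := by
    intro s hs
    rw [← hk, ← hScard]
    exact congrArg Subtype.val (pow_card_eq_one' (x := (⟨s, hs⟩ : S)))
  -- fixed-point-free action
  have claim1 : ∀ x ∈ Q, x ≠ 1 → ∀ l : (⁅H, N⁆ : Subgroup G) →* ℂˣ, cl x l = l → l = 1 := by
    intro x hx hx1 l hl
    obtain ⟨j, -, hj⟩ := (Nat.dvd_prime_pow hp).1 (orderOf_dvd_of_pow_eq_one (hpS x hx.1))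
    have hj0 : j ≠ 0 := by
      rintro rfl
      rw [pow_zero, orderOf_eq_one_iff] at hj
      exact hx1 hj
    obtain ⟨i, rfl⟩ := Nat.exists_eq_succ_of_ne_zero hj0
    have hy1 : x ^ (p ^ i) ≠ 1 := by
      intro h2
      have h3 := orderOf_dvd_of_pow_eq_one h2
      rw [hj] at h3
      have h4 := Nat.le_of_dvd (pow_pos hp.pos _) h3
      exact absurd h4 (not_le.2 (Nat.pow_lt_pow_right hp.one_lt (Nat.lt_succ_self i)))
    have hyp : (x ^ (p ^ i)) ^ p = 1 := by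
      have h5 : p ^ i * p = orderOf x := by rw [hj, Nat.succ_eq_add_one, pow_succ]
      rw [← pow_mul, h5, pow_orderOf_eq_one]
    have hyQ : x ^ (p ^ i) ∈ Q := Q.pow_mem hx _
    have hyH : x ^ (p ^ i) ∉ H := fun h1 => hy1 (hSH _ hyQ.1 h1)
    by_contra hl1
    refine lf_ne_one hl1 (hx_of' hJH hp hcop hyp hyH (fun θ hθ hyθ => ?_) (isIrr_lf l)
      (Subgroup.pow_mem _ (mem_stab_iff.2 hl) _))
    refine lin_of_inv' ha hp hF hHN hcop ⟨k, hk⟩ hJH hθ ?_
    by_contra hne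
    exact hyH (caseII_inf ha hp hF hHN hcop ⟨k, hk⟩ h hθ hne (hSN hyQ.1) hyQ.2 hyθ)
  obtain ⟨l₀, hl₀⟩ := exists_lin_of_solv hJ
  have hfpf : H348.HasFPF Q := by
    haveI := finite_lin (⁅H, N⁆ : Subgroup G)
    letI := clDist (⁅H, N⁆ : Subgroup G)
    haveI : Nontrivial ((⁅H, N⁆ : Subgroup G) →* ℂˣ) := ⟨⟨l₀, 1, hl₀⟩⟩
    refine hasFPF_of ((⁅H, N⁆ : Subgroup G) →* ℂˣ)
      ((MulDistribMulAction.toMulAut G ((⁅H, N⁆ : Subgroup G) →* ℂˣ)).comp Q.subtype) ?_
    intro a ha1 v hv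
    have h1 : cl (a : G)⁻¹ v = v := hv
    exact claim1 a a.2 (fun e => ha1 (Subtype.ext e)) v (fix_inv_iff.1 h1)
  have hQp : IsPGroup p Q := by
    intro x
    exact ⟨k, Subtype.ext (hpS x x.2.1)⟩
  have hL1 : L (N.map π) 1 ≠ ⊥ := by
    intro e
    apply hna
    have e1 : L (N.map π) 1 = (⁅N, N⁆).map π := (Subgroup.map_commutator N N π).symm
    rw [e1, Subgroup.map_eq_bot_iff, hπd, QuotientGroup.ker_mk'] at e
    exact e
  rcases hfpf.cyclic_or_quaternion hp hQp with hcyc | ⟨rfl, -⟩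
  · -- `E` is abelian
    refine h.E_not_comm hL1 ?_
    intro e he e' he'
    obtain ⟨s, hs, rfl⟩ := hlift e (EE_le he)
    obtain ⟨s', hs', rfl⟩ := hlift e' (EE_le he')
    letI := hcyc.commGroup
    have h1 : (⟨s, hs, he⟩ : Q) * ⟨s', hs', he'⟩ = ⟨s', hs', he'⟩ * ⟨s, hs, he⟩ := mul_comm _ _
    have h2 : s * s' = s' * s := congrArg Subtype.val h1
    rw [← map_mul, h2, map_mul]
  · -- `p = 2`
    have key : ∀ n, 1 ≤ n → L (N.map π) n ≠ ⊥ → L (N.map π) (n + 1) = ⊥ →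
        ∃ ν : L (N.map π) n →* ℂˣ, ν ≠ 1 ∧ (∀ k ∈ L (N.map π) (n + 1), ev ν k = 1) ∧
          ∀ g, cl g ν = ν := by
      intro n hn hne hbot
      set A : Subgroup G := S ⊓ (L (N.map π) n).comap π with hA
      have hLE : L (N.map π) n ≤ EE (N.map π) := (L_anti _ hn).trans L1_le_EE
      have hAQ : A ≤ Q := fun x hx => ⟨hx.1, hLE hx.2⟩
      have hAf : H348.HasFPF A :=
        hfpf.of_injective (Subgroup.inclusion hAQ) (Subgroup.inclusion_injective hAQ)
      have hAc : IsCyclic A := by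
        refine hAf.isCyclic ?_
        intro a b
        apply Subtype.ext
        change (a : G) * b = b * a
        rw [← commutatorElement_eq_one_iff_mul_comm]
        refine hSH _ (S.mul_mem (S.mul_mem (S.mul_mem a.2.1 b.2.1) (S.inv_mem a.2.1))
          (S.inv_mem b.2.1)) ?_
        rw [← hπ1, map_commutatorElement, ← Subgroup.mem_bot, ← hbot]
        exact L_anti _ (by omega) (comm_L _ n n (Subgroup.commutator_mem_commutator a.2.2 b.2.2))
      obtain ⟨a, hgen⟩ := hAc.exists_generator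
      refine h.inv_of_cyc hne (z := π a) a.2.2 ?_
      intro d hd
      obtain ⟨s, hs, rfl⟩ := hlift d (L_le _ n hd)
      obtain ⟨m, hm⟩ := Subgroup.mem_zpowers_iff.1 (hgen ⟨s, hs, hd⟩)
      refine ⟨m, ?_⟩
      rw [← map_zpow]
      exact congrArg π (congrArg Subtype.val hm).symm
    by_cases h2 : L (N.map π) 2 = ⊥
    · obtain ⟨ν, hν1, hν, hinv⟩ := key 1 le_rfl hL1 h2
      exact hν1 (h.no ν hν hinv)
    · obtain ⟨ν, hν1, hν, hinv⟩ := key 2 (by omega) h2 h.L3_bot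
      exact hν1 (h.no2 hν hinv)

/-- **Case II for `G`.** -/
theorem G_caseII [Group.IsSolvable G] (ha : Anti G) (hp : p.Prime) (hF : FrobQ K N p)
    (hHN : H ≤ N) (hcop : (Nat.card H).Coprime p) (hidx : ∃ k, H.relIndex N = p ^ k)
    (hna : ¬ ⁅N, N⁆ ≤ H)
    (h : PC (N.map (QuotientGroup.mk' H)) (K.map (QuotientGroup.mk' H)) p) :
    (∃ d₁ d₂, ∀ χ : G → ℂ, IsIrrCharacter G χ → p ∣ charDegree χ →
      charDegree χ = d₁ ∨ charDegree χ = d₂) ∧ derivedSeries G 3 = ⊥ := by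
  have hJ := caseII_J ha hp hF hHN hcop hidx hna h
  have hcomm : ∀ a ∈ H, ∀ n ∈ N, a * n = n * a := by
    intro a ha' n hn
    rw [← commutatorElement_eq_one_iff_mul_comm, ← Subgroup.mem_bot, ← hJ]
    exact Subgroup.commutator_mem_commutator ha' hn
  constructor
  · obtain ⟨d₁, d₂, hd⟩ := h.two
    refine ⟨d₁, d₂, fun χ hχ hpχ => ?_⟩
    obtain ⟨θ, hθ, ho⟩ := exists_under (f := H.subtype) hχ
    have hNθ : N ≤ stab θ := by
      intro n hn
      refine ⟨mem_nrm H n, ?_⟩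
      funext a
      rw [tw_apply (mem_nrm H n)]
      congr 1
      apply Subtype.ext
      change n * a * n⁻¹ = a
      rw [← hcomm a a.2 n hn, mul_inv_cancel_right]
    obtain ⟨ω, hω, hω1, e⟩ := caseA ha hp hF hHN hcop hidx hχ hpχ hθ ho hNθ
    rw [e]
    exact hd ω hω hω1
  · obtain ⟨k, hk⟩ := hidx
    obtain ⟨S, hSN, hSH, hdec, -⟩ := exists_compl hHN (by rw [hk]; exact hcop.pow_right k)
    have h1 : derivedSeries G 1 ≤ N := by
      rw [derivedSeries_one]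
      exact hF.le
    have h2 : derivedSeries G 2 ≤ ⁅N, N⁆ := by
      rw [derivedSeries_succ]
      exact Subgroup.commutator_mono h1 h1
    have h3 : derivedSeries G 3 ≤ ⁅⁅N, N⁆, ⁅N, N⁆⁆ := by
      rw [derivedSeries_succ]
      exact Subgroup.commutator_mono h2 h2
    have hNS : ⁅N, N⁆ ≤ S := by
      rw [Subgroup.commutator_le]
      intro n hn n' hn'
      obtain ⟨a, ha', s, hs, rfl⟩ := hdec n hn
      obtain ⟨b, hb, t, ht, rfl⟩ := hdec n' hn'
      have e : ⁅a * s, b * t⁆ = ⁅s, t⁆ := by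
        have e1 : ∀ z ∈ N, ⁅a * s, z⁆ = ⁅s, z⁆ := by
          intro z hz
          have e2 : ⁅a * s, z⁆ = a * ⁅s, z⁆ * a⁻¹ * ⁅a, z⁆ := by
            simp only [commutatorElement_def]; group
          have hm : ⁅s, z⁆ ∈ N := N.mul_mem (N.mul_mem (N.mul_mem (hSN hs) hz)
            (N.inv_mem (hSN hs))) (N.inv_mem hz)
          rw [e2, commutatorElement_eq_one_iff_mul_comm.2 (hcomm a ha' z hz), mul_one,
            hcomm a ha' _ hm, mul_inv_cancel_right]
        rw [e1 _ hn']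
        have e3 : ⁅s, b * t⁆ = ⁅s, b⁆ * (b * ⁅s, t⁆ * b⁻¹) := by
          simp only [commutatorElement_def]; group
        have hm : ⁅s, t⁆ ∈ N := N.mul_mem (N.mul_mem (N.mul_mem (hSN hs) (hSN ht))
          (N.inv_mem (hSN hs))) (N.inv_mem (hSN ht))
        rw [e3, commutatorElement_eq_one_iff_mul_comm.2 (hcomm b hb s (hSN hs)).symm, one_mul,
          hcomm b hb _ hm, mul_inv_cancel_right]
      rw [e]
      exact S.mul_mem (S.mul_mem (S.mul_mem hs ht) (S.inv_mem hs)) (S.inv_mem ht)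
    rw [eq_bot_iff]
    intro x hx
    rw [Subgroup.mem_bot]
    have hx' := h3 hx
    refine hSH x ?_ ?_
    · have h4 : ⁅⁅N, N⁆, ⁅N, N⁆⁆ ≤ S := by
        rw [Subgroup.commutator_le]
        intro a ha' b hb
        exact S.mul_mem (S.mul_mem (S.mul_mem (hNS ha') (hNS hb)) (S.inv_mem (hNS ha')))
          (S.inv_mem (hNS hb))
      exact h4 hx'
    · have h5 : (⁅⁅N, N⁆, ⁅N, N⁆⁆).map (QuotientGroup.mk' H) ≤
          L (N.map (QuotientGroup.mk' H)) 3 := by
        rw [Subgroup.map_commutator, Subgroup.map_commutator]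
        exact comm_L (N.map (QuotientGroup.mk' H)) 1 1
      have h6 := h5 ⟨x, hx', rfl⟩
      rw [h.L3_bot, Subgroup.mem_bot] at h6
      exact (QuotientGroup.eq_one_iff x).1 h6

end Cfsg.Agent.H675.Nd
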