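import Mathlib
import Cfsg.Agent.H675.Nd.Tools

/-!
# Tools: fixed-point-free actions, duality, a fixed point lemma
-/

set_option autoImplicit false
set_option linter.style.haveILetI false
set_option linter.unusedSectionVars false
open Cfsg

namespace Cfsg.Agent.H675.Nd

open Cfsg.Agent.Characters.Core Cfsg.Agent.Characters.Clifford Cfsg.Agent.H672 Cfsg.Agent.H672.RM
open Cfsg.Agent.H597.FrobA
open scoped commutatorElement

universe u v w

theorem hasFPF_of {A : Type v} [Group A] (V : Type u) [CommGroup V] [Finite V] [Nontrivial V]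
    (φ : A →* MulAut V) (h : ∀ a : A, a ≠ 1 → ∀ v : V, φ a v = v → v = 1) : H348.HasFPF A := by
  haveI : Small.{0} V := Countable.toSmall V
  let E : Shrink.{0} V ≃* V := Shrink.mulEquiv
  haveI : Nontrivial (Shrink.{0} V) := E.toEquiv.nontrivial
  haveI : Finite (Shrink.{0} V) := Finite.of_equiv V E.toEquiv.symm
  refine ⟨Shrink.{0} V, inferInstance, inferInstance, inferInstance,
    (MulAut.congr E.symm).toMonoidHom.comp φ, fun a ha v hv => ?_⟩
  have h1 : E.symm (φ a (E v)) = v := hv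
  have h2 := h a ha (E v) (by rw [← E.symm_apply_eq]; exact h1)
  exact E.injective (h2.trans (map_one E).symm)

section frobq

variable {G : Type u} [Group G] [Finite G] {K N : Subgroup G} [hK : K.Normal] [hN : N.Normal]
  {r : ℕ}

/-- `G / N` is cyclic. -/
theorem cyc_of_frobQ (hF : FrobQ K N r) : IsCyclic (G ⧸ N) := by
  let π := QuotientGroup.mk' K
  have hπ : Function.Surjective π := QuotientGroup.mk'_surjective K
  let V : Subgroup (G ⧸ K) := N.map π
  haveI hV : V.Normal := Subgroup.Normal.map hN π hπ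
  have hcV : ∀ a b : V, a * b = b * a := by
    rintro ⟨_, a, ha, rfl⟩ ⟨_, b, hb, rfl⟩
    apply Subtype.ext
    change π a * π b = π b * π a
    have h1 := hF.comm (Subgroup.commutator_mem_commutator ha hb)
    rw [← QuotientGroup.eq_one_iff] at h1
    change π ⁅a, b⁆ = 1 at h1
    rw [map_commutatorElement, commutatorElement_eq_one_iff_mul_comm] at h1
    exact h1
  letI : CommGroup V := { (inferInstance : Group V) with mul_comm := hcV }
  haveI : Nontrivial V := by
    rw [Subgroup.nontrivial_iff_ne_bot]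
    intro h
    rw [Subgroup.map_eq_bot_iff, QuotientGroup.ker_mk'] at h
    exact hF.lt.not_ge h
  let φ0 : G →* MulAut V := (MulAut.conjNormal (H := V)).comp π
  have hφ0 : ∀ (g : G) (v : V), ((φ0 g v : V) : G ⧸ K) = π g * v * (π g)⁻¹ := fun g v => rfl
  let φ : G ⧸ N →* MulAut V := QuotientGroup.lift N φ0 (by
    intro n hn
    apply MulEquiv.ext
    intro v
    apply Subtype.ext
    rw [hφ0]
    have h1 : (⟨π n, n, hn, rfl⟩ : V) * v = v * ⟨π n, n, hn, rfl⟩ := hcV _ _
    have h2 : π n * v = v * π n := congrArg Subtype.val h1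
    rw [h2, mul_inv_cancel_right]
    rfl)
  have hF' : H348.HasFPF (G ⧸ N) := by
    refine hasFPF_of V φ ?_
    intro a ha v hv
    obtain ⟨g, rfl⟩ := QuotientGroup.mk_surjective a
    have hg : g ∉ N := fun h => ha ((QuotientGroup.eq_one_iff g).2 h)
    obtain ⟨_, n, hn, rfl⟩ := v
    have h1 : π g * π n * (π g)⁻¹ = π n := congrArg Subtype.val hv
    have h2 : g * n * g⁻¹ * n⁻¹ ∈ K := by
      rw [← QuotientGroup.eq_one_iff]
      change π (g * n * g⁻¹ * n⁻¹) = 1
      rw [map_mul, map_mul, map_mul, map_inv, map_inv, h1, mul_inv_cancel]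
    have h3 := hF.fpf g hg n hn h2
    exact Subtype.ext ((QuotientGroup.eq_one_iff n).2 h3)
  refine hF'.isCyclic ?_
  intro a b
  obtain ⟨a, rfl⟩ := QuotientGroup.mk_surjective a
  obtain ⟨b, rfl⟩ := QuotientGroup.mk_surjective b
  have h1 : ⁅a, b⁆ ∈ N := hF.le (by
    rw [_root_.commutator_def]
    exact Subgroup.commutator_mem_commutator (Subgroup.mem_top a) (Subgroup.mem_top b))
  rw [← QuotientGroup.eq_one_iff] at h1
  change QuotientGroup.mk' N ⁅a, b⁆ = 1 at h1
  rw [map_commutatorElement, commutatorElement_eq_one_iff_mul_comm] at h1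
  exact h1

end frobq

section dual

theorem card_hom_eq (Q : Type u) [CommGroup Q] [Finite Q] : Nat.card (Q →* ℂˣ) = Nat.card Q :=
  CommGroup.card_monoidHom_of_hasEnoughRootsOfUnity Q ℂ

theorem index_ker_le {A : Type u} {B : Type v} [Group A] [Group B] [Finite A] [Finite B]
    (φ : A →* (B →* ℂˣ)) : φ.ker.index ≤ φ.flip.ker.index := by
  haveI := finite_lin A
  haveI := finite_lin B
  let E : A →* (φ.flip.range →* ℂˣ) :=
    { toFun := fun a =>
        { toFun := fun q => (q : A →* ℂˣ) a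
          map_one' := rfl
          map_mul' := fun _ _ => rfl }
      map_one' := by
        apply MonoidHom.ext
        intro q
        exact map_one (q : A →* ℂˣ)
      map_mul' := fun a a' => by
        apply MonoidHom.ext
        intro q
        exact map_mul (q : A →* ℂˣ) a a' }
  have hE : E.ker = φ.ker := by
    ext a
    rw [MonoidHom.mem_ker, MonoidHom.mem_ker]
    constructor
    · intro h
      apply MonoidHom.ext
      intro b
      exact DFunLike.congr_fun h ⟨φ.flip b, b, rfl⟩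
    · intro h
      apply MonoidHom.ext
      rintro ⟨_, b, rfl⟩
      exact DFunLike.congr_fun h b
  haveI := finite_lin (φ.flip.range)
  rw [← hE, Subgroup.index_ker, Subgroup.index_ker, ← card_hom_eq (φ.flip.range)]
  exact Subgroup.card_le_card_group _

/-- **Duality**: the two kernels of a bimultiplicative map have the same index. -/
theorem card_pair {A : Type u} {B : Type v} [Group A] [Group B] [Finite A] [Finite B]
    (φ : A →* (B →* ℂˣ)) : φ.ker.index = φ.flip.ker.index := by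
  refine le_antisymm (index_ker_le φ) ?_
  have h := index_ker_le φ.flip
  have e : φ.flip.flip = φ := rfl
  rwa [e] at h

end dual

section frobfix

open Cfsg.Agent.H522 Cfsg.Agent.H864.FrobOrder

/-- Fixed points of a Frobenius group of automorphisms. -/
theorem frob_abs {G : Type u} {V : Type v} [Group G] [CommGroup V] [Finite V]
    [MulDistribMulAction G V] {x t : G} {p M : ℕ} (hp : p.Prime)
    (hx : ∀ v : V, x ^ p • v = v) (hxf : ∀ v : V, x • v = v → v = 1)
    (ht : ∀ v : V, t ^ M • v = v) (hn : ∃ k : ℕ, ∀ v : V, (t * x) • v = (x ^ k * t) • v)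
    (hc : ∀ i j : ℕ, ¬ M ∣ i → (∀ v : V, (t ^ i * x ^ j) • v = (x ^ j * t ^ i) • v) → p ∣ j) :
    Nat.card V = Nat.card {v : V // t • v = v} ^ M := by
  classical
  haveI := Fact.mk hp
  let ρ := MulDistribMulAction.toMulAut G V
  have hρ : ∀ (g : G) (v : V), ρ g v = g • v := fun _ _ => rfl
  haveI : Finite (MulAut V) := inferInstance
  set α := ρ x with hα
  set τ := ρ t with hτ
  have hαp : α ^ p = 1 := by
    rw [hα, ← map_pow]
    exact MulEquiv.ext fun v => hx v
  have hτM : τ ^ M = 1 := by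
    rw [hτ, ← map_pow]
    exact MulEquiv.ext fun v => ht v
  obtain ⟨k, hk⟩ := hn
  have hconj : τ * α = α ^ k * τ := by
    rw [hα, hτ, ← map_pow, ← map_mul, ← map_mul]
    exact MulEquiv.ext fun v => hk v
  have hcc : ∀ i j : ℕ, ¬ M ∣ i → τ ^ i * α ^ j = α ^ j * τ ^ i → p ∣ j := by
    intro i j hi h
    refine hc i j hi fun v => ?_
    rw [hα, hτ, ← map_pow, ← map_pow, ← map_mul, ← map_mul] at h
    exact DFunLike.congr_fun h v
  have hord : orderOf τ = M := by
    apply Nat.dvd_antisymm (orderOf_dvd_of_pow_eq_one hτM)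
    by_contra hcon
    have h1 := hcc _ 1 hcon (by rw [pow_orderOf_eq_one, one_mul, mul_one])
    exact hp.one_lt.ne' (Nat.dvd_one.1 h1)
  let F := Subgroup.zpowers α
  let H := Subgroup.zpowers τ
  have hpow : ∀ (a b : MulAut V), b ∈ Subgroup.zpowers a → ∃ n : ℕ, a ^ n = b := by
    intro a b hb
    exact mem_powers_iff_mem_zpowers.2 hb
  have hτF : τ ∈ Subgroup.normalizer (F : Set (MulAut V)) := by
    apply mem_normalizer_of_map_conj
    rw [MonoidHom.map_zpowers]
    have h1 : Subgroup.zpowers ((MulAut.conj τ).toMonoidHom α) ≤ F := by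
      rw [Subgroup.zpowers_le]
      change τ * α * τ⁻¹ ∈ F
      rw [hconj, mul_inv_cancel_right]
      exact F.pow_mem (Subgroup.mem_zpowers α) k
    refine Subgroup.eq_of_le_of_card_ge h1 ?_
    rw [Nat.card_zpowers, Nat.card_zpowers, orderOf_injective (MulAut.conj τ).toMonoidHom
      (MulAut.conj τ).injective]
  have hpair : FrobPair F H := by
    constructor
    · intro h hh f hf
      have h1 : h ∈ Subgroup.normalizer (F : Set (MulAut V)) := by
        have h2 : H ≤ Subgroup.normalizer (F : Set (MulAut V)) :=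
          Subgroup.zpowers_le.2 hτF
        exact h2 hh
      exact (Subgroup.mem_normalizer_iff.1 h1 f).1 hf
    · intro h hh h1 f hf hcom
      obtain ⟨i, rfl⟩ := hpow τ h hh
      obtain ⟨j, rfl⟩ := hpow α f hf
      have hi : ¬ M ∣ i := by
        rintro ⟨c, rfl⟩
        apply h1
        rw [pow_mul, hτM, one_pow]
      obtain ⟨c, rfl⟩ := hcc i j hi hcom
      rw [pow_mul, hαp, one_pow]
  have hFn : Group.IsNilpotent F := by
    have : IsPGroup p F := by
      rw [IsPGroup.iff_card]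
      have h1 : Nat.card F ∣ p := by
        rw [Nat.card_zpowers]
        exact orderOf_dvd_of_pow_eq_one hαp
      rcases (Nat.dvd_prime hp).1 h1 with h2 | h2
      · exact ⟨0, by rw [h2, pow_zero]⟩
      · exact ⟨1, by rw [h2, pow_one]⟩
    exact this.isNilpotent
  have key : Nat.card V = Nat.card (fixedBy H V) ^ Nat.card H :=
    card_eq hpair hFn (Nat.card V) V le_rfl inferInstance (by
      intro l hl
      exact hxf l (hl α (Subgroup.mem_zpowers α)))
  rw [key]
  have hH : Nat.card H = M := by rw [Nat.card_zpowers, hord]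
  rw [hH]
  congr 1
  refine Nat.card_congr
    { toFun := fun l => ⟨l.1, l.2 τ (Subgroup.mem_zpowers τ)⟩
      invFun := fun l => ⟨l.1, ?_⟩
      left_inv := fun _ => rfl
      right_inv := fun _ => rfl }
  intro h hh
  have h1 : τ • l.1 = l.1 := l.2
  obtain ⟨i, rfl⟩ := hpow τ h hh
  clear hh
  induction i with
  | zero => exact one_smul _ _
  | succ i ih => rw [pow_succ, mul_smul, h1, ih]

variable {G : Type u} [Group G] {J : Subgroup G} [hJ : J.Normal]

/-- The action of `G` on the linear characters of `J`. -/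
@[reducible] def clDist (J : Subgroup G) [hJ : J.Normal] : MulDistribMulAction G (J →* ℂˣ) where
  smul g l := cl g⁻¹ l
  one_smul l := by
    change cl (1 : G)⁻¹ l = l
    rw [inv_one, cl_one]
  mul_smul a b l := by
    change cl (a * b)⁻¹ l = cl a⁻¹ (cl b⁻¹ l)
    rw [mul_inv_rev, cl_mul]
  smul_mul _ _ _ := rfl
  smul_one _ := rfl

theorem cl_inv_eq_iff {a b : G} : (∀ l : J →* ℂˣ, cl a⁻¹ l = cl b⁻¹ l) ↔
    ∀ l : J →* ℂˣ, cl a l = cl b l := by
  constructor
  · intro h l
    have h1 := h (cl a l)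
    rw [← cl_mul, mul_inv_cancel, cl_one] at h1
    conv_rhs => rw [h1]
    rw [← cl_mul, inv_mul_cancel, cl_one]
  · intro h l
    have h1 := h (cl b⁻¹ l)
    rw [← cl_mul b⁻¹ b, inv_mul_cancel, cl_one] at h1
    conv_lhs => rw [← h1]
    rw [← cl_mul, mul_inv_cancel, cl_one]

theorem fix_inv_iff {a : G} {l : J →* ℂˣ} : cl a⁻¹ l = l ↔ cl a l = l := by
  constructor
  · intro h
    conv_lhs => rw [← h]
    rw [← cl_mul, inv_mul_cancel, cl_one]
  · intro h
    conv_lhs => rw [← h]
    rw [← cl_mul, mul_inv_cancel, cl_one]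

/-- **Fixed points of a Frobenius group of automorphisms of `Lin J`.** -/
theorem frob_fix [Finite J] {x t : G} {p M : ℕ} (hp : p.Prime)
    (hx : ∀ l : J →* ℂˣ, cl (x ^ p) l = l) (hxf : ∀ l : J →* ℂˣ, cl x l = l → l = 1)
    (ht : ∀ l : J →* ℂˣ, cl (t ^ M) l = l)
    (hn : ∃ k : ℕ, ∀ l : J →* ℂˣ, cl (t * x) l = cl (x ^ k * t) l)
    (hc : ∀ i j : ℕ, ¬ M ∣ i →
      (∀ l : J →* ℂˣ, cl (t ^ i * x ^ j) l = cl (x ^ j * t ^ i) l) → p ∣ j) :
    Nat.card (J →* ℂˣ) = Nat.card {l : J →* ℂˣ // cl t l = l} ^ M := by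
  haveI := finite_lin J
  letI := clDist J
  have h := frob_abs (G := G) (V := J →* ℂˣ) (x := x) (t := t) (M := M) hp
    (fun l => fix_inv_iff.2 (hx l)) (fun l hl => hxf l (fix_inv_iff.1 hl))
    (fun l => fix_inv_iff.2 (ht l)) (by
      obtain ⟨k, hk⟩ := hn
      exact ⟨k, cl_inv_eq_iff.2 hk⟩) (fun i j hi hij => hc i j hi (cl_inv_eq_iff.1 hij))
  rw [h]
  congr 1
  exact Nat.card_congr (Equiv.subtypeEquivRight fun l => fix_inv_iff)

end frobfix

section rad

/-- **A fixed point lemma.** -/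
theorem subsingleton_of_fix {D : Type u} {X : Type v} [Group D] [MulAction D X] (Q : Subgroup D)
    (hQ : ∀ g ∈ Q, ∀ x : X, g • x = x) (hab : ∀ a b : D, ⁅a, b⁆ ∈ Q)
    (hex : ∀ x : X, ∃ g, g ∉ Q ∧ g • x = x)
    (huniq : ∀ g, g ∉ Q → ∀ x y : X, g • x = x → g • y = y → x = y) : Subsingleton X := by
  constructor
  intro x y
  obtain ⟨g, hg, hgx⟩ := hex x
  obtain ⟨g', hg', hgy⟩ := hex y
  have h1 : g • (g' • x) = g' • x := by
    have e : g * g' = ⁅g, g'⁆ * (g' * g) := by rw [commutatorElement_def]; group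
    rw [← mul_smul, e, mul_smul, hQ _ (hab g g'), mul_smul, hgx]
  have h2 := huniq g hg _ _ h1 hgx
  exact huniq g' hg' _ _ h2 hgy

variable {G : Type u} [Group G] [Finite G] {B Z Q D : Subgroup G}

theorem nrm_of_comm (hZZ : ⁅Z, Z⁆ ≤ B) (hBZ : B ≤ Z) : Z ≤ Subgroup.normalizer (B : Set G) := by
  intro z hz
  rw [Subgroup.mem_normalizer_iff]
  intro b
  constructor
  · intro hb
    have h1 := hZZ (Subgroup.commutator_mem_commutator hz (hBZ hb))
    rw [commutatorElement_def] at h1
    have := B.mul_mem h1 hb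
    rwa [inv_mul_cancel_right] at this
  · intro hb
    have hb' : b ∈ Z := by
      have := Z.mul_mem (Z.mul_mem (Z.inv_mem hz) (hBZ hb)) hz
      have e : z⁻¹ * (z * b * z⁻¹) * z = b := by group
      rwa [e] at this
    have h1 := hZZ (Subgroup.commutator_mem_commutator hz hb')
    rw [commutatorElement_def] at h1
    have := B.mul_mem (B.inv_mem h1) hb
    have e : (z * b * z⁻¹ * b⁻¹)⁻¹ * (z * b * z⁻¹) = b := by group
    rwa [e] at this

/-- Extension of a linear character trivial on the derived subgroup. -/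
theorem exists_lin_ext (hBZ : B ≤ Z) (l0 : B →* ℂˣ) (hZZ : ⁅Z, Z⁆ ≤ B)
    (hl0 : ∀ (z : G) (hz : z ∈ ⁅Z, Z⁆), l0 ⟨z, hZZ hz⟩ = 1) :
    ∃ l : Z →* ℂˣ, ∀ b : B, l (Subgroup.inclusion hBZ b) = l0 b := by
  have hn := nrm_of_comm hZZ hBZ
  have hst : Z ≤ stab (lf l0 : B → ℂ) := by
    intro z hz
    refine ⟨hn hz, ?_⟩
    funext b
    rw [tw_apply (hn hz)]
    have h1 := hl0 _ (Subgroup.commutator_mem_commutator hz (hBZ b.2))
    have e : (⟨z * b * z⁻¹, conj_mem_of_mem (hn hz) b⟩ : B) =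
        ⟨⁅z, (b : G)⁆, hZZ (Subgroup.commutator_mem_commutator hz (hBZ b.2))⟩ * b := by
      apply Subtype.ext
      change z * b * z⁻¹ = ⁅z, (b : G)⁆ * b
      rw [commutatorElement_def]; group
    rw [e, lf_apply, map_mul, h1, one_mul]
    rfl
  obtain ⟨χ, hχ, ho⟩ := exists_over_incl hBZ (isIrr_lf l0)
  obtain ⟨c, hc, hc'⟩ := res_of_inv hBZ (isIrr_lf l0) hst hχ ho
  have h1 := hc' 1
  rw [map_one, lf_apply, map_one, Units.val_one, mul_one] at h1
  have hd : charDegree χ = 1 := by
    refine lin_of_comm (H := ⁅Z, Z⁆) (hZZ.trans hBZ) le_rfl hχ ?_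
    intro k
    have h2 := hc' ⟨k, hZZ k.2⟩
    rw [lf_apply, hl0 k k.2, Units.val_one, mul_one, ← h1] at h2
    exact h2
  obtain ⟨l, rfl⟩ := exists_hom_of_degree_one hχ hd
  refine ⟨l, fun b => ?_⟩
  have h2 := hc' b
  rw [← h1, lf_apply, lf_apply, lf_apply, map_one, Units.val_one, one_mul] at h2
  exact Units.ext h2

/-- **The radical is trivial.** -/
theorem rad_le [hB : B.Normal] (hBZ : B ≤ Z) (l0 : B →* ℂˣ)
    (hDl : D ≤ stab (lf l0 : B → ℂ)) (hDZ : D ≤ Subgroup.normalizer (Z : Set G))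
    (hab : ∀ a ∈ D, ∀ b ∈ D, ⁅a, b⁆ ∈ Q) (hZZ : ⁅Z, Z⁆ ≤ B)
    (hl0 : ∀ (z : G) (hz : z ∈ ⁅Z, Z⁆), l0 ⟨z, hZZ hz⟩ = 1)
    (hQ : ∀ l : Z →* ℂˣ, (∀ b : B, l (Subgroup.inclusion hBZ b) = l0 b) →
      ∀ g ∈ Q, g ∈ stab (lf l : Z → ℂ))
    (hex : ∀ l : Z →* ℂˣ, (∀ b : B, l (Subgroup.inclusion hBZ b) = l0 b) →
      ∃ g ∈ D, g ∉ Q ∧ g ∈ stab (lf l : Z → ℂ))
    (hfp : ∀ g ∈ D, g ∉ Q → ∀ z ∈ Z, g * z * g⁻¹ * z⁻¹ ∈ B → z ∈ B) : Z ≤ B := by
  classical
  let X := {l : Z →* ℂˣ // ∀ b : B, l (Subgroup.inclusion hBZ b) = l0 b}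
  have hcl : ∀ (g : G) (hg : g ∈ D) (l : Z →* ℂˣ),
      (∀ b : B, l (Subgroup.inclusion hBZ b) = l0 b) →
      ∀ b : B, (l.comp (cj (hDZ hg)).toMonoidHom) (Subgroup.inclusion hBZ b) = l0 b := by
    intro g hg l hl b
    have h1 := mem_stab_iff.1 (hDl hg)
    have h2 := DFunLike.congr_fun h1 b
    rw [cl_apply] at h2
    rw [← h2, ← hl]
    rfl
  letI : MulAction D X :=
    { smul := fun g l => ⟨l.1.comp (cj (hDZ (D.inv_mem g.2))).toMonoidHom,
        hcl _ (D.inv_mem g.2) l.1 l.2⟩
      one_smul := fun l => by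
        apply Subtype.ext
        apply MonoidHom.ext
        intro z
        change l.1 (cj _ z) = l.1 z
        congr 1
        apply Subtype.ext
        change ((1 : D) : G)⁻¹ * z * ((1 : D) : G)⁻¹⁻¹ = z
        simp
      mul_smul := fun a b l => by
        apply Subtype.ext
        apply MonoidHom.ext
        intro z
        change l.1 (cj _ z) = l.1 (cj _ (cj _ z))
        congr 1
        apply Subtype.ext
        change ((a * b : D) : G)⁻¹ * z * ((a * b : D) : G)⁻¹⁻¹ =
          (b : G)⁻¹ * ((a : G)⁻¹ * z * (a : G)⁻¹⁻¹) * (b : G)⁻¹⁻¹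
        push_cast
        group }
  have hsm : ∀ (g : D) (l : X), g • l = l ↔ (g : G) ∈ stab (lf l.1 : Z → ℂ) := by
    intro g l
    have h0 : g • l = l ↔ (g : G)⁻¹ ∈ stab (lf l.1 : Z → ℂ) := by
      constructor
      · intro h
        refine ⟨hDZ (D.inv_mem g.2), ?_⟩
        rw [tw_eq_comp (hDZ (D.inv_mem g.2))]
        funext z
        have h1 := DFunLike.congr_fun (congrArg Subtype.val h) z
        exact congrArg Units.val h1
      · rintro ⟨-, h⟩
        rw [tw_eq_comp (hDZ (D.inv_mem g.2))] at h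
        apply Subtype.ext
        apply MonoidHom.ext
        intro z
        exact Units.ext (congrFun h z)
    rw [h0, inv_mem_iff]
  have hsub : Subsingleton X := by
    refine subsingleton_of_fix (Q.subgroupOf D) ?_ ?_ ?_ ?_
    · intro g hg l
      rw [hsm]
      exact hQ l.1 l.2 g hg
    · intro a b
      exact hab a a.2 b b.2
    · intro l
      obtain ⟨g, hgD, hgQ, hg⟩ := hex l.1 l.2
      exact ⟨⟨g, hgD⟩, hgQ, (hsm _ _).2 hg⟩
    · intro g hg l l' hl hl'
      rw [hsm] at hl hl'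
      -- every element of `Z` is a commutator with `g`, modulo `B`
      haveI hBn : (B.subgroupOf Z).Normal := inferInstance
      have hcomm : ∀ a b : Z ⧸ B.subgroupOf Z, a * b = b * a := by
        intro a b
        obtain ⟨a, rfl⟩ := QuotientGroup.mk_surjective a
        obtain ⟨b, rfl⟩ := QuotientGroup.mk_surjective b
        have h1 : QuotientGroup.mk' (B.subgroupOf Z) ⁅a, b⁆ = 1 := by
          rw [QuotientGroup.mk'_apply, QuotientGroup.eq_one_iff, Subgroup.mem_subgroupOf]
          exact hZZ (Subgroup.commutator_mem_commutator a.2 b.2)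
        rw [map_commutatorElement, commutatorElement_eq_one_iff_mul_comm] at h1
        exact h1
      letI : CommGroup (Z ⧸ B.subgroupOf Z) :=
        { (inferInstance : Group (Z ⧸ B.subgroupOf Z)) with mul_comm := hcomm }
      let γ : Z ≃* Z := cj (hDZ g.2)
      have hγ : ∀ z : Z, ((γ z : Z) : G) = g * z * (g : G)⁻¹ := fun _ => rfl
      let f : Z →* Z ⧸ B.subgroupOf Z :=
        { toFun := fun z => (γ z : Z ⧸ B.subgroupOf Z) * (z : Z ⧸ B.subgroupOf Z)⁻¹
          map_one' := by rw [map_one, QuotientGroup.mk_one, inv_one, one_mul]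
          map_mul' := fun a b => by
            rw [map_mul, QuotientGroup.mk_mul, QuotientGroup.mk_mul, mul_inv, mul_mul_mul_comm] }
      have hf : ∀ z : Z, f z = ((γ z * z⁻¹ : Z) : Z ⧸ B.subgroupOf Z) := fun z => rfl
      have hker : f.ker = B.subgroupOf Z := by
        ext z
        rw [MonoidHom.mem_ker, hf, QuotientGroup.eq_one_iff, Subgroup.mem_subgroupOf,
          Subgroup.mem_subgroupOf]
        constructor
        · intro h
          exact hfp g g.2 hg z z.2 h
        · intro h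
          exact B.mul_mem (hB.conj_mem _ h g) (B.inv_mem h)
      have hrange : f.range = ⊤ := by
        apply Subgroup.eq_top_of_card_eq
        rw [← Subgroup.index_ker, hker]
        rfl
      apply Subtype.ext
      apply MonoidHom.ext
      intro z
      have hz : (z : Z ⧸ B.subgroupOf Z) ∈ f.range := by rw [hrange]; exact Subgroup.mem_top _
      obtain ⟨z', hz'⟩ := hz
      rw [hf, QuotientGroup.eq, Subgroup.mem_subgroupOf] at hz'
      have e1 : z = (γ z' * z'⁻¹) * ((γ z' * z'⁻¹)⁻¹ * z) := by group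
      have e2 : ∀ m : X, (g : G) ∈ stab (lf m.1 : Z → ℂ) → m.1 z =
          l0 ⟨(((γ z' * z'⁻¹)⁻¹ * z : Z) : G), hz'⟩ := by
        intro m hm
        conv_lhs => rw [e1]
        rw [map_mul, map_mul, map_inv]
        have h3 : m.1 (γ z') = m.1 z' := by
          have h4 := congrFun hm.2 z'
          rw [tw_eq_comp (hDZ g.2)] at h4
          exact Units.ext h4
        rw [h3, mul_inv_cancel, one_mul, ← m.2]
        rfl
      rw [e2 l hl, e2 l' hl']
  obtain ⟨l, hl⟩ := exists_lin_ext hBZ l0 hZZ hl0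
  intro z hz
  by_contra hzB
  obtain ⟨β, hβ, hβ'⟩ := exists_lin_ne (x := (⟨z, hz⟩ : Z)) hBZ hZZ hzB
  have hm : ∀ b : B, (l * β) (Subgroup.inclusion hBZ b) = l0 b := by
    intro b
    rw [MonoidHom.mul_apply, hl, hβ, mul_one]
  have h1 := congrArg Subtype.val (hsub.elim (⟨l * β, hm⟩ : X) ⟨l, hl⟩)
  apply hβ'
  have h2 := DFunLike.congr_fun h1 ⟨z, hz⟩
  change l ⟨z, hz⟩ * β ⟨z, hz⟩ = l ⟨z, hz⟩ at h2
  exact mul_eq_left.1 h2

end rad

end Cfsg.Agent.H675.Nd
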